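import Cfsg.Agent.H8.Cent2
import Cfsg.Agent.H8.NTabE6
import Cfsg.Agent.H7.ChainE6

/-! Classes of involutions in characteristic two, type `E6`. -/

set_option autoImplicit false
set_option linter.unusedSectionVars false

namespace Cfsg.Agent.H8

open Cfsg.Lie Matrix Cfsg.Agent.H7

def orbRE6 : List (List ℕ) := [[], [71], [71, 60], [71, 60, 44], [71, 60, 44, 39]]

noncomputable def orbCE6 : List (List ℕ × RowT) := [([], (.node (.node (.node (.node (.node (.node (.node (.leaf 0x171308b96345c09915) (.leaf 0x172a05)) (.leaf 0x5ca9c08b0b)) (.node (.leaf 0x171308b96345c11) (.leaf 0x2e54c208))) (.node (.node (.leaf 0x2e261172c68810) (.leaf 0x172a61109)) (.node (.leaf 0x2e54e04590c) (.leaf 0xb95385a0a)))) (.node (.node (.node (.node (.leaf 0x172a61171a2c211) (.leaf 0x5c03)) (.leaf 0xb89845c0a)) (.node (.leaf 0xb95308b8d10e) (.leaf 0xb89806))) (.node (.node (.leaf 0xb95308b8d00e) (.leaf 0x2e54c808)) (.node (.leaf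 0x2e54e045a0c) (.leaf 0xb89906))))) (.node (.node (.node (.node (.node (.leaf 0x5c4c22e58d170213) (.leaf 0x5a03)) (.leaf 0x5ca9845c0b)) (.node (.leaf 0x5ca9845c68b0f) (.leaf 0x2e54e008))) (.node (.node (.leaf 0xb9538116880e) (.leaf 0xb9538580a)) (.node (.leaf 0xb89845cb1a0e) (.leaf 0x2e54e108)))) (.node (.node (.node (.node (.leaf 0x171308b96345811) (.leaf 0x101)) (.leaf 0x171308b09)) (.node (.leaf 0xb89845cb190e) (.leaf 0x171005))) (.node (.node (.leaf 0x2e54e16100c) (.leaf 0xb9538130a)) (.node (.leaf 0x171308b9630d) (.leaf 0xb95306)))))) (.node (.node (.node (.node (.node (.node (.leaf 0x2e261172c68b81314) (.leaf 0x2e204)) (.leaf 0x2e261172c0c)) (.node (.leaf 0x2e261172c68b10) (.leaf 0x5c4c207))) (.node (.node (.leaf 0x5ca9845c6880f) (.leaf 0x2e261108)) (.node (.leaf 0x5ca9c0990b) (.leaf 0x172a70b09)))) (.node (.node (.node (.node (.leaf 0xb89845cb1a2e012) (.leaf 0xb02)) (.leaf 0xb95308b0a)) (.node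 (.leaf 0x172a7022d10d) (.leaf 0xb95006))) (.node (.node (.leaf 0x172a7022d00d) (.leaf 0x5c4c807)) (.node (.leaf 0x5ca9c2c20b) (.leaf 0x5ca9c07))))) (.node (.node (.node (.node (.node (.leaf 0xb89845cb1a2c212) (.leaf 0x2e504)) (.leaf 0x5c4c22e50b)) (.node (.leaf 0x5c4c22e58d10f) (.leaf 0x5ca9807))) (.node (.node (.leaf 0x5c4c22e58d00f) (.leaf 0x172a70809)) (.node (.leaf 0x172a61171a0d) (.leaf 0x5ca9907)))) (.node (.node (.node (.node (.leaf 0x2e54c22e345810) (.leaf 0x0)) (.leaf 0xb9538110a)) (.node (.leaf 0x172a6117190d) (.leaf 0x2d004))) (.node (.node (.leaf 0x5ca9c2d00b) (.leaf 0x172a70209)) (.node (.leaf 0x2e54c22e30c) (.leaf 0x171305)))))))),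
  ([71], (.node (.node (.node (.node (.node (.node (.leaf 0x0) (.leaf 0x5ca9c08b0b)) (.leaf 0x0)) (.node (.node (.leaf 0x0) (.leaf 0x172a61109)) (.node (.leaf 0x0) (.leaf 0xb95385a0a)))) (.node (.node (.node (.leaf 0x0) (.leaf 0xb89845c0a)) (.leaf 0x0)) (.node (.node (.leaf 0xb95308b8d00e) (.leaf 0x2e54c808)) (.node (.leaf 0x2e54e045a0c) (.leaf 0xb89906))))) (.node (.node (.node (.node (.leaf 0x0) (.leaf 0x5ca9845c0b)) (.leaf 0x0)) (.node (.node (.leaf 0x0) (.leaf 0xb9538580a)) (.node (.leaf 0xb89845cb1a0e) (.leaf 0x2e54e108)))) (.node (.node (.node (.leaf 0x0) (.leaf 0x171308b09)) (.leaf 0x0)) (.node (.node (.leaf 0x2e54e16100c) (.leaf 0x0)) (.node (.leaf 0x171308b9630d) (.leaf 0x0)))))) (.node (.node (.node (.node (.node (.leaf 0x0) (.leaf 0x2e261172c0c)) (.leaf 0x0)) (.node (.node (.leaf 0x0) (.leaf 0x2e261108)) (.node (.leaf 0x0) (.leaf 0x172a70b09)))) (.node (.node (.node (.leaf 0x0) (.leaf 0xb95308b0a))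 (.leaf 0x0)) (.node (.node (.leaf 0x172a7022d00d) (.leaf 0x5c4c807)) (.node (.leaf 0x5ca9c2c20b) (.leaf 0x0))))) (.node (.node (.node (.node (.leaf 0x0) (.leaf 0x5c4c22e50b)) (.leaf 0x0)) (.node (.node (.leaf 0x5c4c22e58d00f) (.leaf 0x172a70809)) (.node (.leaf 0x172a61171a0d) (.leaf 0x5ca9907)))) (.node (.node (.node (.leaf 0x0) (.leaf 0xb9538110a)) (.leaf 0x0)) (.node (.node (.leaf 0x5ca9c2d00b) (.leaf 0x0)) (.node (.leaf 0x2e54c22e30c) (.leaf 0x0)))))))),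
  ([71, 60], (.node (.node (.node (.node (.node (.node (.leaf 0x0) (.leaf 0x5ca9c08b0b)) (.leaf 0x0)) (.node (.node (.leaf 0x0) (.leaf 0x172a61109)) (.leaf 0x0))) (.node (.leaf 0x0) (.node (.node (.leaf 0x0) (.leaf 0x2e54c808)) (.node (.leaf 0x2e54e045a0c) (.leaf 0x0))))) (.node (.node (.node (.node (.leaf 0x0) (.leaf 0x5ca9845c0b)) (.leaf 0x0)) (.node (.node (.leaf 0x0) (.leaf 0xb9538580a)) (.leaf 0x0))) (.leaf 0x0))) (.node (.node (.leaf 0x0) (.node (.node (.node (.leaf 0x0) (.leaf 0xb95308b0a)) (.leaf 0x0)) (.node (.leaf 0x0) (.node (.leaf 0x5ca9c2c20b) (.leaf 0x0))))) (.node (.node (.leaf 0x0) (.node (.node (.leaf 0x0) (.leaf 0x172a70809)) (.node (.leaf 0x172a61171a0d) (.leaf 0x0)))) (.node (.node (.node (.leaf 0x0) (.leaf 0xb9538110a)) (.leaf 0x0)) (.node (.leaf 0x0) (.node (.leaf 0x2e54c22e30c) (.leaf 0x0)))))))),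
  ([71, 60, 44], (.node (.node (.node (.node (.node (.node (.leaf 0x0) (.leaf 0x5ca9c08b0b)) (.leaf 0x0)) (.leaf 0x0)) (.leaf 0x0)) (.leaf 0x0)) (.node (.leaf 0x0) (.node (.leaf 0x0) (.node (.node (.node (.leaf 0x0) (.leaf 0xb9538110a)) (.leaf 0x0)) (.leaf 0x0)))))),
  ([71, 60, 44, 39], (.leaf 0x0))]

def orbPE6 : List (List ℕ × List ℕ) := [([], []),
  ([71], []),
  ([71, 60], [1, 3, 4]),
  ([71, 60, 44], [0, 1, 3, 2, 0]),
  ([71, 60, 44, 39], [2, 0, 3, 1, 2, 3, 4, 5, 4, 3, 2, 0, 48, 50, 51, 55, 0, 3, 1, 2, 0, 3, 4, 3, 1, 5, 4, 3, 1, 2, 0, 3, 4])]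

def invTE6 : List (List ℕ) := [[71], [68, 66], [55, 65, 67]]

theorem agrE6 : Agree chevE6 fastE6 := agree_of_check smallE6 chainE6 ltE6

theorem ocmE6 : chkOC fastE6 = true := by decide +kernel

theorem orbE6 : chkOrb fastE6 orbRE6 orbCE6 = true := by decide +kernel

theorem progE6 : chkProg fastE6 ([] :: invTE6) orbPE6 = true := by decide +kernel

theorem tgtE6 : chkTgt fastE6 invTE6 = true := by decide +kernel

theorem rkE6 : invTE6.map (rkT fastE6) = [22, 32, 38] := by decide +kernel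

variable {K : Type*} [Field K] [Fintype K] [CharP K 2]

theorem cjTE6 {G : Type*} [Group G] {x : ℕ → K → G} (hx : IsFaith chevE6 x) (t : G) (ht : t ∈ GG x)
    (h : orderOf t = 2) : ∃ R ∈ invTE6, Cj (GG x) t (px x R) :=
  exists_cj_target hx agrE6 ocmE6 (Rs := orbRE6) (by decide) (by decide +kernel) orbE6 (by decide +kernel) progE6 ht h

theorem distTE6 : ∀ R ∈ invTE6, ∀ R' ∈ invTE6,
    Cj (GG (xu chevE6 K)) (px (xu chevE6 K) R) (px (xu chevE6 K) R') → R = R' := fun _ hR _ hR' h =>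
  List.inj_on_of_nodup_map (by rw [rkE6]; decide) hR hR'
    (rkT_eq_of_cj agrE6 (lt_of_chkTgt agrE6 tgtE6 hR) (lt_of_chkTgt agrE6 tgtE6 hR') h)

end Cfsg.Agent.H8
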