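import Cfsg.Agent.H8.Cent2
import Cfsg.Agent.H8.NTabF4
import Cfsg.Agent.H7.ChainF4

/-! Classes of involutions in characteristic two, type `F4`. -/

set_option autoImplicit false
set_option linter.unusedSectionVars false

namespace Cfsg.Agent.H8

open Cfsg.Lie Matrix Cfsg.Agent.H7

def orbRF4 : List (List ℕ) := [[], [47], [44], [47, 41], [47, 37], [44, 29], [47, 41, 30], [47, 41, 28], [47, 37, 33], [44, 29, 28], [47, 41, 30, 25], [47, 41, 28, 27], [44, 29, 28, 27]]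

noncomputable def orbCF4 : List (List ℕ × RowT) := [([], (.node (.node (.node (.node (.node (.node (.leaf 0xd140a68a0530f) (.leaf 0x68804)) (.leaf 0x1a2814d10a)) (.node (.node (.leaf 0x29940a60a0d) (.leaf 0x1)) (.leaf 0xd140a07))) (.node (.node (.node (.leaf 0x68a0534500c) (.leaf 0x5104)) (.leaf 0x5328108)) (.node (.node (.leaf 0x14ca0500a) (.leaf 0x0)) (.leaf 0x14c806)))) (.node (.node (.node (.node (.leaf 0x345029a2810d) (.leaf 0x14ca06)) (.leaf 0x14ca0530a)) (.node (.node (.leaf 0xa6502810b) (.leaf 0x68a04)) (.leaf 0x1a28106))) (.node (.node (.node (.leaf 0x1a2982880a) (.leaf 0xa03)) (.leaf 0x68a60a08)) (.node (.node (.leaf 0x5328808) (.leaf 0x301)) (.leaf 0x1a29806))))) (.node (.node (.node (.node (.node (.leaf 0x1a2814d140a0e) (.leaf 0xa65107)) (.leaf 0x345305109)) (.node (.node (.leaf 0x532814c10c) (.leaf 0x345305)) (.leaf 0xd14c107))) (.node (.node (.node (.leaf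 0xd140a6880b) (.leaf 0x5304)) (.leaf 0x345029a09)) (.node (.node (.leaf 0x29940809) (.leaf 0x1a02)) (.leaf 0x28805)))) (.node (.node (.node (.node (.leaf 0xa6502982880f) (.leaf 0x29905)) (.leaf 0x29940a09)) (.node (.node (.leaf 0xa6502980b) (.leaf 0xd103)) (.leaf 0xa65007))) (.node (.node (.node (.leaf 0x14ca0530510e) (.leaf 0x102)) (.leaf 0x68a05308)) (.node (.node (.leaf 0xd140a68a0b) (.leaf 0x0)) (.leaf 0x345005))))))),
  ([47], (.node (.node (.node (.leaf 0x0) (.node (.node (.leaf 0x0) (.leaf 0x28104)) (.node (.node (.leaf 0xa05006) (.leaf 0x0)) (.leaf 0x802)))) (.node (.node (.node (.node (.leaf 0x0) (.leaf 0xa02)) (.leaf 0x0)) (.node (.node (.leaf 0x5028107) (.leaf 0x0)) (.leaf 0x0))) (.node (.node (.node (.leaf 0x1a2982880a) (.leaf 0x0)) (.leaf 0x68a60a08)) (.node (.node (.leaf 0x28804) (.leaf 0x0)) (.leaf 0x1a29806))))) (.node (.node (.node (.node (.node (.leaf 0x0)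 (.leaf 0x5103)) (.leaf 0x345305109)) (.node (.node (.leaf 0x0) (.leaf 0x345305)) (.leaf 0xd14c107))) (.node (.leaf 0x0) (.node (.node (.leaf 0x140805) (.leaf 0x0)) (.leaf 0x0)))) (.node (.node (.node (.node (.leaf 0x0) (.leaf 0x101)) (.leaf 0x140a05)) (.node (.leaf 0x0) (.leaf 0x5003))) (.leaf 0x0))))),
  ([44], (.node (.node (.node (.node (.node (.node (.leaf 0x0) (.leaf 0x68804)) (.leaf 0x1a2814d10a)) (.node (.leaf 0x0) (.leaf 0xd140a07))) (.node (.node (.leaf 0x0) (.leaf 0x5328108)) (.node (.leaf 0x0) (.leaf 0x14c806)))) (.node (.node (.node (.leaf 0x0) (.leaf 0x14ca0530a)) (.node (.leaf 0x0) (.leaf 0x1a28106))) (.node (.node (.leaf 0x0) (.leaf 0x68a60a08)) (.node (.leaf 0x0) (.leaf 0x1a29806))))) (.node (.node (.node (.node (.leaf 0x0) (.leaf 0x345305109)) (.node (.leaf 0x0) (.leaf 0xd14c107))) (.node (.node (.leaf 0x0) (.leaf 0x345029a09)) (.node (.leaf 0x0) (.leaf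 0x28805)))) (.node (.node (.node (.leaf 0x0) (.leaf 0x29940a09)) (.node (.leaf 0x0) (.leaf 0xa65007))) (.node (.node (.leaf 0x0) (.leaf 0x68a05308)) (.node (.node (.leaf 0xd140a68a0b) (.leaf 0x0)) (.leaf 0x345005))))))),
  ([47, 41], (.node (.node (.node (.leaf 0x0) (.node (.node (.leaf 0x0) (.leaf 0x1102)) (.leaf 0x0))) (.node (.leaf 0x0) (.node (.node (.leaf 0x0) (.leaf 0x68a60a08)) (.node (.leaf 0x0) (.leaf 0x1a29806))))) (.node (.node (.node (.node (.leaf 0x0) (.leaf 0x345305109)) (.node (.leaf 0x0) (.leaf 0xd14c107))) (.leaf 0x0)) (.node (.node (.node (.leaf 0x0) (.leaf 0x8a03)) (.node (.leaf 0x0) (.leaf 0x201))) (.leaf 0x0))))),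
  ([47, 37], (.node (.node (.leaf 0x0) (.node (.leaf 0x0) (.node (.node (.leaf 0x0) (.leaf 0x68a60a08)) (.node (.node (.leaf 0x28804) (.leaf 0x0)) (.leaf 0x0))))) (.node (.node (.node (.node (.node (.leaf 0x0) (.leaf 0x5103)) (.leaf 0x0)) (.node (.leaf 0x0) (.leaf 0xd14c107))) (.leaf 0x0)) (.leaf 0x0)))),
  ([44, 29], (.node (.node (.node (.leaf 0x0) (.node (.node (.leaf 0x0) (.leaf 0x5328108)) (.node (.leaf 0x0) (.leaf 0x14c806)))) (.node (.leaf 0x0) (.node (.node (.leaf 0x0) (.leaf 0x68a60a08)) (.node (.leaf 0x0) (.leaf 0x1a29806))))) (.node (.node (.node (.node (.leaf 0x0) (.leaf 0x345305109)) (.node (.leaf 0x0) (.leaf 0xd14c107))) (.leaf 0x0)) (.node (.node (.node (.leaf 0x0) (.leaf 0x29940a09)) (.node (.leaf 0x0) (.leaf 0xa65007))) (.leaf 0x0))))),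
  ([47, 41, 30], (.node (.node (.leaf 0x0) (.node (.leaf 0x0) (.node (.node (.leaf 0x0) (.leaf 0x68a60a08)) (.leaf 0x0)))) (.node (.node (.node (.leaf 0x0) (.node (.leaf 0x0) (.leaf 0xd14c107))) (.leaf 0x0)) (.leaf 0x0)))),
  ([47, 41, 28], (.node (.node (.node (.leaf 0x0) (.node (.node (.leaf 0x0) (.leaf 0x1102)) (.leaf 0x0))) (.leaf 0x0)) (.node (.leaf 0x0) (.node (.node (.leaf 0x0) (.node (.leaf 0x0) (.leaf 0x201))) (.leaf 0x0))))),
  ([47, 37, 33], (.node (.node (.leaf 0x0) (.node (.leaf 0x0) (.node (.node (.leaf 0x0) (.leaf 0x68a60a08)) (.leaf 0x0)))) (.node (.node (.node (.leaf 0x0) (.node (.leaf 0x0) (.leaf 0xd14c107))) (.leaf 0x0)) (.leaf 0x0)))),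
  ([44, 29, 28], (.node (.node (.node (.leaf 0x0) (.node (.node (.leaf 0x0) (.leaf 0x5328108)) (.leaf 0x0))) (.leaf 0x0)) (.node (.leaf 0x0) (.node (.node (.leaf 0x0) (.node (.leaf 0x0) (.leaf 0xa65007))) (.leaf 0x0))))),
  ([47, 41, 30, 25], (.leaf 0x0)),
  ([47, 41, 28, 27], (.leaf 0x0)),
  ([44, 29, 28, 27], (.leaf 0x0))]

def orbPF4 : List (List ℕ × List ℕ) := [([], []),
  ([47], []),
  ([44], []),
  ([47, 41], [1, 0, 2, 1, 3, 2, 1, 0, 2, 3, 35, 0, 1, 0, 3, 2, 1, 0, 2, 3]),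
  ([47, 37], [3, 2]),
  ([44, 29], [1, 2, 1, 0, 2, 1, 3, 2, 1, 0, 2, 3, 33, 0, 2, 1, 3, 2, 1, 0, 2, 3]),
  ([47, 41, 30], [2, 1, 0, 3, 2, 1, 2, 3, 35, 41, 0, 1, 35, 1, 0, 3, 2, 1, 0, 2, 1, 2]),
  ([47, 41, 28], [0, 2, 1, 3, 2, 1, 0, 34, 36, 38, 0, 2, 1, 0, 2, 1, 3, 2, 1, 2]),
  ([47, 37, 33], [1, 0, 33, 2, 1, 35, 0, 1, 0, 3, 2, 1, 0, 2, 3, 2, 1, 0, 3, 2, 1, 2, 3, 35, 41, 0, 1, 35, 1, 0, 3, 2, 1, 0, 2, 1, 2]),
  ([44, 29, 28], [0, 1, 3, 2, 1, 0, 2, 3, 33, 2, 1, 35, 0, 1, 0, 3, 2, 1, 0, 2, 3, 0, 2, 1, 3, 2, 1, 0, 34, 36, 38, 0, 2, 1, 0, 2, 1, 3, 2, 1, 2]),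
  ([47, 41, 30, 25], [2, 1, 0, 3, 2, 1, 2, 3, 35, 41, 0, 1, 35, 1, 0, 3, 2, 1, 0, 2, 1, 3, 2, 1, 0, 0, 2, 1, 3, 2, 1, 0, 34, 36, 38, 0, 2, 1, 0, 2, 1, 3, 2, 1, 2]),
  ([47, 41, 28, 27], [0, 1, 2, 1, 0, 3, 2, 1, 0, 2, 1, 2, 3, 2, 1, 0, 2, 1, 2, 3, 33, 2, 1, 35, 0, 1, 0, 2, 3, 2, 1, 0, 2, 1, 3, 2, 1, 2, 1, 0, 3, 2, 1, 2, 3, 35, 41, 0, 1, 35, 1, 0, 3, 2, 1, 0, 2, 1, 3, 2, 1, 0, 0, 2, 1, 3, 2, 1, 0, 34, 36, 38, 0, 2, 1, 0, 2, 1, 3, 2, 1, 2]),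
  ([44, 29, 28, 27], [1, 2, 1, 0, 2, 1, 3, 2, 1, 0, 2, 3, 33, 2, 1, 35, 0, 1, 0, 2, 3, 2, 1, 0, 2, 1, 3, 2, 1, 0, 1, 2, 1, 0, 3, 2, 1, 0, 2, 1, 2, 3, 2, 1, 0, 2, 1, 2, 3, 33, 2, 1, 35, 0, 1, 0, 2, 3, 2, 1, 0, 2, 1, 3, 2, 1, 2, 1, 0, 3, 2, 1, 2, 3, 35, 41, 0, 1, 35, 1, 0, 3, 2, 1, 0, 2, 1, 3, 2, 1, 0, 0, 2, 1, 3, 2, 1, 0, 34, 36, 38, 0, 2, 1, 0, 2, 1, 3, 2, 1, 2])]

def invTF4 : List (List ℕ) := [[47], [44], [47, 44], [39, 45]]

theorem agrF4 : Agree chevF4 fastF4 := agree_of_check smallF4 chainF4 ltF4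

theorem ocmF4 : chkOC fastF4 = true := by decide +kernel

theorem orbF4 : chkOrb fastF4 orbRF4 orbCF4 = true := by decide +kernel

theorem progF4 : chkProg fastF4 ([] :: invTF4) orbPF4 = true := by decide +kernel

theorem tgtF4 : chkTgt fastF4 invTF4 = true := by decide +kernel

theorem rkF4 : invTF4.map (rkT fastF4) = [16, 16, 21, 24] := by decide +kernel

variable {K : Type*} [Field K] [Fintype K] [CharP K 2]

theorem cjTF4 {G : Type*} [Group G] {x : ℕ → K → G} (hx : IsFaith chevF4 x) (t : G) (ht : t ∈ GG x)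
    (h : orderOf t = 2) : ∃ R ∈ invTF4, Cj (GG x) t (px x R) :=
  exists_cj_target hx agrF4 ocmF4 (Rs := orbRF4) (by decide) (by decide +kernel) orbF4 (by decide +kernel) progF4 ht h

theorem posRootsF4 : chevF4.posRoots = [24, 25, 26, 27, 28, 29, 30, 31, 32, 33, 34, 35, 36, 37, 38, 39, 40, 41, 42, 43, 44, 45, 46, 47] := by decide +kernel

theorem notCjF4 {G : Type*} [Group G] {x : ℕ → K → G} (hx : IsFaith chevF4 x) : ¬ Cj (GG x) (x 47 1) (x 44 1) :=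
  not_cj_root hx (by decide) (fun u hu => by
      rw [UU_eq_XS posRootsF4] at hu
      simpa [px, Subgroup.mem_centralizer_singleton_iff, Commute, SemiconjBy, eq_comm] using
        XS_le.2 (fun k hk => commute_px (R := [47]) hx.toIsSt agrF4 (by decide +kernel) hk) hu)
    (by decide +kernel) fun w hw h => absurd (h ▸ nrm_W hw 47) (by decide +kernel)

theorem distTF4 : ∀ R ∈ invTF4, ∀ R' ∈ invTF4,
    Cj (GG (xu chevF4 K)) (px (xu chevF4 K) R) (px (xu chevF4 K) R') → R = R' := by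
  intro R hR R' hR' h
  have h1 := rkT_eq_of_cj agrF4 (lt_of_chkTgt agrF4 tgtF4 hR) (lt_of_chkTgt agrF4 tgtF4 hR') h
  have h2 := rkF4
  have h3 := notCjF4 (isChev_xu (D := chevF4) (F := K)).toIsFaith
  simp only [invTF4, List.map_cons, List.map_nil, List.cons.injEq, List.mem_cons, List.not_mem_nil, or_false] at h2 hR hR'
  rcases hR with rfl | rfl | rfl | rfl <;> rcases hR' with rfl | rfl | rfl | rfl <;>
    first | rfl | omega | exact absurd (by simpa [px] using h) h3 | exact absurd (by simpa [px] using h.symm) h3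

end Cfsg.Agent.H8
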