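import Cfsg.Agent.H8.Poin
import Cfsg.Agent.H8.InvE6

/-! The Poincaré polynomial of type `E6`. -/

set_option autoImplicit false
set_option maxRecDepth 100000

namespace Cfsg.Agent.H8

open Cfsg.Lie Cfsg.Agent.H7

theorem poinE6a0 (y : ℕ) : poin chevE6 {j | j ∈ [0, 1, 2, 3, 4, 5]} y = hor [1, 1, 1, 1, 2, 2, 2, 2, 3, 2, 2, 2, 2, 1, 1, 1, 1] y * poin chevE6 {j | j ∈ ([0, 1, 2, 3, 4] : List ℕ)} y :=
  poin_step' agrE6 (S := [56, 46, 42, 39, 37, 36]) (k := 5) [(7899273, 8, 23089744183297), (7899527, 9, 24193567686912), (7903112, 10, 25297407771138), (7960728, 11, 26414082622467), (7964792, 12, 27517922837252), (7964808, 1, 28621746275589), (8882328, 12, 6610055726854), (8886392, 13, 7713912718855), (8886408, 2, 8817736157192), (8944008, 14, 9934377519369), (8944024, 3, 11038200958730), (8947593, 15, 12142057687821), (8947609, 4, 13245881126926), (8947847, 16, 14349704695051), (8947863, 5, 15453528133900), (8948088, 4, 16557351635471), (8951673, 5, 17661208497169), (8951927, 6,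 18765032001040), (9009289, 6, 19881673232915), (9009543, 7, 20985496736530), (9013128, 8, 22089353597972), (9930889, 7, 77663114518), (9931143, 8, 1181486618133), (9934728, 9, 2285326702359), (9992344, 10, 3402001553688), (9996408, 11, 4505841768473), (9996424, 0, 5609665206810)] (by decide +kernel) (by decide +kernel) y

theorem poinE6a1 (y : ℕ) : poin chevE6 {j | j ∈ [0, 1, 2, 3, 4]} y = hor [1, 1, 1, 1, 2, 1, 1, 1, 1] y * poin chevE6 {j | j ∈ ([1, 2, 3, 4] : List ℕ)} y :=
  poin_step' agrE6 (S := [56, 46, 42, 39, 37, 36]) (k := 0) [(8947849, 0, 1), (8948103, 1, 4311875840), (8951688, 2, 8640332290), (9009304, 3, 21508588547), (9013368, 4, 25837175556), (9930904, 4, 12969117189), (9934968, 5, 17297704198), (9992584, 6, 30165960455), (9996169, 7, 34494416905), (9996423, 8, 38806292744)] (by decide +kernel) (by decide +kernel) y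

theorem poinE6a2 (y : ℕ) : poin chevE6 {j | j ∈ [1, 2, 3, 4]} y = hor [1, 1, 1, 2, 1, 1, 1] y * poin chevE6 {j | j ∈ ([2, 3, 4] : List ℕ)} y :=
  poin_step' agrE6 (S := [56, 46, 42, 39, 37, 36]) (k := 1) [(8947864, 0, 256), (8951928, 1, 4328587264), (9009544, 2, 17196843520), (9013129, 3, 21525299968), (9931144, 3, 8657372160), (9934729, 4, 12985828608), (9992345, 5, 25854084864), (9996409, 6, 30182671872)] (by decide +kernel) (by decide +kernel) y

theorem poinE6a3 (y : ℕ) : poin chevE6 {j | j ∈ [2, 3, 4]} y = hor [1, 1, 1, 1] y * poin chevE6 {j | j ∈ ([3, 4] : List ℕ)} y :=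
  poin_step' agrE6 (S := [56, 46, 42, 39, 37, 36]) (k := 2) [(8948104, 0, 65536), (8951689, 1, 4328521728), (9009305, 2, 12901810176), (9930905, 3, 8640462848)] (by decide +kernel) (by decide +kernel) y

theorem poinE6a4 (y : ℕ) : poin chevE6 {j | j ∈ [3, 4]} y = hor [1, 1, 1] y * poin chevE6 {j | j ∈ ([4] : List ℕ)} y :=
  poin_step' agrE6 (S := [56, 46, 42, 39, 37, 36]) (k := 3) [(8951944, 0, 16777216), (9009560, 1, 8589934592), (9931160, 2, 4328521728)] (by decide +kernel) (by decide +kernel) y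

theorem poinE6a5 (y : ℕ) : poin chevE6 {j | j ∈ [4]} y = hor [1, 1] y * poin chevE6 {j | j ∈ ([] : List ℕ)} y :=
  poin_step' agrE6 (S := [56, 46, 42, 39, 37, 36]) (k := 4) [(9013384, 0, 4294967296), (9934984, 1, 0)] (by decide +kernel) (by decide +kernel) y

theorem poinE6 (y : ℕ) : (poin chevE6 {j | j ∈ [0, 1, 2, 3, 4, 5]} y : ℤ) * (y - 1) ^ 6 = ([2, 5, 6, 8, 9, 12].map fun d : ℕ => (y : ℤ) ^ d - 1).prod := by
  rw [poinE6a0, poinE6a1, poinE6a2, poinE6a3, poinE6a4, poinE6a5, poin_empty (by simp)]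
  simp only [hor, List.foldr, List.map_cons, List.map_nil, List.prod_cons, List.prod_nil]
  push_cast
  ring

end Cfsg.Agent.H8
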