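import Cfsg.Agent.H8.TwMk

/-! Involutions in twisted groups of characteristic two. -/

set_option autoImplicit false
set_option linter.unusedSectionVars false

namespace Cfsg.Agent.H8

open Cfsg.Lie Matrix Cfsg.Agent.H7

variable {D : ChevalleyDatum} {K : Type*} [Field K] {G : Type*} [Group G] {x : ℕ → K → G}
  [hD : RootFacts D] [hN : NFacts D] {w w' : Equiv.Perm ℕ} {g : G} {S : Subgroup G} {O : Fin D.rank → Set ℕ}

/-- Every involution is conjugate to an element of `N`. -/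
theorem OrbSub.exists_conj_J (hS : OrbSub D x S O) (hx : IsFaith D x) {t : G} (ht : t ∈ S) (h2 : t * t = 1) :
    ∃ g ∈ S, ∃ w, NRep D x (g * t * g⁻¹) w ∧ ∃ J : Set ℕ, (∀ i j : Fin D.rank, i.1 ∈ J → j.1 ∈ O i → j.1 ∈ J) ∧
      ∀ r, D.IsPosRoot r → (D.IsPosRoot (w r) ↔ D.InRootSub J r) := by
  have hx' := hx.toIsSt
  obtain ⟨w, ⟨g, hg, hw⟩, hmax⟩ := exists_max_len (D := D) (P := fun w => ∃ g ∈ S, g * t * g⁻¹ ∈ Cell D x w) (by
    obtain ⟨w, -, hw⟩ := hx'.exists_cell (hS.le ht)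
    exact ⟨w, 1, one_mem _, by simpa using hw⟩)
  have hW := Cell.mem_W hw
  obtain ⟨u, hu, n, hn, u', hu', h3⟩ := hx'.cell_sharp hw
  obtain ⟨huS, -⟩ := hS.sharp _ (mul_mem (mul_mem hg ht) (inv_mem hg)) u hu w n hn u' hu' h3
  obtain ⟨a, ha, c, hc, h4⟩ := hx'.UU_eq_Up_Um hW (mul_mem (Um_le_UU x w hu') hu)
  set g₁ := u⁻¹ * g with hg₁
  have hg₁S : g₁ ∈ S := mul_mem (inv_mem huS) hg
  have h5 : g₁ * t * g₁⁻¹ = n * (a * c) := by
    rw [← h4, hg₁, _root_.mul_inv_rev, inv_inv]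
    calc u⁻¹ * g * t * (g⁻¹ * u) = u⁻¹ * (g * t * g⁻¹) * u := by simp [mul_assoc]
      _ = _ := by rw [h3]; simp [mul_assoc]
  set t₁ := g₁ * t * g₁⁻¹ with ht₁
  have ht₁S : t₁ ∈ S := mul_mem (mul_mem hg₁S ht) (inv_mem hg₁S)
  have hsq : t₁ * t₁ = 1 := by
    rw [ht₁]; simp only [mul_assoc, inv_mul_cancel_left]; rw [← mul_assoc t, h2]; simp
  have hc₁ : t₁ ∈ Cell D x w := h5 ▸ Cell.mul_right hn.mem_cell (h4 ▸ UU_le_BB x (mul_mem (Um_le_UU x w hu') hu))
  have hmax' : ∀ m ∈ S, ∀ v, m * t₁ * m⁻¹ ∈ Cell D x v → len D v ≤ len D w := fun m hm v hv =>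
    hmax v ⟨m * g₁, mul_mem hm hg₁S, by simpa [ht₁, mul_assoc] using hv⟩
  have hinv : w⁻¹ = w := by
    refine cell_unique hx (hx'.cell_inv hc₁) ?_
    rwa [inv_eq_of_mul_eq_one_right hsq]
  have hww : w * w = 1 := by nth_rewrite 1 [← hinv]; exact inv_mul_cancel w
  have hc1 : c = 1 := by
    have e : n * c * n⁻¹ = (n * a * n⁻¹)⁻¹ * (a * c)⁻¹ * (n * n)⁻¹ := by
      rw [h5] at hsq
      have : (a * c)⁻¹ = n * (a * c) * n := by rw [eq_comm, ← mul_eq_one_iff_eq_inv, mul_assoc, hsq]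
      rw [this]; simp [mul_assoc]
    have h6 := eq_one_of_VV_BB hx (hn.conj_XS hx' (T := {r | D.IsNegRoot r}) (fun s hs => hs.2) hc) (by
      rw [e]
      refine mul_mem (mul_mem (inv_mem (UU_le_BB x (hn.conj_XS hx' (T := {r | D.IsPosRoot r}) (fun s hs => hs.2) ha)))
        (inv_mem (UU_le_BB x (mul_mem (Up_le_UU x w ha) (Um_le_UU x w hc))))) (inv_mem (HH_le_BB x ?_))
      exact (hww ▸ hn.mul hx' hn).mem_HH hx')
    simpa using h6
  set J : Set ℕ := {j | j < D.rank ∧ D.IsPosRoot (w (D.simple j))} with hJ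
  have hJO : ∀ i j : Fin D.rank, i.1 ∈ J → j.1 ∈ O i → j.1 ∈ J := fun i j hi hj =>
    ⟨j.2, hS.sync _ ht₁S w hc₁ i j hj hi.2⟩
  have hA : ∀ i : Fin D.rank, i.1 ∈ J → D.IsPosRoot (w (D.simple i)) ∧ D.InRootSub J (w (D.simple i)) := by
    intro i hi
    refine ⟨hi.2, inRootSub_mono (fun j hj => hJO i j hi hj) (inRootSub_of_wJ hi.2 ?_)⟩
    have hW' := mul_mem (wJ_mem_W (O i)) hW
    refine negRoot_of_not_pos (W_lt hW' (simple_lt i)) fun h6 => ?_
    obtain ⟨m, hm, h7⟩ := hS.rep i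
    have h8 := len_WJ_mul hW (fun j hj => by rw [hinv]; exact (hJO i j hi hj).2) (wJ_mem (O i))
    have h9 := hx'.cell_mul_of_len h7.mem_cell hc₁ h8
    have h10 := len_mul_WJ hW' (fun j hj => hS.sync _ (mul_mem hm ht₁S) _ h9 i j hj h6) (wJ_mem (O i))
    have h11 := hmax' m hm _ (hx'.cell_mul_of_len h9 (wJ_inv (D := D) (O i) ▸ (h7.inv hx').mem_cell) h10)
    have := len_wJ_pos (hS.self i)
    omega
  have hcomm := commute_wJ hW hinv hA
  have hpres : ∀ r, D.InRootSub J r → D.InRootSub J (w r) := fun r hr => by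
    obtain ⟨v, hv, i, hi, rfl⟩ := exists_WJ_simple hr
    have := (inRootSub_WJ (conj_mem_WJ hW (fun i hi => (hA i hi).2) hv)).2 (hA i hi).2
    simpa using this
  have hB : ∀ r, D.IsPosRoot r → D.IsPosRoot (w r) → D.InRootSub J r := by
    intro r hr h6
    by_contra h7
    have h8 := W_neg_of_J (J := Set.univ) (mul_mem hW (wJ_mem_W J)) (fun i _ => by
      by_cases hi : i.1 ∈ J
      · have h9 := wJ_simple (D := D) hi
        exact W_neg_neg hW h9 (W_pos_of_J hW (fun i hi => hi.2) ((neg_pos_iff h9.1).2 h9)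
          (inRootSub_neg ((inRootSub_WJ (wJ_mem J)).2 (simple_inRootSub.2 hi))))
      · have h9 := negRoot_of_not_pos (W_lt hW (simple_lt i)) fun h => hi ⟨i.2, h⟩
        rw [mul_inv_eq_iff_eq_mul.1 hcomm]
        refine W_neg_neg (wJ_mem_W J) h9 (WJ_pos (wJ_mem J) ((neg_pos_iff h9.1).2 h9) fun h => hi ?_)
        have := hpres _ (inRootSub_neg h)
        rwa [neg_neg' h9.1, ← Equiv.Perm.mul_apply, hww, Equiv.Perm.one_apply, simple_inRootSub] at this)
      (WJ_pos (wJ_mem J) hr h7) (inRootSub_iff.2 ⟨W_lt (wJ_mem_W J) hr.1, fun i hi => absurd trivial hi⟩)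
    rw [← Equiv.Perm.mul_apply, mul_assoc, wJ_mul_self, mul_one] at h8
    exact not_neg_of_pos h6 h8
  refine ⟨g₁, hg₁S, w, ?_, J, hJO, fun r hr => ⟨hB r hr, W_pos_of_J hW (fun i hi => hi.2) hr⟩⟩
  obtain ⟨m, hm, h6⟩ := hS.exists_rep_wJ hx' hJO
  have h7 : m ∈ hx'.cellSubgroup J := ⟨_, wJ_mem J, h6.mem_cell⟩
  obtain ⟨v, hv, h8⟩ := mul_mem (mul_mem h7 (show a ∈ hx'.cellSubgroup J from
    ⟨1, one_mem _, Cell.of_mem_BB (UU_le_BB x (Up_le_UU x w ha))⟩)) (inv_mem h7)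
  have h9 : NRep D x (m * n * m⁻¹) w := by
    have := (h6.mul hx' hn).mul hx' (h6.inv hx')
    rwa [← mul_inv_eq_iff_eq_mul.1 hcomm, mul_inv_cancel_right] at this
  have h10 := len_mul_WJ hW (fun i hi => hi.2) hv
  have h11 := hmax' m hm _ (by
    have := hx'.cell_mul_of_len h9.mem_cell h8 h10
    simpa [h5, hc1, mul_assoc] using this)
  obtain rfl := eq_one_of_len (WJ_le J hv) (by omega)
  have h12 := eq_one_of_VV_BB hx (h6.conj_XS hx' (T := {r | D.IsNegRoot r})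
    (fun s hs => wJ_neg hs.1 (hB s hs.1 hs.2)) ha) (hx'.mem_cell_one.1 h8)
  have h13 : a = 1 := by simpa using h12
  rw [← ht₁, h5, h13, hc1]; simpa using hn

variable {T : Fast}

/-- Apply a word in the fundamental reflections to a root. -/
noncomputable def wdL (T : Fast) (l : List ℕ) (r : ℕ) : ℕ := List.rec r (fun i _ ih => reT T i ih) l

omit hD hN in
theorem fl_cons_of_lt {i : ℕ} (hi : i < D.rank) (l : List ℕ) : fl D (i :: l) = ⟨i, hi⟩ :: fl D l := by simp [fl, hi]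

omit hN in
theorem wdL_eq (hT : Agree D T) (l : List ℕ) (r : ℕ) : wdL T l r = wordW D (fl D l) r := by
  induction l with
  | nil => rfl
  | cons i l ih =>
    show reT T i (wdL T l r) = _
    rw [ih, reT]
    by_cases hi : i < D.rank
    · rw [fl_cons_of_lt hi, wordW_cons, Equiv.Perm.mul_apply]
      cases h : band (nlt i T.l) (nlt (wordW D (fl D l) r) T.n) with
      | true =>
        rw [band_iff, nlt_iff, nlt_iff, hT.n_eq] at h
        exact (hT.re i hi _ h.2).symm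
      | false =>
        rw [← Bool.not_eq_true, band_iff, nlt_iff, nlt_iff, hT.n_eq, hT.l_eq] at h
        exact (W_apply_ge (sref_mem _) (not_lt.1 fun h' => h ⟨hi, h'⟩)).symm
    · rw [show fl D (i :: l) = fl D l by simp [fl, hi]]
      cases h : band (nlt i T.l) (nlt (wordW D (fl D l) r) T.n) with
      | true => rw [band_iff, nlt_iff, hT.l_eq] at h; exact absurd h.1 hi
      | false => rfl

omit hD hN in
theorem fl_append (l l' : List ℕ) : fl D (l ++ l') = fl D l ++ fl D l' := List.filterMap_append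

omit hD hN in
theorem fl_reverse (l : List ℕ) : fl D l.reverse = (fl D l).reverse := List.filterMap_reverse

omit hN in
theorem pos_iff_ng (hT : Agree D T) {r : ℕ} (hr : r < D.nroots) : D.IsPosRoot r ↔ T.ng r < r := by
  rw [← hT.neg r hr, ← ordv_lt_iff (neg_lt hr) hr, ordv_neg hr, pos_iff hr]; omega

/-- Check the set of inversions of a word. -/
noncomputable def chkInv (T : Fast) (m : ℕ) (l : List ℕ) : Bool :=
  allBelow T.n fun r => bor (Nat.ble r (T.ng r)) (nlt (T.ng (wdL T l r)) (wdL T l r) ==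
    allBelow T.l fun i => bor (tbit m i) (ibeq (T.cor r i) 0))

omit hD hN in
theorem nWd_flatten {Ws : List (List ℕ)} (hW : ∀ l ∈ Ws, nWd D x (fl D l) ∈ S) {v : List (List ℕ)}
    (hv : ∀ l ∈ v, l ∈ Ws) : nWd D x (fl D v.flatten) ∈ S := by
  induction v with
  | nil => exact one_mem _
  | cons l v ih =>
    rw [List.flatten_cons, fl_append, nWd_append]
    exact mul_mem (hW l (hv l (by simp))) (ih fun l hl => hv l (by simp [hl]))

/-- Check that the listed elements represent all classes of involutions of the relative Weyl group. -/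
noncomputable def chkMasks (T : Fast) (oL : ℕ → List ℕ) (Ws Bs : List (List ℕ)) (C : List (List ℕ × List (List ℕ))) :
    Bool := allBelow (2 ^ T.l) fun m => (List.range T.l).any (fun i => tbit m i && (oL i).any fun j => !tbit m j) ||
      ((C.getD m ([], [])).1 ∈ Bs && (C.getD m ([], [])).2.all (· ∈ Ws) &&
        chkInv T m ((C.getD m ([], [])).2.flatten ++ (C.getD m ([], [])).1 ++ (C.getD m ([], [])).2.flatten.reverse))

variable [CharP K 2]

theorem exists_cj_base [Fintype K] {oL : ℕ → List ℕ} (hS : OrbSub D x S fun i => {j | j ∈ oL i}) (hx : IsFaith D x)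
    (hT : Agree D T) (hO : ∀ i : Fin D.rank, ∀ j ∈ oL i, j < D.rank) {Ws Bs : List (List ℕ)}
    (hW : ∀ l ∈ Ws, nWd D x (fl D l) ∈ S) {P : G → Prop}
    (hB : ∀ b ∈ Bs, ∃ n ∈ S, NRep D x n (wordW D (fl D b)) ∧ n * n = 1 ∧ P n) {C : List (List ℕ × List (List ℕ))}
    (hC : chkMasks T oL Ws Bs C = true) {t : G} (ht : t ∈ S) (h2 : t * t = 1) : ∃ n, Cj S t n ∧ P n := by
  classical
  have hx' := hx.toIsSt
  obtain ⟨g, hg, w, hn, J, hJ, hw⟩ := hS.exists_conj_J hx ht h2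
  set m := Nat.ofBits fun i : Fin D.rank => decide (i.1 ∈ J)
  have hm : ∀ i < D.rank, tbit m i = true ↔ i ∈ J := fun i hi => by rw [tbit_eq, Nat.testBit_ofBits_lt _ _ hi]; simp
  simp only [chkMasks, allBelow_iff, Bool.or_eq_true, List.any_eq_true, Bool.and_eq_true, List.mem_range,
    decide_eq_true_eq, List.all_eq_true, hT.l_eq, Bool.not_eq_true'] at hC
  obtain ⟨⟨h3, h4⟩, h5⟩ := (hC m (Nat.ofBits_lt_two_pow _)).resolve_left (by
    rintro ⟨i, hi, h3, j, hj, h4⟩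
    have := hO ⟨i, hi⟩ j hj
    rw [(hm j this).2 (hJ ⟨i, hi⟩ ⟨j, this⟩ ((hm i hi).1 h3) hj)] at h4
    exact absurd h4 (by simp))
  obtain ⟨n, hnS, h6, h7, h8⟩ := hB _ h3
  generalize C.getD m ([], []) = c at h3 h4 h5 h6
  have h9 : Cj S n _ := ⟨_, nWd_flatten hW h4, rfl⟩
  have h10 := ((NRep.nWd x (fl D c.2.flatten)).mul hx' h6).mul hx' ((NRep.nWd x (fl D c.2.flatten)).inv hx')
  rw [← wordW_reverse, ← wordW_append, ← wordW_append, ← fl_reverse, ← fl_append, ← fl_append] at h10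
  have h11 : Cj S t _ := ⟨g, hg, rfl⟩
  refine ⟨n, (h11.trans (cj_of_NRep hx' h10 (eq_of_inv hn.mem_W (wordW_mem _) (fun r hr => ?_) ▸ hn) (h9.mul_self h7)
    (h11.mul_self h2) (h9.mem hnS) (h11.mem ht))).trans h9.symm, h8⟩
  simp only [chkInv, allBelow_iff, bor_iff, Nat.ble_eq, beq_iff_eq, hT.n_eq, wdL_eq hT] at h5
  rw [hw r hr, pos_iff_ng hT (W_lt (wordW_mem _) hr.1), ← nlt_iff,
    (h5 r hr.1).resolve_left (not_le.2 ((pos_iff_ng hT hr.1).1 hr)), allBelow_iff, inRootSub_iff, hT.l_eq]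
  refine ⟨fun h i hi => ?_, fun h => ⟨hr.1, fun i hi => ?_⟩⟩
  · rw [bor_iff, hm i hi, ibeq_iff, ← hT.cor r hr.1 i hi]
    exact or_iff_not_imp_left.2 (h.2 ⟨i, hi⟩)
  · have := h i i.2
    rw [bor_iff, hm i i.2, ibeq_iff, ← hT.cor r hr.1 i i.2] at this
    exact this.resolve_left hi

/-- Run a program of conjugations. -/
noncomputable def runT (T : Fast) (P : List (Bool × List ℕ)) : SW → SW :=
  List.rec (fun w => w) (fun c _ ih w => ih (c.1.rec (wmap 2 (wdL T c.2) (fun _ => 1) w)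
    (scol T 2 (fun k => k) (wapp (toSW c.2) (wapp w (winv 2 (toSW c.2) [])))))) P

/-- The steps of a program are allowed. -/
noncomputable def okT (T : Fast) (rf : ℕ → ℕ) (Ws : List (List ℕ)) (P : List (Bool × List ℕ)) : Bool :=
  P.all fun c => c.1.rec (c.2 ∈ Ws) (c.2.all (fun r => nlt r T.n && nlt (T.ng r) r) &&
    weq T 2 (fun k => k) (toSW (c.2.map rf)) (toSW c.2))

variable {σ : G →* G} {ρ : Equiv.Perm ℕ} {π : Fin D.rank → Fin D.rank} {f : ℕ → K → K}

omit hD hN [CharP K 2] in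
theorem Twist.map_px (h : Twist D x σ ρ π f) (hf : ∀ r, f r 1 = 1) (L : List ℕ) : σ (px x L) = px x (L.map ρ) := by
  induction L with
  | nil => simp
  | cons r L ih => rw [List.map_cons, px_cons, px_cons, map_mul, ih, h.map, hf]

variable (hS : TwSub D x σ π S O) (h : Twist D x σ ρ π f) (hx : IsFaith D x) (hT : Agree D T) (hf : ∀ r, f r 1 = 1)
include hS h hx hT hf

theorem TwSub.px_mem {L : List ℕ} (hL : (L.all (fun r => nlt r T.n && nlt (T.ng r) r) &&
    weq T 2 (fun k => k) (toSW (L.map ρ)) (toSW L)) = true) : px x L ∈ S := by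
  simp only [Bool.and_eq_true, List.all_eq_true, nlt_iff, hT.n_eq] at hL
  refine hS.mem_of_UU h hx (H8.px_mem fun r hr => (pos_iff_ng hT (hL.1 r hr).1).2 (hL.1 r hr).2) ?_
  rw [h.map_px hf, ← evS_toSW (fun _ => 0), ← evS_toSW (fun _ => 0)]
  exact hx.toIsSt.eq_of_weq hT (CharP.cast_eq_zero K 2) _ hL.2

theorem TwSub.cj_runT {Ws : List (List ℕ)} (hW : ∀ l ∈ Ws, nWd D x (fl D l) ∈ S) (v : ℕ → K) {P : List (Bool × List ℕ)}
    (hP : okT T ρ Ws P = true) (w : SW) : Cj S (evS x v w) (evS x v (runT T P w)) := by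
  have h2 : ((2 : ℕ) : K) = 0 := CharP.cast_eq_zero K 2
  have hx' := hx.toIsSt
  induction P generalizing w with
  | nil => exact Cj.refl _ _
  | cons c P ih =>
    rw [okT, List.all_cons, Bool.and_eq_true] at hP
    refine Cj.trans ?_ (ih hP.2 _)
    obtain ⟨b, l⟩ := c
    cases b with
    | true =>
      refine ⟨_, hS.px_mem h hx hT hf hP.1, ?_⟩
      simp only [hx'.evS_scol hT h2, evS_wapp, hx'.evS_winv h2, evS_toSW, evS_nil, mul_one, mul_assoc]
    | false =>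
      exact ⟨_, hW l (of_decide_eq_true hP.1), (evS_wmap h2 v (φ := (MulAut.conj (nWd D x (fl D l))).toMonoidHom)
        (fun s u => by simpa [wdL_eq hT] using hx'.acts_nWd_two _ s u) w).symm⟩

theorem TwSub.cj_prog {Ws : List (List ℕ)} (hW : ∀ l ∈ Ws, nWd D x (fl D l) ∈ S) {R R' : List ℕ}
    (P : List (Bool × List ℕ)) (hP : (okT T ρ Ws P && weq T 2 (fun k => k) (runT T P (toSW R)) (toSW R')) = true) :
    Cj S (px x R) (px x R') := by
  rw [Bool.and_eq_true] at hP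
  have := hS.cj_runT h hx hT hf hW (fun _ => 0) hP.1 (toSW R)
  rwa [hx.toIsSt.eq_of_weq hT (CharP.cast_eq_zero K 2) _ hP.2, evS_toSW, evS_toSW] at this

omit hS h hx hT hf in
/-- Check of a class of involutions of the Weyl group given by orthogonal roots. -/
noncomputable def chkBase (T : Fast) (rf : ℕ → ℕ) (Sm : List ℕ) (Ws Ts : List (List ℕ))
    (B : List (List ℕ × ℕ) × List (Bool × List ℕ)) : Bool :=
  let R := B.1.map fun c => wdL T c.1 (Sm.getD c.2 0)
  B.1.all (fun c => nlt c.2 T.l) && R.all (fun r => nlt r (T.ng r) && nlt r T.n) &&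
    R.Pairwise (fun a b => aT T a b = 0) && (R.map rf).isPerm R && okT T rf Ws B.2 &&
      Ts.any fun R' => weq T 2 (fun k => k) (runT T B.2 (toSW (R.map T.ng))) (toSW R')

theorem TwSub.base_of_chk (hO : chkOC T = true) {Sm : List ℕ} (hSm : ∀ i : Fin D.rank, Sm.getD i 0 = D.simple i)
    {Ws Ts : List (List ℕ)} (hW : ∀ l ∈ Ws, nWd D x (fl D l) ∈ S) {Bs : List (List (List ℕ × ℕ) × List (Bool × List ℕ))}
    (hB : Bs.all (chkBase T ρ Sm Ws Ts) = true) :
    ∀ b ∈ Bs.map fun B => (B.1.map fun c => c.1 ++ c.2 :: c.1.reverse).flatten, ∃ n ∈ S,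
      NRep D x n (wordW D (fl D b)) ∧ n * n = 1 ∧ ∃ R ∈ Ts, Cj S n (px x R) := by
  intro b hb
  obtain ⟨B, hB', rfl⟩ := List.mem_map.1 hb
  have hx' := hx.toIsSt
  have h1 := List.all_eq_true.1 hB B hB'
  simp only [chkBase, Bool.and_eq_true, List.all_eq_true, nlt_iff, hT.n_eq, hT.l_eq, decide_eq_true_eq,
    List.isPerm_iff, List.any_eq_true] at h1
  obtain ⟨⟨⟨⟨⟨h1, h2⟩, h3⟩, h4⟩, h5⟩, R', h6, h7⟩ := h1
  set R := B.1.map fun c => wdL T c.1 (Sm.getD c.2 0) with hR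
  have h8 : OrthL D R := ⟨fun r hr => (h2 r hr).2, h3.imp_of_mem fun ha hb h => aT_eq hT (h2 _ ha).2 (h2 _ hb).2 ▸ h⟩
  have hO' := orthComm_of_check hx' hT hO
  have h9 : ∀ r ∈ R, D.IsNegRoot r := fun r hr =>
    negRoot_of_not_pos (h2 r hr).2 (by rw [pos_iff_ng hT (h2 r hr).2]; exact not_lt.2 (h2 r hr).1.le)
  have h10 : px x R ∈ S := hS.mem_of_VV h hx (H8.px_mem h9) (by rw [h.map_px hf, ← hO'.px_perm h8 h4.symm])
  have h11 : px x (R.map D.neg) ∈ S := hS.mem_of_UU h hx (H8.px_mem fun r hr => by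
    obtain ⟨s, hs, rfl⟩ := List.mem_map.1 hr
    exact (neg_pos_iff (h9 s hs).1).2 (h9 s hs)) (by
      rw [h.map_px hf, hO'.px_perm h8.neg (h4.symm.map _), List.map_map (l := R), List.map_map (l := R)]
      exact congrArg _ (List.map_congr_left fun r hr => h.neg r (h8.1 r hr)))
  have h12 : Cj S (px x (R.map D.neg)) _ := ⟨_, h10, (hO'.prod_nE hx' h8).symm⟩
  refine ⟨_, h12.mem h11, ?_, h12.mul_self (hO'.px_mul_self hx' h8.neg), R', h6, h12.symm.trans ?_⟩
  · convert prod_nE_rep hx' h8.1 using 1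
    rw [hR]
    generalize B.1 = l at h1
    induction l with
    | nil => rfl
    | cons c l ih =>
      have h13 := h1 c (by simp)
      rw [List.map_cons, List.flatten_cons, fl_append, wordW_append, ih fun c hc => h1 c (by simp [hc]), List.map_cons,
        List.map_cons, List.prod_cons, wdL_eq hT, hSm ⟨_, h13⟩, ← conj_refl (wordW_mem _), refl_simple ⟨_, h13⟩,
        fl_append, wordW_append, fl_cons_of_lt h13, wordW_cons,
        fl_reverse, wordW_reverse]
      simp only [mul_assoc]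
  · have := hS.cj_runT h hx hT hf hW (fun _ => 0) h5 (toSW (R.map T.ng))
    rwa [hx'.eq_of_weq hT (CharP.cast_eq_zero K 2) _ h7, evS_toSW, evS_toSW,
      ← List.map_congr_left fun r hr => hT.neg r (h8.1 r hr)] at this

theorem TwSub.nWd_mem (hO : chkOC T = true) {l R : List ℕ} (hl : (fl D l).map (fun i => D.simple i.1) = R)
    (hR : (R.all (fun r => nlt (T.ng r) r && nlt r T.n) && R.Pairwise (fun a b => aT T a b = 0) &&
      (R.map ρ).isPerm R) = true) : nWd D x (fl D l) ∈ S := by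
  simp only [Bool.and_eq_true, List.all_eq_true, nlt_iff, hT.n_eq, decide_eq_true_eq, List.isPerm_iff] at hR
  obtain ⟨⟨h2, h3⟩, h4⟩ := hR
  have h8 : OrthL D R := ⟨fun r hr => (h2 r hr).2, h3.imp_of_mem fun ha hb h => aT_eq hT (h2 _ ha).2 (h2 _ hb).2 ▸ h⟩
  have hO' := orthComm_of_check hx.toIsSt hT hO
  have h9 : ∀ r ∈ R, D.IsPosRoot r := fun r hr => (pos_iff_ng hT (h2 r hr).2).2 (h2 r hr).1
  have h10 : px x R ∈ S := hS.mem_of_UU h hx (H8.px_mem h9) (by rw [h.map_px hf, ← hO'.px_perm h8 h4.symm])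
  have h11 : px x (R.map D.neg) ∈ S := hS.mem_of_VV h hx (H8.px_mem fun r hr => by
    obtain ⟨s, hs, rfl⟩ := List.mem_map.1 hr
    exact (neg_neg_iff (h9 s hs).1).2 (h9 s hs)) (by
      rw [h.map_px hf, hO'.px_perm h8.neg (h4.symm.map _), List.map_map (l := R), List.map_map (l := R)]
      exact congrArg _ (List.map_congr_left fun r hr => h.neg r (h8.1 r hr)))
  have h12 : nWd D x (fl D l) = (R.map fun r => nE D x r 1).prod := by rw [← hl, List.map_map]; rfl
  rw [h12, hO'.prod_nE hx.toIsSt h8]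
  exact mul_mem (mul_mem h10 h11) (inv_mem h10)

omit hS h hx hT hf hN in
theorem TwOK.twF_one {p : ℕ} {L : List (List (ℕ × ℕ × ℤ))} (h : TwOK D p L π) (φ : K →+* K) (r : ℕ) :
    twF L φ r 1 = 1 := by
  by_cases hr : r < D.nroots
  · rcases (h.2.2.1 r hr).2.2.2.2.1 with h1 | h1 <;> simp [twF, h1, CharTwo.neg_eq]
  · simp [twF, twT_ge (h.1.le.trans (not_lt.1 hr))]

omit hS h hx hf hN in
theorem ncard_tw [MatFacts D] {Wd : Set (List (ℕ × K))} {Ts : List (List ℕ)} (hn : Ts.Nodup) (h1 : chkTgt T Ts = true)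
    (h0 : ∀ R ∈ Ts, px (xg D K) R ∈ twS (xg D K) Wd)
    (h2 : ∀ t ∈ twS (xg D K) Wd, t * t = 1 → ∃ R ∈ [] :: Ts, Cj (twS (xg D K) Wd) t (px (xg D K) R))
    (h3 : ∀ R ∈ Ts, ∀ R' ∈ Ts, Cj (GG (xu D K)) (px (xu D K) R) (px (xu D K) R') → R = R') :
    (ConjClasses.mk '' {g : D.genSubgroup K Wd | orderOf g = 2}).ncard = Ts.length := by
  have e : ∀ R, (D.group K).subtype (px (xg D K) R) = px (xu D K) R := fun R => by
    simp only [px, map_list_prod, List.map_map]; rfl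
  simp only [← Subgroup.orderOf_coe]
  refine ncard_classes hn (f := px (xu D K)) (P := fun g => orderOf g = 2) (fun R hR => ?_)
    (fun R => orderOf_of_chkTgt hT h1) (fun t ht h => ?_) fun R hR R' hR' ⟨g, hg, h⟩ => h3 R hR R' hR' ⟨g, ?_, h⟩
  · rw [← map_twS_xg, ← e]; exact Subgroup.mem_map_of_mem _ (h0 R hR)
  · rw [← map_twS_xg] at ht ⊢
    obtain ⟨t, ht, rfl⟩ := ht
    obtain ⟨R, hR, g, hg, h4⟩ := h2 t ht (Subtype.ext (by
      have := pow_orderOf_eq_one ((D.group K).subtype t); rwa [h, pow_two] at this))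
    rcases List.mem_cons.1 hR with rfl | hR
    · obtain rfl : t = 1 := by simpa using h4
      simp at h
    · exact ⟨R, hR, _, Subgroup.mem_map_of_mem _ hg, by rw [← e, ← h4]; simp⟩
  · rw [← twS_xu] at hg; exact twS_le_GG _ hg

end Cfsg.Agent.H8
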