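import Cfsg.Agent.H8.TwX
import Cfsg.Agent.H7.TwOutF4

/-! The `2`-part of the Schur multiplier of the twisted group of type `F4`. -/

set_option autoImplicit false
set_option linter.unusedSectionVars false

namespace Cfsg.Agent.H8

open Cfsg.Lie Matrix Cfsg.Agent.H7
open scoped commutatorElement

universe u

variable {K : Type*} [Field K] [CharP K 2] {G : Type u} [Group G] {x : ℕ → K → G} {e : ℕ} {φ : K →+* K} {σ : G →* G}

/-- Layers. -/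
def layF4 (r : ℕ) : ℕ := [0, 1, 2, 1, 3, 5, 3, 4, 6, 0, 2, 4, 7, 6, 8, 9, 10, 5, 7, 8, 11, 9, 10, 11].getD (r - 24) 0

/-- Base roots of the layers. -/
def bF4 (k : ℕ) : ℕ := [24, 25, 26, 30, 31, 41, 32, 42, 43, 45, 46, 47].getD k 0

/-- Exponents of the torus elements. -/
def mF4 (m : ℕ → ℤ) (i : Fin chevF4.rank) : ℤ × ℤ × ℤ :=
  [(m 1, m 0, 0), (m 3, m 2, 0), (m 2, 2 * m 3, 0), (m 0, 2 * m 1, 0)].getD i 0

/-- Coordinates of the roots. -/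
noncomputable def rcF4 (r : ℕ) (i : Fin chevF4.rank) : ℤ := sInt (fld 4
  0xabca9bca9aca9aba9aaa99aa89aa9ab99aa999a989a999998999889988899aa899a889a8999889988898998889889888788887887788887887787778876877687668888788778777777787677767766776578766776676667656764675466546
  (4 * r + i))

/-- Separating torus elements. -/
noncomputable def tabF4 (k j i : ℕ) : ℤ := sInt (fld 4
  0x897879899877897897797a8788888978889778998897798988978897889788978977799888888897799888977989889788978897898698779877889778a888979788898789878978898789788897898789879788988797798987898788978888898797888889799888898898888988988889898797888898898788989788888988988889889888899788889888888898898889889888898898888889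
  (4 * (k * (k + 1) / 2 + j) + i))

set_option synthInstance.maxSize 4000 in
theorem layOK_F4 : LayOK chevF4 K rhoF4 layF4 bF4 12 :=
  layOK_of agrF4 (p := 2) (by exact_mod_cast CharP.cast_eq_zero K 2) (by decide +kernel)

theorem rc_F4 {r : ℕ} (hr : r < chevF4.nroots) : rc chevF4 r = rcF4 r := rc_eq (by revert r; decide +kernel)

/-- Elements of the abelian root subgroups. -/
def xiF (x : ℕ → K → G) (φ : K →+* K) (r : ℕ × ℕ) (t : K) : G := x r.2 t * x r.1 (φ t)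

/-- The corresponding words. -/
def xiW (r : ℕ × ℕ) (m m' : List ℕ) : SW := [(r.2, [(1, m')]), (r.1, [(1, m)])]

/-- Conditions on a pair of roots. -/
def XiOK (r : ℕ × ℕ) : Prop := twT H7.twF4 r.1 = (r.2, 2, 1) ∧ twT H7.twF4 r.2 = (r.1, 1, 1) ∧ r.1 < chevF4.nroots ∧
  r.2 < chevF4.nroots ∧ (chevF4.IsPosRoot r.1 ↔ chevF4.IsPosRoot r.2)

instance decXiOK (r : ℕ × ℕ) : Decidable (XiOK r) := by unfold XiOK; infer_instance

/-- The relations that are used for a root subgroup of Suzuki type. -/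
def SzOK (j k : ℕ) (a c r1 r6 r2 : ℕ × ℕ) (m : ℕ → ℤ) : Prop :=
  let key := fun r => [r1.1, r1.2, r2.1, r2.2, a.1, a.2, c.1, c.2, r6.1, r6.2].idxOf r
  let y : SW := [(a.2, [(1, [0, 1, 0, 0])]), (a.1, [(1, [1, 0, 0, 0])]), (c.2, [(1, [2, 1, 0, 0])])]
  let p1 := xiW r1 [0, 0, 0, 0] [0, 0, 0, 0]
  let p2 := xiW r2 [1, 0, 0, 0] [0, 1, 0, 0]
  let p6 := xiW r6 [0, 0, 1, 0] [0, 0, 0, 1]
  (bF4 j = a.2 ∧ bF4 k = c.2 ∧ j < 12 ∧ k < 12 ∧ XiOK a ∧ (∀ r ∈ [c, r1, r6, r2], XiOK r ∧ r.1 ≠ chevF4.neg r.2 ∧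
    chevF4.commTerms r.2 r.1 = []) ∧ (∀ r ∈ [(a.1, j), (c.2, j), (c.1, k)], (chevF4.IsPosRoot r.1 ∧ layF4 (bF4 r.2) ≤ layF4 r.1) ∧
      r.1 ≠ bF4 r.2) ∧ chevF4.IsPosRoot a.2 ∧ chevF4.IsPosRoot c.2) ∧
  (exv (mF4 m) (rcF4 r2.1) = 0 ∧ exv (mF4 m) (rcF4 r2.2) = 0 ∧ exv (mF4 m) (rcF4 r6.1) = (1, 0, 0) ∧
    exv (mF4 m) (rcF4 r6.2) = (0, 2, 0)) ∧
  weq fastF4 2 key [(a.1, [(1, [1, 0, 0, 0])]), (a.2, [(1, [0, 1, 0, 0])]), (c.1, [(1, [1, 1, 0, 0])])] y = true ∧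
  weq fastF4 2 key (y ++ p6) (p6 ++ y) = true ∧ weq fastF4 2 key (y ++ p1) (p2 ++ p1 ++ y) = true ∧
  weq fastF4 2 key (p2 ++ p1) (p1 ++ p2) = true ∧ weq fastF4 2 key (p2 ++ p6) (p6 ++ p2) = true ∧
  weq fastF4 2 key (p1 ++ p6) (xiW c [0, 0, 1, 0] [0, 0, 0, 1] ++ p6 ++ p1) = true

set_option synthInstance.maxSize 4000 in
noncomputable instance decSzOK (j k : ℕ) (a c r1 r6 r2 : ℕ × ℕ) (m : ℕ → ℤ) : Decidable (SzOK j k a c r1 r6 r2 m) := by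
  unfold SzOK; infer_instance

variable [Fintype K] (hφ : ∀ t, φ t = t ^ e) (h2 : ∀ t, φ (φ t) ^ 2 = t) (hK : 4 < Fintype.card K)
  (h : TwD chevF4 x σ rhoF4 pfF4 (twF H7.twF4 φ) (twS x (f4Words K e)) (fun i => {j | j ∈ oLF4 i}) (eF4 e) (zF4 x hφ))
  (hDF : ∀ a τ, ∃ α, DF chevF4 x α a τ)
include h2 h

theorem xiF_mem {r : ℕ × ℕ} (hr : XiOK r ∧ r.1 ≠ chevF4.neg r.2 ∧ chevF4.commTerms r.2 r.1 = []) (t : K) :
    xiF x φ r t ∈ twS x (f4Words K e) := by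
  obtain ⟨⟨h3, h4, h5, h6, h7⟩, h8, h9⟩ := hr
  have h10 : σ (xiF x φ r t) = xiF x φ r t := by
    simp [xiF, h.tw.map_one' h3, h.tw.map_one' h4, h2, (h.st.commute h8 h9 _ _).eq]
  by_cases h11 : chevF4.IsPosRoot r.1
  · exact h.sub.mem_of_UU h.tw h.faith (mul_mem (x_mem_UU x (h7.1 h11) _) (x_mem_UU x h11 _)) h10
  · exact h.sub.mem_of_VV h.tw h.faith (mul_mem (x_mem_VV x (negRoot_of_not_pos h6 (mt h7.2 h11)) _)
      (x_mem_VV x (negRoot_of_not_pos h5 h11) _)) h10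

include hDF

theorem tor_F4 (m : ℕ → ℤ) (y : Kˣ) : ∃ g ∈ twS x (f4Words K e), g ∈ HH chevF4 x ∧
    Acts x g 1 fun r => mono φ y (exv (mF4 m) (rc chevF4 r)) := by
  have h3 : ∀ y : Kˣ, y ^ e = Units.map φ.toMonoidHom y := fun y => Units.ext (by simp [hφ])
  have h4 : Units.map φ.toMonoidHom (Units.map φ.toMonoidHom y) ^ 2 = y := Units.ext (h2 y)
  have h7 : ∀ a b : ℤ, mono φ y (b, a, 0) = mono φ y (a, 2 * b, 0) ^ e := fun a b => by
    simp only [h3, mono, zpow_zero, mul_one, map_mul, map_zpow, _root_.zpow_mul, zpow_ofNat, map_pow, h4, mul_comm (y ^ b), pow_zero]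
  have h8 : ∀ a b : ℤ, mono φ y (a, 2 * b, 0) = mono φ y (b, a, 0) ^ (e * 2) := fun a b => by
    rw [pow_mul, h3, ← zpow_natCast]
    simp only [mono, zpow_zero, mul_one, map_mul, map_zpow, mul_zpow, ← _root_.zpow_mul, mul_comm a]
    rw [_root_.zpow_mul _ _ a, zpow_natCast, h4, mul_comm, mul_comm b]; rfl
  have h5 : (fun i => mono φ y (mF4 m i)) ∈ TS K pfF4 (eF4 e) := fun i => by
    fin_cases i
    exacts [h8 _ _, h8 _ _, h7 _ _, h7 _ _]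
  obtain ⟨⟨n, hn0⟩, -, hn : _ = 2 ^ n⟩ := FiniteField.card K 2
  have h6 := h.sq_mem_chS hDF star_F4 (pow_mem h5 (2 ^ (n - 1)))
  rw [← pow_mul, ← pow_succ, Nat.sub_add_cancel hn0, show ∀ a : Fin chevF4.rank → Kˣ, a ^ 2 ^ n = a from fun a =>
    funext fun i => Units.ext (by rw [← hn]; simpa using FiniteField.pow_card (a i : K))] at h6
  simpa only [torChar_mono] using exists_acts_of_chS h.faith h6

variable {Γ : Type*} [Group Γ] {θ : Γ →* G} {co χ : ℕ → Γ → K} (F : Lf chevF4 x layF4 bF4 12 θ (twS x (f4Words K e)) co χ)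
include F hK

theorem expl_F4 {N : Subgroup Γ} {j k : ℕ} {a c r1 r6 r2 : ℕ × ℕ} {m : ℕ → ℤ} (H : SzOK j k a c r1 r6 r2 m) :
    PairC ((HH chevF4 x).comap θ) (fun k => (XS x (FL chevF4 layF4 k)).comap θ) co χ j k N := by
  obtain ⟨⟨b1, b2, hj, hk, ⟨a1, a2, -⟩, b3, b4, a3, a4⟩, ⟨m1, m2, m3, m4⟩, w1, w2, w3, w4, w5, w6⟩ := H
  simp only [List.forall_mem_cons] at b3 b4
  obtain ⟨c1, c2, c3, c4, -⟩ := b3
  obtain ⟨d1, d2, d3, -⟩ := b4
  have hx := h.st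
  have cen := F.filt.cen
  have ev := fun (s u : K) {key w w'} (h : weq fastF4 2 key w w' = true) =>
    hx.eq_of_weq agrF4 (CharP.cast_eq_zero K 2) (fun i => [φ s, s, φ u, u].getD i 0) h
  have hm := fun {r} hr t => show _ ∈ θ.range from F.range ▸ xiF_mem hφ h2 h (r := r) hr t
  refine F.expl layOK_F4 hx hj hk fun _ _ _ _ s u _ _ => ⟨x a.2 s * (x a.1 (φ s) * x c.2 (φ s ^ 2 * s)),
    h.sub.mem_of_UU h.tw h.faith (mul_mem (x_mem_UU x a3 _) (mul_mem (x_mem_UU x d1.1.1 _) (x_mem_UU x a4 _))) ?_,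
    _, xiF_mem hφ h2 h c1 u, b1 ▸ CoL.of_mul (mul_mem (x_mem_XS d1 _) (x_mem_XS d2 _)) s, by rw [xiF, ← b2]; exact CoL.of_mul (x_mem_XS d3 _) u, ?_⟩
  · simpa [h.tw.map_one' a1, h.tw.map_one' a2, h.tw.map_one' c1.1.2.1, h2, mev, mul_comm s] using ev s u w1
  rintro A Z hA hZ
  obtain ⟨y, hy⟩ := exists_pow_ne (K := K) one_lt_two (by omega)
  have h0 : y ≠ 0 := fun e => hy (by simp [e])
  obtain ⟨g, g1, -, g2⟩ := tor_F4 hφ h2 h hDF m (.mk0 y h0)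
  obtain ⟨P, hP⟩ := hm c2 1
  obtain ⟨Q, hQ⟩ := hm c3 u
  have e1 : θ ⁅A, P⁆ = xiF x φ r2 s := by
    rw [map_commutatorElement, commutatorElement_def, mul_inv_eq_iff_eq_mul, mul_inv_eq_iff_eq_mul]
    simpa [hA, hP, xiF, xiW, mev, mul_assoc] using ev s u w3
  have e2 : θ Z = θ ⁅P, Q⁆ := by
    rw [map_commutatorElement, commutatorElement_def, eq_mul_inv_iff_mul_eq, eq_mul_inv_iff_mul_eq]
    simpa [hZ, hP, hQ, xiF, xiW, mev, mul_assoc] using (ev s u w6).symm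
  have e3 : ∀ u, Commute (xiF x φ r2 s) (xiF x φ r6 u) := fun u => by
    simpa [xiF, xiW, mev, mul_assoc, commute_iff_eq] using ev s u w5
  have e4 : φ y ^ 2 - 1 ≠ 0 := fun e => hy (by rw [← h2 y, ← map_pow, sub_eq_zero.1 e]; simp)
  have e8 : ∀ r t, g * xiF x φ r t * g⁻¹ = x r.2 (mono φ (.mk0 y h0) (exv (mF4 m) (rc chevF4 r.2)) * t) *
      x r.1 (mono φ (.mk0 y h0) (exv (mF4 m) (rc chevF4 r.1)) * φ t) := fun r t => by
    rw [← show _ = x r.2 _ from g2 r.2 t, ← show _ = x r.1 _ from g2 r.1 _, xiF]; group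
  have e9 : ∀ t u, xiF x φ r6 (t + u) = xiF x φ r6 t * xiF x φ r6 u := fun t u => by
    simp only [xiF, map_add, hx.add]; exact (hx.commute c3.2.1 c3.2.2 _ _).mul_mul_mul_comm _ _
  have e5 : ⁅g, xiF x φ r6 (u / (φ y ^ 2 - 1))⁆ = xiF x φ r6 u := by
    rw [commutatorElement_def, mul_inv_eq_iff_eq_mul, e8, ← e9, rc_F4 c3.1.2.2.1, rc_F4 c3.1.2.2.2.1, m3, m4,
      show u + u / (φ y ^ 2 - 1) = φ y ^ 2 * (u / (φ y ^ 2 - 1)) by field_simp; ring]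
    simp [xiF, mono, h2, zpow_ofNat]
  have e6 : ⁅⁅A, P⁆, Q⁆ ∈ (⊥ : Subgroup Γ) := LCN.of_comm cen (h := g) (Commute.symm (mul_inv_eq_iff_eq_mul.1 (by
    rw [e8, rc_F4 c4.1.2.2.1, rc_F4 c4.1.2.2.2.1, m1, m2]; simp [xiF, mono]))) (e3 _) (F.range ▸ g1) (hm c3 _) _ _ e1 (hQ.trans e5.symm)
  have e7 : Commute ⁅A, P⁆ ⁅P, Q⁆ := commute_comm cen (by
    simpa [e1, hP, xiF, xiW, mev, mul_assoc, commute_iff_eq] using ev s u w4) (e1 ▸ hQ ▸ e3 u)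
  rw [comm_congr cen rfl e2, commutatorElement_def, conj_comm, comm_congr cen (a' := ⁅A, P⁆ * P) (b' := Q)
    (by simp [commutatorElement_def]) (by
      rw [map_mul, map_mul, map_inv, mul_inv_eq_iff_eq_mul]; simpa [hA, hQ, xiF, xiW, mev, mul_assoc] using ev s u w2),
    show ⁅⁅A, P⁆ * P, Q⁆ = ⁅A, P⁆ * ⁅P, Q⁆ * ⁅A, P⁆⁻¹ * ⁅⁅A, P⁆, Q⁆ by group, Subgroup.mem_bot.1 e6, e7.eq, mul_inv_cancel_right,
    mul_one, mul_inv_cancel]
  exact one_mem _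

set_option synthInstance.maxSize 4000 in
theorem split_F4 : ∃ N : Subgroup Γ, (∀ z ∈ N, z ∈ θ.ker → z = 1) ∧
    ∀ a ∈ (XS x (FL chevF4 layF4 0)).comap θ, ∀ b ∈ (XS x (FL chevF4 layF4 0)).comap θ, ⁅a, b⁆ ∈ N := by
  obtain ⟨y, hy⟩ := exists_pow_ne (K := K) one_lt_two (by omega)
  have h0 : y ≠ 0 := fun e => hy (by simp [e])
  have h1 : y ≠ 1 := fun e => hy (by simp [e])
  have h3 : ∀ t : K, t ^ 2 = 1 → t = 1 := fun t ht => by rw [← h2 t, ← map_pow, ← map_pow, ht]; simp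
  have hg : ∀ e ∈ [((1 : ℤ), (0 : ℤ), (0 : ℤ)), (2, 0, 0), (0, 2, 0)], ∃ y, mono φ y e ≠ 1 := by
    simp only [List.forall_mem_cons]
    exact ⟨⟨.mk0 y h0, by simpa [mono, Units.ext_iff]⟩, ⟨.mk0 y h0, by simpa [mono, Units.ext_iff, zpow_ofNat] using mt (h3 y) h1⟩,
      ⟨.mk0 y h0, by simpa [mono, Units.ext_iff, zpow_ofNat] using mt (h3 (φ y)) fun e => h1 (φ.injective (e.trans φ.map_one.symm))⟩, by simp⟩
  have ht : ∀ m y, ∃ g ∈ (HH chevF4 x).comap θ, ∀ k < 12, χ k g = mono φ y (exv (mF4 m) (rcF4 (bF4 k))) := fun m y => by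
    obtain ⟨g, g1, g2, g3⟩ := tor_F4 hφ h2 h hDF m y
    obtain ⟨g, rfl⟩ : g ∈ θ.range := F.range ▸ g1
    exact ⟨g, g2, fun k hk => by rw [F.ch k hk g _ g3, rc_F4 ((layOK_F4 (K := K)).base k hk).1.1]⟩
  refine F.filt.final (m := 11) le_rfl F.filt.inv_last (fun k hk j hj => ?_) fun k hk _ => ?_
  · obtain h4 | ⟨z, -, h4⟩ := (by decide +kernel : ∀ k ≤ 11, ∀ j ≤ k, (let ex := fun i => exv (mF4 (tabF4 k j)) (rcF4 (bF4 i))
      ex j = 0 ∧ ex k ∈ [(1, 0, 0), (2, 0, 0), (0, 2, 0)] ∨ ex k = 0 ∧ ex j ∈ [(1, 0, 0), (2, 0, 0), (0, 2, 0)] ∨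
        ex j = (1, 0, 0) ∧ ex k = (1, 0, 0)) ∨ ∃ z ∈ [([(34, 26), (36, 42), (39, 45), (19, 17), (44, 47)], [1, 0, -2, 1]),
          ([(29, 41), (44, 47), (33, 24), (40, 46), (36, 42)], [1, -1, -1, 1]),
          ([(35, 31), (40, 46), (38, 43), (28, 30), (44, 47)], [-1, 0, 2, -1]),
          ([(27, 25), (28, 30), (39, 45), (11, 5), (40, 46)], [-1, 0, -1, (1 : ℤ)])],
        SzOK j k (z.1.getD 0 0) (z.1.getD 1 0) (z.1.getD 2 0) (z.1.getD 3 0) (z.1.getD 4 0) (z.2.getD · 0)) k hk j hj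
    · exact pairC_cert (ex := fun i => exv (mF4 (tabF4 k j)) (rcF4 (bF4 i)))
        (fun y => let ⟨g, h1, h2⟩ := ht _ y; ⟨g, h1, h2 j (by omega), h2 k (by omega)⟩) ⟨Finset.univ, hK⟩ hg h4
    · exact expl_F4 hφ h2 hK h hDF F h4
  · obtain ⟨g, g1, g2⟩ := ht (tabF4 k k) (.mk0 y h0)
    exact ⟨g, g1, by
      rw [g2 k (by omega), show exv _ _ = (1, 0, 0) by clear g2; revert k; decide +kernel]; simpa [mono]⟩

end Cfsg.Agent.H8
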