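import Cfsg.Agent.H8.Cent2
import Cfsg.Agent.H8.NTabE7
import Cfsg.Agent.H7.ChainE7

/-! Classes of involutions in characteristic two, type `E7`. -/

set_option autoImplicit false
set_option linter.unusedSectionVars false

namespace Cfsg.Agent.H8

open Cfsg.Lie Matrix Cfsg.Agent.H7

def orbRE7 : List (List ℕ) := [[], [125], [125, 92], [125, 92, 87], [125, 92, 63], [125, 92, 87, 78], [125, 92, 87, 73], [125, 92, 87, 78, 73], [125, 92, 87, 78, 73, 66], [125, 92, 87, 78, 73, 66, 63]]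

noncomputable def orbCE7 : List (List ℕ × RowT) := [([], (.node (.node (.node (.node (.node (.node (.node (.leaf 0x4e52e261172eb1a2e509c2d021) (.leaf 0x9cb8b89845c10)) (.node (.leaf 0x4e5c5ca9c2d011) (.leaf 0x4e5c5ca990d))) (.node (.node (.leaf 0x1397172a61171a2c217) (.leaf 0x272e2e54c20e)) (.node (.leaf 0x4e52e261172eb1a15) (.leaf 0x9cb8b08)))) (.node (.node (.node (.leaf 0x9ca5c4c22e5d6345ca131c) (.leaf 0x4e52e26110d)) (.node (.leaf 0x4e5c5c4c22e58d115) (.leaf 0x272e2e20a))) (.node (.node (.leaf 0x272e2e261172c68816) (.leaf 0x139717100b)) (.node (.leaf 0x4e5c5ca9c08b11) (.leaf 0x4e505))))) (.node (.node (.node (.node (.leaf 0x4e52e261172eb1a2e50991d) (.leaf 0x272971308b0e)) (.node (.leaf 0x1394b89845cbac68b17) (.leaf 0x9cb8b9530c))) (.node (.node (.leaf 0x9ca5c4c22e5d6345818) (.leaf 0x4e5c5ca980d)) (.node (.leaf 0x4e5c5ca9c2c211) (.leaf 0x272906)))) (.node (.node (.node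 (.leaf 0x272971308b9758d17021a) (.leaf 0x4e5c5c4c80d)) (.node (.leaf 0x9cb8b89845cb1914) (.leaf 0x1385a07))) (.node (.node (.leaf 0x4e5c5c4c22e58d015) (.leaf 0x9c2d008)) (.node (.leaf 0x272971308b97512) (.leaf 0x1)))))) (.node (.node (.node (.node (.node (.leaf 0x1394b89845cbac68b94270b1f) (.leaf 0x9cb8b95308b10)) (.node (.leaf 0x9ca5c4c22e5d6345c18) (.leaf 0x1394b8990b))) (.node (.node (.leaf 0x4e52e261172eb1a2e019) (.leaf 0x9ca5c4c20c)) (.node (.leaf 0x1397172a61171a13) (.leaf 0x270b06)))) (.node (.node (.node (.leaf 0x272e2e261172c68b8131a) (.leaf 0x1397172a7080f)) (.node (.leaf 0x1397172a7022d113) (.leaf 0x4e5c5a09))) (.node (.node (.leaf 0x9cb8b95381168814) (.leaf 0x272e2d00a)) (.node (.leaf 0x272e2e261172c12) (.leaf 0x1303))))) (.node (.node (.node (.node (.leaf 0x1397171308b96345c0991b) (.leaf 0x1397172a6110f)) (.node (.leaf 0x4e5c5ca9845c68b15) (.leaf 0x27297130a)))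 (.node (.node (.leaf 0x272e2e54c22e345816) (.leaf 0x1394b8980b)) (.node (.leaf 0x1397171308b96313) (.leaf 0x9904)))) (.node (.node (.node (.leaf 0x4e52e261172eb1a2c219) (.leaf 0x9cb8b95381310)) (.node (.leaf 0x272e2e54e045912) (.leaf 0x4e5c5c09))) (.node (.node (.leaf 0x1397172a7022d013) (.leaf 0x1397172a70b0f)) (.leaf 0x4e52e261172e11)))))) (.node (.node (.node (.node (.node (.node (.leaf 0x9ca5c4c22e5d6345ca1385a20) (.leaf 0x1394b89845c0f)) (.node (.leaf 0x4e52e261172eb1a2e519) (.leaf 0x9cb8b8990c))) (.node (.node (.leaf 0x272971308b9758d17281a) (.leaf 0x4e5c5c4c20d)) (.node (.leaf 0x9cb8b89845cb1a14) (.leaf 0x1394b07)))) (.node (.node (.node (.leaf 0x1394b89845cbac68b8131b) (.leaf 0x9cb8b95385810)) (.node (.leaf 0x9cb8b95308b8d114) (.leaf 0x4e52e209))) (.node (.node (.leaf 0x4e5c5ca9845c68815) (.leaf 0x27297100a)) (.node (.leaf 0x1394b89845cbac13) (.leaf 0x9c04)))))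 (.node (.node (.node (.node (.leaf 0x9ca5c4c22e5d6345c0991c) (.leaf 0x9cb8b95381110)) (.node (.leaf 0x272e2e261172c68b16) (.leaf 0x139717130b))) (.node (.node (.leaf 0x1397171308b96345817) (.leaf 0x9cb8b8980c)) (.node (.leaf 0x9ca5c4c22e5d6314) (.leaf 0x4e105)))) (.node (.node (.node (.leaf 0x4e5c5c4c22e58d170219) (.leaf 0x9ca5c4c80c)) (.node (.leaf 0x1397172a61171913) (.leaf 0x272e2e50a))) (.node (.node (.leaf 0x9cb8b95308b8d014) (.leaf 0x9cb8b95385a10)) (.node (.leaf 0x4e5c5c4c22e511) (.leaf 0x0)))))) (.node (.node (.node (.node (.node (.leaf 0x272971308b9758d17284e11e) (.leaf 0x1397171308b0f)) (.node (.leaf 0x1397171308b96345c17) (.leaf 0x4e5c5ca9c0d))) (.node (.node (.leaf 0x9cb8b89845cb1a2e018) (.leaf 0x272e2e54e00e)) (.node (.leaf 0x272e2e54e045a12) (.leaf 0x1397107)))) (.node (.node (.node (.leaf 0x1394b89845cbac68b9421b) (.leaf 0x272e2e54c80e)) (.node (.leaf 0x4e52e261172eb1915)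 (.leaf 0x9ca5a08))) (.node (.node (.leaf 0x272971308b9758d016) (.leaf 0x4e52d009)) (.node (.leaf 0x4e5c5ca9845c11) (.leaf 0x202))))) (.node (.node (.node (.node (.leaf 0x4e52e261172eb1a2e509c1d) (.leaf 0x272e2e26110e)) (.node (.leaf 0x272971308b9758d116) (.leaf 0x1397172a0b))) (.node (.node (.leaf 0x1394b89845cbac68817) (.leaf 0x9cb8b9500c)) (.node (.leaf 0x272e2e54c22e312) (.leaf 0x272e06)))) (.node (.node (.node (.leaf 0x9cb8b89845cb1a2c218) (.leaf 0x1397172a7020f)) (.node (.leaf 0x4e5c5ca9c09911) (.leaf 0x9ca5c08))) (.node (.node (.leaf 0x272e2e54e161012) (.leaf 0x272e2e54e10e)) (.leaf 0x9ca5c4c22e510)))))))),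
  ([125], (.node (.node (.node (.node (.node (.node (.node (.leaf 0x0) (.leaf 0x9cb8b89845c10)) (.leaf 0x0)) (.node (.node (.leaf 0x0) (.leaf 0x272e2e54c20e)) (.node (.leaf 0x4e52e261172eb1a15) (.leaf 0x0)))) (.node (.node (.node (.leaf 0x0) (.leaf 0x4e52e26110d)) (.node (.leaf 0x4e5c5c4c22e58d115) (.leaf 0x0))) (.node (.node (.leaf 0x0) (.leaf 0x139717100b)) (.node (.leaf 0x4e5c5ca9c08b11) (.leaf 0x0))))) (.node (.node (.node (.node (.leaf 0x0) (.leaf 0x272971308b0e)) (.node (.leaf 0x1394b89845cbac68b17) (.leaf 0x0))) (.node (.node (.leaf 0x0) (.leaf 0x4e5c5ca980d)) (.node (.leaf 0x4e5c5ca9c2c211) (.leaf 0x0)))) (.node (.node (.node (.leaf 0x0) (.leaf 0x4e5c5c4c80d)) (.node (.leaf 0x9cb8b89845cb1914) (.leaf 0x0))) (.node (.node (.leaf 0x0) (.leaf 0x9c2d008)) (.node (.leaf 0x272971308b97512) (.leaf 0x0)))))) (.node (.node (.node (.node (.node (.leaf 0x0) (.leaf 0x9cb8b95308b10))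 (.node (.leaf 0x9ca5c4c22e5d6345c18) (.leaf 0x0))) (.node (.node (.leaf 0x0) (.leaf 0x9ca5c4c20c)) (.node (.leaf 0x1397172a61171a13) (.leaf 0x0)))) (.node (.node (.node (.leaf 0x0) (.leaf 0x1397172a7080f)) (.node (.leaf 0x1397172a7022d113) (.leaf 0x0))) (.node (.node (.leaf 0x0) (.leaf 0x272e2d00a)) (.node (.leaf 0x272e2e261172c12) (.leaf 0x0))))) (.node (.node (.node (.node (.leaf 0x0) (.leaf 0x1397172a6110f)) (.node (.leaf 0x4e5c5ca9845c68b15) (.leaf 0x0))) (.node (.node (.leaf 0x0) (.leaf 0x1394b8980b)) (.node (.leaf 0x1397171308b96313) (.leaf 0x0)))) (.node (.node (.node (.leaf 0x0) (.leaf 0x9cb8b95381310)) (.node (.leaf 0x272e2e54e045912) (.leaf 0x0))) (.node (.leaf 0x0) (.leaf 0x4e52e261172e11)))))) (.node (.node (.node (.node (.node (.node (.leaf 0x0) (.leaf 0x1394b89845c0f)) (.node (.leaf 0x4e52e261172eb1a2e519) (.leaf 0x0))) (.node (.node (.leaf 0x0) (.leaf 0x4e5c5c4c20d))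 (.node (.leaf 0x9cb8b89845cb1a14) (.leaf 0x0)))) (.node (.node (.node (.leaf 0x0) (.leaf 0x9cb8b95385810)) (.node (.leaf 0x9cb8b95308b8d114) (.leaf 0x0))) (.node (.node (.leaf 0x0) (.leaf 0x27297100a)) (.node (.leaf 0x1394b89845cbac13) (.leaf 0x0))))) (.node (.node (.node (.node (.leaf 0x0) (.leaf 0x9cb8b95381110)) (.node (.leaf 0x272e2e261172c68b16) (.leaf 0x0))) (.node (.node (.leaf 0x0) (.leaf 0x9cb8b8980c)) (.node (.leaf 0x9ca5c4c22e5d6314) (.leaf 0x0)))) (.node (.node (.node (.leaf 0x0) (.leaf 0x9ca5c4c80c)) (.node (.leaf 0x1397172a61171913) (.leaf 0x0))) (.node (.leaf 0x0) (.node (.leaf 0x4e5c5c4c22e511) (.leaf 0x0)))))) (.node (.node (.node (.node (.node (.leaf 0x0) (.leaf 0x1397171308b0f)) (.node (.leaf 0x1397171308b96345c17) (.leaf 0x0))) (.node (.node (.leaf 0x0) (.leaf 0x272e2e54e00e)) (.node (.leaf 0x272e2e54e045a12) (.leaf 0x0)))) (.node (.node (.node (.leaf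 0x0) (.leaf 0x272e2e54c80e)) (.node (.leaf 0x4e52e261172eb1915) (.leaf 0x0))) (.node (.node (.leaf 0x0) (.leaf 0x4e52d009)) (.node (.leaf 0x4e5c5ca9845c11) (.leaf 0x0))))) (.node (.node (.node (.node (.leaf 0x0) (.leaf 0x272e2e26110e)) (.node (.leaf 0x272971308b9758d116) (.leaf 0x0))) (.node (.node (.leaf 0x0) (.leaf 0x9cb8b9500c)) (.node (.leaf 0x272e2e54c22e312) (.leaf 0x0)))) (.node (.node (.node (.leaf 0x0) (.leaf 0x1397172a7020f)) (.node (.leaf 0x4e5c5ca9c09911) (.leaf 0x0))) (.node (.leaf 0x0) (.leaf 0x9ca5c4c22e510)))))))),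
  ([125, 92], (.node (.node (.node (.node (.node (.leaf 0x0) (.node (.node (.leaf 0x0) (.leaf 0x272e2e54c20e)) (.leaf 0x0))) (.node (.leaf 0x0) (.node (.leaf 0x0) (.node (.leaf 0x4e5c5ca9c08b11) (.leaf 0x0))))) (.node (.node (.leaf 0x0) (.node (.node (.leaf 0x0) (.leaf 0x4e5c5ca980d)) (.node (.leaf 0x4e5c5ca9c2c211) (.leaf 0x0)))) (.leaf 0x0))) (.node (.node (.node (.node (.node (.leaf 0x0) (.leaf 0x9cb8b95308b10)) (.leaf 0x0)) (.node (.leaf 0x0) (.node (.leaf 0x1397172a61171a13) (.leaf 0x0)))) (.node (.node (.node (.leaf 0x0) (.leaf 0x1397172a7080f)) (.node (.leaf 0x1397172a7022d113) (.leaf 0x0))) (.leaf 0x0))) (.node (.node (.node (.node (.leaf 0x0) (.leaf 0x1397172a6110f)) (.node (.leaf 0x4e5c5ca9845c68b15) (.leaf 0x0))) (.leaf 0x0)) (.node (.node (.node (.leaf 0x0) (.leaf 0x9cb8b95381310)) (.node (.leaf 0x272e2e54e045912) (.leaf 0x0))) (.node (.leaf 0x0) (.leaf 0x4e52e261172e11))))))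 (.node (.node (.node (.leaf 0x0) (.node (.node (.node (.leaf 0x0) (.leaf 0x9cb8b95385810)) (.node (.leaf 0x9cb8b95308b8d114) (.leaf 0x0))) (.leaf 0x0))) (.node (.node (.node (.node (.leaf 0x0) (.leaf 0x9cb8b95381110)) (.leaf 0x0)) (.leaf 0x0)) (.node (.node (.leaf 0x0) (.node (.leaf 0x1397172a61171913) (.leaf 0x0))) (.leaf 0x0)))) (.node (.node (.node (.leaf 0x0) (.node (.node (.leaf 0x0) (.leaf 0x272e2e54e00e)) (.node (.leaf 0x272e2e54e045a12) (.leaf 0x0)))) (.node (.node (.node (.leaf 0x0) (.leaf 0x272e2e54c80e)) (.leaf 0x0)) (.node (.leaf 0x0) (.node (.leaf 0x4e5c5ca9845c11) (.leaf 0x0))))) (.node (.node (.leaf 0x0) (.node (.node (.leaf 0x0) (.leaf 0x9cb8b9500c)) (.node (.leaf 0x272e2e54c22e312) (.leaf 0x0)))) (.node (.node (.node (.leaf 0x0) (.leaf 0x1397172a7020f)) (.node (.leaf 0x4e5c5ca9c09911) (.leaf 0x0))) (.node (.leaf 0x0) (.leaf 0x9ca5c4c22e510)))))))),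
  ([125, 92, 87], (.node (.node (.node (.leaf 0x0) (.node (.node (.leaf 0x0) (.node (.leaf 0x0) (.node (.leaf 0x4e5c5ca9c2c211) (.leaf 0x0)))) (.leaf 0x0))) (.node (.node (.node (.node (.node (.leaf 0x0) (.leaf 0xba509c4c22d010)) (.leaf 0x0)) (.leaf 0x0)) (.leaf 0x0)) (.node (.leaf 0x0) (.node (.node (.node (.leaf 0x0) (.leaf 0xba571308)) (.leaf 0x0)) (.node (.leaf 0x0) (.leaf 0x5d2b89845cb8b95015)))))) (.node (.node (.node (.leaf 0x0) (.node (.node (.node (.leaf 0x0) (.leaf 0x9cb8b95385810)) (.leaf 0x0)) (.leaf 0x0))) (.leaf 0x0)) (.node (.node (.leaf 0x0) (.node (.leaf 0x0) (.node (.leaf 0x0) (.node (.leaf 0x5d2b89845c2d011) (.leaf 0x0))))) (.node (.leaf 0x0) (.node (.node (.leaf 0x0) (.node (.leaf 0x5d2b89909) (.leaf 0x0))) (.node (.leaf 0x0) (.leaf 0x9cba571308b95014)))))))),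
  ([125, 92, 63], (.node (.node (.node (.node (.node (.leaf 0x0) (.node (.node (.leaf 0x0) (.leaf 0x272e2e54c20e)) (.leaf 0x0))) (.node (.leaf 0x0) (.node (.leaf 0x0) (.node (.leaf 0x4e5c5ca9c08b11) (.leaf 0x0))))) (.node (.node (.leaf 0x0) (.node (.node (.leaf 0x0) (.leaf 0x4e5c5ca980d)) (.node (.leaf 0x4e5c5ca9c2c211) (.leaf 0x0)))) (.leaf 0x0))) (.node (.node (.node (.node (.node (.leaf 0x0) (.leaf 0x9cb8b95308b10)) (.leaf 0x0)) (.node (.leaf 0x0) (.node (.leaf 0x1397172a61171a13) (.leaf 0x0)))) (.node (.node (.node (.leaf 0x0) (.leaf 0x1397172a7080f)) (.node (.leaf 0x1397172a7022d113) (.leaf 0x0))) (.leaf 0x0))) (.node (.node (.node (.node (.leaf 0x0) (.leaf 0x1397172a6110f)) (.node (.leaf 0x4e5c5ca9845c68b15) (.leaf 0x0))) (.leaf 0x0)) (.node (.node (.node (.leaf 0x0) (.leaf 0x9cb8b95381310)) (.node (.leaf 0x272e2e54e045912) (.leaf 0x0))) (.leaf 0x0))))) (.node (.node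 (.node (.leaf 0x0) (.node (.node (.node (.leaf 0x0) (.leaf 0x9cb8b95385810)) (.node (.leaf 0x9cb8b95308b8d114) (.leaf 0x0))) (.leaf 0x0))) (.node (.node (.node (.node (.leaf 0x0) (.leaf 0x9cb8b95381110)) (.leaf 0x0)) (.leaf 0x0)) (.node (.node (.leaf 0x0) (.node (.leaf 0x1397172a61171913) (.leaf 0x0))) (.leaf 0x0)))) (.node (.node (.node (.leaf 0x0) (.node (.node (.leaf 0x0) (.leaf 0x272e2e54e00e)) (.node (.leaf 0x272e2e54e045a12) (.leaf 0x0)))) (.node (.node (.node (.leaf 0x0) (.leaf 0x272e2e54c80e)) (.leaf 0x0)) (.node (.leaf 0x0) (.node (.leaf 0x4e5c5ca9845c11) (.leaf 0x0))))) (.node (.node (.leaf 0x0) (.node (.node (.leaf 0x0) (.leaf 0x9cb8b9500c)) (.node (.leaf 0x272e2e54c22e312) (.leaf 0x0)))) (.node (.node (.node (.leaf 0x0) (.leaf 0x1397172a7020f)) (.node (.leaf 0x4e5c5ca9c09911) (.leaf 0x0))) (.leaf 0x0))))))),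
  ([125, 92, 87, 78], (.node (.node (.node (.leaf 0x0) (.node (.node (.leaf 0x0) (.node (.leaf 0x0) (.node (.leaf 0x308b97345cad171a2c219) (.leaf 0x0)))) (.leaf 0x0))) (.node (.node (.node (.node (.node (.leaf 0x0) (.leaf 0x61172e68b95c4c22d018)) (.leaf 0x0)) (.leaf 0x0)) (.leaf 0x0)) (.node (.leaf 0x0) (.node (.leaf 0x0) (.node (.leaf 0x0) (.leaf 0x39704e52e261172e8d019)))))) (.node (.node (.node (.leaf 0x0) (.node (.node (.node (.leaf 0x0) (.leaf 0x61172e68b95a2e345818)) (.leaf 0x0)) (.leaf 0x0))) (.leaf 0x0)) (.node (.node (.leaf 0x0) (.node (.leaf 0x0) (.node (.leaf 0x0) (.node (.leaf 0x308b97345cae261171019) (.leaf 0x0))))) (.node (.leaf 0x0) (.node (.leaf 0x0) (.node (.leaf 0x0) (.leaf 0x72e09ca5c4c22e58d018)))))))),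
  ([125, 92, 87, 73], (.node (.node (.leaf 0x0) (.node (.node (.node (.node (.node (.leaf 0x0) (.leaf 0x70b04)) (.leaf 0x0)) (.leaf 0x0)) (.leaf 0x0)) (.node (.leaf 0x0) (.node (.leaf 0x0) (.node (.leaf 0x0) (.leaf 0x172e2e509)))))) (.node (.leaf 0x0) (.node (.node (.leaf 0x0) (.node (.leaf 0x0) (.node (.leaf 0x0) (.node (.leaf 0x170b05) (.leaf 0x0))))) (.node (.leaf 0x0) (.node (.node (.leaf 0x0) (.node (.leaf 0x101) (.leaf 0x0))) (.node (.leaf 0x0) (.leaf 0x72e2e508)))))))),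
  ([125, 92, 87, 78, 73], (.node (.node (.leaf 0x0) (.node (.node (.node (.node (.node (.leaf 0x0) (.leaf 0xb1845cbac68b95308b18)) (.leaf 0x0)) (.leaf 0x0)) (.leaf 0x0)) (.node (.leaf 0x0) (.node (.leaf 0x0) (.node (.leaf 0x0) (.leaf 0x5c1394b89845cb9381319)))))) (.node (.leaf 0x0) (.node (.node (.leaf 0x0) (.node (.leaf 0x0) (.node (.leaf 0x0) (.node (.leaf 0x58c22e5d6345ca9845c19) (.leaf 0x0))))) (.node (.leaf 0x0) (.node (.leaf 0x0) (.node (.leaf 0x0) (.leaf 0xb8272971308b95381318)))))))),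
  ([125, 92, 87, 78, 73, 66], (.node (.node (.leaf 0x0) (.node (.leaf 0x0) (.node (.leaf 0x0) (.node (.leaf 0x0) (.node (.leaf 0x0) (.leaf 0x4e52e261172e11)))))) (.node (.leaf 0x0) (.node (.leaf 0x0) (.node (.leaf 0x0) (.node (.leaf 0x0) (.node (.leaf 0x0) (.leaf 0x9ca5c4c22e510)))))))),
  ([125, 92, 87, 78, 73, 66, 63], (.leaf 0x0))]

def orbPE7 : List (List ℕ × List ℕ) := [([], []),
  ([125], []),
  ([125, 92], []),
  ([125, 92, 87], []),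
  ([125, 92, 63], []),
  ([125, 92, 87, 78], []),
  ([125, 92, 87, 73], [1, 3, 1, 2, 0, 3, 2, 5, 4, 3, 1, 2, 0, 3, 2, 4, 3, 1, 5, 4, 3, 2, 0, 6, 5, 78, 81, 82, 87, 0, 3, 1, 2, 0, 3, 2, 4, 5, 4, 3, 1, 2, 0, 3, 4, 6, 5, 4, 3, 1, 2, 0, 3, 2, 4, 3, 5]),
  ([125, 92, 87, 78, 73], [1, 3, 1, 2, 0, 3, 2, 5, 4, 3, 1, 2, 0, 3, 2, 4, 3, 5, 4, 6, 5, 4, 3, 2, 0, 78, 81, 82, 87, 0, 3, 1, 2, 3, 4, 3, 2, 5, 4, 3, 1, 2, 0, 3, 2, 6, 5, 4, 3, 1, 2, 0, 3, 2, 4, 3, 1, 5]),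
  ([125, 92, 87, 78, 73, 66], [3, 2, 0, 4, 3, 2, 5, 4, 3, 1, 2, 3, 4, 5, 6, 5, 4, 3, 1, 2, 0, 3, 4, 5, 6, 78, 81, 82, 87, 3, 1, 2, 0, 3, 2, 5, 4, 3, 1, 2, 3, 4, 5, 6, 5, 4, 3, 1, 2, 0, 3, 4, 5, 1, 3, 1, 2, 0, 3, 2, 5, 4, 3, 1, 2, 0, 3, 2, 4, 3, 5, 4, 6, 5, 4, 3, 2, 0, 78, 81, 82, 87, 0, 3, 1, 2, 3, 4, 3, 2, 5, 4, 3, 1, 2, 0, 3, 2, 6, 5, 4, 3, 1, 2, 0, 3, 2, 4, 3, 1, 5]),
  ([125, 92, 87, 78, 73, 66, 63], [1, 3, 2, 0, 4, 3, 2, 5, 4, 3, 1, 2, 0, 3, 2, 4, 3, 5, 4, 6, 5, 4, 3, 2, 0, 78, 81, 82, 87, 0, 2, 3, 1, 2, 0, 3, 2, 4, 3, 5, 4, 3, 1, 2, 0, 3, 2, 4, 3, 6, 5, 4, 3, 1, 2, 0, 3, 2, 4, 3, 1, 5, 4, 3, 6, 5, 3, 2, 0, 4, 3, 2, 5, 4, 3, 1, 2, 3, 4, 5, 6, 5, 4, 3, 1, 2, 0, 3, 4, 5, 6, 78, 81, 82, 87, 3, 1, 2, 0, 3, 2, 5, 4, 3, 1, 2, 3, 4, 5, 6, 5, 4, 3, 1, 2, 0, 3, 4, 5, 1, 3, 1, 2, 0, 3, 2, 5, 4, 3, 1, 2, 0, 3, 2, 4, 3, 5, 4, 6, 5, 4, 3, 2, 0, 78, 81, 82, 87, 0, 3, 1, 2, 3, 4,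 3, 2, 5, 4, 3, 1, 2, 0, 3, 2, 6, 5, 4, 3, 1, 2, 0, 3, 2, 4, 3, 1, 5])]

def invTE7 : List (List ℕ) := [[125], [125, 92], [125, 92, 87], [125, 92, 63], [125, 92, 87, 78]]

theorem agrE7 : Agree chevE7 fastE7 := agree_of_check smallE7 chainE7 ltE7

theorem ocmE7 : chkOC fastE7 = true := by decide +kernel

theorem orbE7 : chkOrb fastE7 orbRE7 orbCE7 = true := by decide +kernel

theorem progE7 : chkProg fastE7 ([] :: invTE7) orbPE7 = true := by decide +kernel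

theorem tgtE7 : chkTgt fastE7 invTE7 = true := by decide +kernel

theorem rkE7 : invTE7.map (rkT fastE7) = [34, 52, 62, 53, 63] := by decide +kernel

variable {K : Type*} [Field K] [Fintype K] [CharP K 2]

theorem cjTE7 {G : Type*} [Group G] {x : ℕ → K → G} (hx : IsFaith chevE7 x) (t : G) (ht : t ∈ GG x)
    (h : orderOf t = 2) : ∃ R ∈ invTE7, Cj (GG x) t (px x R) :=
  exists_cj_target hx agrE7 ocmE7 (Rs := orbRE7) (by decide) (by decide +kernel) orbE7 (by decide +kernel) progE7 ht h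

theorem distTE7 : ∀ R ∈ invTE7, ∀ R' ∈ invTE7,
    Cj (GG (xu chevE7 K)) (px (xu chevE7 K) R) (px (xu chevE7 K) R') → R = R' := fun _ hR _ hR' h =>
  List.inj_on_of_nodup_map (by rw [rkE7]; decide) hR hR'
    (rkT_eq_of_cj agrE7 (lt_of_chkTgt agrE7 tgtE7 hR) (lt_of_chkTgt agrE7 tgtE7 hR') h)

end Cfsg.Agent.H8
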