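import Cfsg.Agent.H8.LiftCheck
import Cfsg.Agent.H8.RootTables

set_option autoImplicit false

namespace Cfsg.Agent.H8

open Cfsg.Lie

instance slFactsE7 : SLFacts chevE7 := slFacts_of_check tablesE7 (by decide +kernel)

instance eRichE7 : ERich chevE7 :=
  eRich_of_check (T1 := 0x5d201f1e1d1c001a191800161500130011100f000d000b0a000807060004030201100f000d000b0a0008070a000807070600040302060004030600040600060004000303000202020001010101000302020200010101000101000100010000000000000000000000000000000000000000000000000000000000000000015d201f1e1d001b1a19001716001413120010000e0d0c000a09000706050003020110000e0d0c000a0900070a090007070605000302060500030605000605000500000300030202000201010100010302020002010100010100010101000000000000000000000000000000000000000000000000000000000000000000015d201f1e001c1b1a001817161514000011100f0e00000b0a090800060504000201100f0e00000b0a0908000a090800090605040002060504000605040000060504040000000200020201010001010502000202010001010101010000010000000000000000000000000000000000000000000000000000000000000000015d201f001d1c1b1a191817000000131211100f0e0d0c0b00000007060504030001100f0e0d0c0b000000070f0e0e07000605040300060504030000000605060504040303030000000001000101010300050404010101010000000101010000000000000000000000000000000000000000000000000000000000000000015f20001e1d1c1b1a1918171615141312110000000000000a0908070605040302001918171817170a09080700000000070605040302000000000605040605060504040303030202020200000000000302020202000000000504040303030000000000000000000000000000000000000000000000000000000000000000035d201f1e1d1c1b00000000161514131211100f0e0d0c0b0a090807000000000201100f0e0d0c0b0a0908070a090807070000000002000000000f0e0e0d0c0d0c0b0b0c0b0b0202020201010101010000000000000000000101010101010000000000000000000000000000000000000000000000000000000000000000015e0045383736352e2d2c2b2d2c2b2c2b2b100f0e0d0c0b0a090807060504030201000000000000000000000a09080707000000000006050403060504060506050404030303020202020101010101030202020201010101010101010101000000000000000000000000000000000504040303030202020202020202030200)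 (T2 := 0xa06090508040b03110208072101) tablesE7 (by decide +kernel)

end Cfsg.Agent.H8
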