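import Cfsg.Agent.H8.NCheck
import Cfsg.Prelude.Def_ChevE8

set_option autoImplicit false

namespace Cfsg.Agent.H8

open Cfsg.Lie

def etaE8 : ℕ := 0x800810894251485221014884104225a44208211280844a128a429108100140102112248a248910822442082113c8841042244108912451244884080220204221886182608841822104108e7108208441821106418611844204041040841c0700701c042070108208781e1041080e0420380e00e038210208088103c000fc0003c0100f004107c003e08200f00803c0003f0003c081100500f8000003ff00000800f800fc00003f001f00100000ffc000001f00a00602003ff00000003e0000f8207c00003e041f00007c0000000ffc00406002fc0000000000000007fff81f80000001f81fffe0000000000000003f40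
def ncertE8 : List (ℕ × ℕ × ℕ × ℕ) := [(14, 233, 6, 225), (7, 234, 5, 232), (6, 234, 5, 233), (5, 235, 4, 234), (4, 236, 3, 235), (3, 237, 2, 236), (2, 238, 1, 237), (1, 239, 0, 238)]
theorem nrowE8_0 : chkNRow chevE8 etaE8 ncertE8 0 = true := by decide +kernel
theorem nrowE8_1 : chkNRow chevE8 etaE8 ncertE8 1 = true := by decide +kernel
theorem nrowE8_2 : chkNRow chevE8 etaE8 ncertE8 2 = true := by decide +kernel
theorem nrowE8_3 : chkNRow chevE8 etaE8 ncertE8 3 = true := by decide +kernel
theorem nrowE8_4 : chkNRow chevE8 etaE8 ncertE8 4 = true := by decide +kernel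
theorem nrowE8_5 : chkNRow chevE8 etaE8 ncertE8 5 = true := by decide +kernel
theorem nrowE8_6 : chkNRow chevE8 etaE8 ncertE8 6 = true := by decide +kernel
theorem nrowE8_7 : chkNRow chevE8 etaE8 ncertE8 7 = true := by decide +kernel
theorem nrowE8 : ∀ i, i < chevE8.rank → chkNRow chevE8 etaE8 ncertE8 i = true := by
  intro i hi
  change i < 8 at hi
  interval_cases i
  exacts [nrowE8_0, nrowE8_1, nrowE8_2, nrowE8_3, nrowE8_4, nrowE8_5, nrowE8_6, nrowE8_7]
instance nFactsE8 : NFacts chevE8 := ⟨etaE8, ncertE8, nrowE8⟩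

end Cfsg.Agent.H8
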