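import Cfsg.Agent.H8.EA4

/-! A non-abelian simple group all of whose elements have prime power order has even order. -/

set_option autoImplicit false

namespace Cfsg.Agent.H8.EA

open Cfsg Cfsg.Agent.H1 Subgroup Finset MulAction
open scoped ComplexConjugate commutatorElement

universe u

section Est

variable {G : Type*} [Group G] [Fintype G] {p : ℕ} {H : Subgroup G}

open Classical in
/-- sum of the squared absolute values over the non-identity elements of `H` -/
noncomputable def SS (H : Subgroup G) (f : G → ℂ) : ℝ := ∑ x ∈ univ.erase (1 : H), ‖f x‖ ^ 2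

theorem SS_nonneg (f : G → ℂ) : 0 ≤ SS H f := sum_nonneg fun _ _ => sq_nonneg _

theorem res_char (χ : IrrCharacter G) : IsCharacter H (fun x : H => χ.1 x) :=
  IsCharacter.comp (IsIrrCharacter.isCharacter χ.2) H.subtype

theorem exists_mu (χ : IrrCharacter G) : ∃ (n : Lam H → ℕ) (t : ℝ), (∀ l, mu χ.1 l = n l) ∧
    Nat.card H * ∑ l, ((n l : ℝ) - t) ^ 2 ≤ SS H χ.1 := by
  classical
  have h1 : ∀ l : Lam H, ∃ n : ℕ, mu χ.1 l = n := fun l =>
    IsCharacter.classInner_nat (res_char χ) (IsIrrCharacter.isCharacter (ch l).2)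
  choose n hn using h1
  obtain ⟨d, -, hd⟩ := IsIrrCharacter.exists_one_eq χ.2
  refine ⟨n, d / Nat.card H, hn, ?_⟩
  have := bessel (IsCharacter.isClassFunction (res_char (H := H) χ)) ch ch_inj ch_one
  refine le_trans (le_of_eq ?_) (this.trans_eq (by unfold SS; congr))
  congr 1
  refine sum_congr rfl fun l _ => ?_
  rw [show classInner _ _ = _ from hn l, Subgroup.coe_one, hd, ← sq_abs, ← Real.norm_eq_abs,
    ← Complex.norm_real]
  push_cast
  rfl

namespace TI

theorem SS_exc (h : TI p H) {χ : IrrCharacter G} (hχ : χ ∈ X H) :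
    (Nat.card H : ℝ) * (ee H * (Fintype.card (Lam H) - ee H)) ≤ Fintype.card (Lam H) * SS H χ.1 := by
  classical
  obtain ⟨n, t, hn, hS⟩ := exists_mu (H := H) χ
  obtain ⟨l, hl, m, hm, e⟩ := mem_X.1 hχ
  rw [inner_D_irr, hn, hn, sub_ne_zero, Nat.cast_injective.ne_iff] at e
  have h1 : ∀ l m : Lam H, m ≠ 1 → Cj l m → n l = n m := fun l m hm hc => by
    have := inner_D_irr l m χ
    rw [h.D_eq_zero hm hc, classInner_zero_left, hn, hn, eq_comm, sub_eq_zero] at this
    exact_mod_cast this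
  have h2 := var_le (fun l => (n l : ℝ)) t 1 (univ.filter fun k => n k = n l) (fun i hi j hj => by
    simp only [mem_filter, mem_univ, true_and] at hi hj
    have : (n i : ℤ) - n j ≠ 0 := by omega
    have := (one_le_sq_iff_one_le_abs _).2 (Int.one_le_abs this)
    exact_mod_cast this)
  have h3 : ee H ≤ (univ.filter fun k => n k = n l).card := by
    rw [← h.card_filter_cj hl]
    exact card_le_card fun k hk => mem_filter.2 ⟨mem_univ _, h1 _ _ hl (mem_filter.1 hk).2⟩
  have h4 : ee H ≤ (univ.filter fun k => ¬ n k = n l).card := by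
    rw [← h.card_filter_cj hm]
    exact card_le_card fun k hk => mem_filter.2 ⟨mem_univ _, by
      rw [h1 _ _ hm (mem_filter.1 hk).2]; exact e.symm⟩
  have h5 := card_filter_add_card_filter_not (s := univ) fun k => n k = n l
  rw [card_univ] at h5
  generalize (univ.filter fun k => n k = n l).card = s at *
  generalize (univ.filter fun k => ¬ n k = n l).card = s' at *
  have h3' : (ee H : ℝ) ≤ s := by exact_mod_cast h3
  have h4' : (ee H : ℝ) ≤ s' := by exact_mod_cast h4
  have h5' : (s : ℝ) + s' = Fintype.card (Lam H) := by exact_mod_cast h5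
  have h6 : (ee H : ℝ) * (Fintype.card (Lam H) - ee H) ≤ s * (Fintype.card (Lam H) - s) := by
    rw [← h5']
    nlinarith [mul_nonneg (sub_nonneg.2 h3') (sub_nonneg.2 h4')]
  have h7 : (0 : ℝ) ≤ Nat.card H := Nat.cast_nonneg _
  have h8 : (0 : ℝ) ≤ Fintype.card (Lam H) := Nat.cast_nonneg _
  calc _ ≤ (Nat.card H : ℝ) * (Fintype.card (Lam H) * ∑ l, ((n l : ℝ) - t) ^ 2) :=
        mul_le_mul_of_nonneg_left (h6.trans (by simpa using h2)) h7
    _ = Fintype.card (Lam H) * (Nat.card H * ∑ l, ((n l : ℝ) - t) ^ 2) := by ring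
    _ ≤ _ := mul_le_mul_of_nonneg_left hS h8

theorem card_lam (h : TI p H) : ∃ k, Fintype.card (Lam H) = p ^ (k + 1) := by
  have := Fact.mk h.pr
  obtain ⟨k, hk⟩ := (lam_pgroup h.pg).exists_card_eq
  rw [Nat.card_eq_fintype_card] at hk
  rcases k with _ | k
  · obtain ⟨l, hl⟩ := h.exists_ne_one
    exact absurd (Fintype.card_le_one_iff.1 hk.le l 1) hl
  · exact ⟨k, hk⟩

theorem SS_non (h : TI p H) {χ : IrrCharacter G} (hχ : χ ∉ X H) {l : Lam H} (hl : l ≠ 1)
    (hc : classInner (D 1 l) χ.1 ≠ 0) : (Nat.card H : ℝ) - 1 ≤ SS H χ.1 := by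
  classical
  obtain ⟨d, -, hd⟩ := IsIrrCharacter.exists_one_eq χ.2
  by_cases hpd : p ∣ d
  swap
  · exact (gal h.pr h.pg (res_char (H := H) χ) hd hpd).trans_eq (by unfold SS; congr)
  obtain ⟨n, t, hn, hS⟩ := exists_mu (H := H) χ
  rw [inner_D_irr, hn, hn, sub_ne_zero, Nat.cast_injective.ne_iff] at hc
  have h1 : ∀ m : Lam H, m ≠ 1 → n m = n l := fun m hm => by
    by_contra e
    exact hχ (mem_X.2 ⟨m, hm, l, hl, by
      rwa [inner_D_irr, hn, hn, sub_ne_zero, Nat.cast_injective.ne_iff]⟩)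
  obtain ⟨N, hN⟩ := deg_mod h.pr h.pg (res_char (H := H) χ)
  obtain ⟨k, hk⟩ := h.card_lam
  have h2 : ∑ m, n m + n l = n 1 + p ^ (k + 1) * n l := by
    rw [← add_sum_erase _ _ (mem_univ 1), sum_congr rfl fun m hm => h1 m (mem_erase.1 hm).1,
      sum_const, card_erase_of_mem (mem_univ _), card_univ, ← hk, smul_eq_mul, add_assoc,
      ← Nat.succ_mul, Nat.succ_eq_add_one, Nat.sub_add_cancel Fintype.card_pos]
  have h3 : d = ∑ m, n m + p * N := by
    rw [Subgroup.coe_one, hd, sum_congr rfl fun m _ => show classInner _ _ = _ from hn m] at hN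
    exact_mod_cast hN
  have h4 : (p : ℤ) ∣ (n 1 : ℤ) - n l := by
    obtain ⟨c, hc⟩ := hpd
    refine ⟨c - N - p ^ k * n l, ?_⟩
    zify at h2 h3 hc
    linear_combination -h2 - h3 + hc
  have h5 : (2 : ℤ) ≤ |(n 1 : ℤ) - n l| :=
    le_trans (by exact_mod_cast h.pr.two_le) (Int.le_of_dvd (abs_pos.2 (by omega)) ((dvd_abs _ _).2 h4))
  have h6 := var_le (fun l => (n l : ℝ)) t 4 {1} (fun i hi j hj => by
    rw [mem_singleton] at hi hj
    rw [hi, h1 j hj]
    have : (4 : ℤ) ≤ ((n 1 : ℤ) - n l) ^ 2 := by rw [← sq_abs]; nlinarith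
    exact_mod_cast this)
  have h7 : (2 : ℝ) ≤ Fintype.card (Lam H) := by
    have : Nontrivial (Lam H) := ⟨l, 1, hl⟩
    exact_mod_cast Fintype.one_lt_card
  have h8 : 1 ≤ ∑ l, ((n l : ℝ) - t) ^ 2 := by
    refine le_of_mul_le_mul_left ?_ (lt_of_lt_of_le two_pos h7)
    simp only [card_singleton, Nat.cast_one] at h6
    linarith
  have h9 : (0 : ℝ) ≤ Nat.card H := Nat.cast_nonneg _
  nlinarith

open Classical in
theorem part (h : TI p H) {f : G → ℂ} (hf : IsClassFunction G f) :
    (Nat.card H : ℝ) * ee H * ∑ g ∈ univ.filter (fun g => p ∣ orderOf g), (‖f g‖ ^ 2 - 1) =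
      Nat.card G * (SS H f - (Nat.card H - 1)) := by
  let θ : H → ℂ := fun x => if x = 1 then 0 else 1
  have h1 := sum_indHom_mul H.subtype θ (f := fun g => ((‖f g‖ ^ 2 - 1 : ℝ) : ℂ))
    (fun g y => by simp only [hf g y])
  have h2 : ∀ g, indHom H.subtype θ g = if p ∣ orderOf g then (ee H : ℂ) else 0 := fun g => by
    rw [← indFun_eq_indHom]
    split_ifs with hg
    · obtain ⟨y, hy⟩ := h.cj g hg
      have h3 : (⟨_, hy⟩ : H) ≠ 1 := fun e => by
        have h4 : g = 1 := by simpa [mul_assoc, inv_mul_eq_one] using congrArg Subtype.val e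
        exact h.pr.one_lt.ne' (by simpa [h4] using hg)
      rw [← isClassFunction_indFun H θ g y⁻¹, inv_inv, h.res (by simp [θ]) ⟨_, hy⟩]
      simp only [θ, map_eq_one_iff _ (MulEquiv.injective _), if_neg h3, sum_const, card_univ,
        nsmul_eq_mul, mul_one, ← Nat.card_eq_fintype_card, ← card_mul_ee, Nat.cast_mul]
      rw [inv_mul_cancel_left₀ card_ne_zero']
    · exact h.supp (by simp [θ]) hg
  simp only [h2, ite_mul, zero_mul, ← sum_filter, ← mul_sum] at h1
  rw [← add_sum_erase _ _ (mem_univ (1 : H)),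
    sum_congr rfl (s₂ := univ.erase (1 : H)) (g := fun x : H => ((‖f x‖ ^ 2 - 1 : ℝ) : ℂ))
      fun x hx => by simp [θ, (mem_erase.1 hx).1]] at h1
  simp only [θ, if_true, zero_mul, zero_add] at h1
  have h3 : SS H f - (Nat.card H - 1) = ∑ x ∈ univ.erase (1 : H), (‖f x‖ ^ 2 - 1) := by
    rw [sum_sub_distrib, sum_const, card_erase_of_mem (mem_univ _), card_univ, nsmul_eq_mul,
      Nat.cast_sub Fintype.card_pos, ← Nat.card_eq_fintype_card, SS]
    simp
  rw [h3, mul_assoc]
  exact_mod_cast h1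

theorem ee_odd (h : TI p H) : Odd (ee H) :=
  h.odd.of_dvd_nat ((Dvd.intro_left _ (card_mul_ee H)).trans (card_subgroup_dvd_card _))

end TI

open Classical in
theorem total (hE : EP G) (χ : IrrCharacter G) : ∑ p ∈ (Nat.card G).primeFactors,
    ∑ g ∈ univ.filter (fun g => p ∣ orderOf g), (‖χ.1 g‖ ^ 2 - 1) ≤ 0 := by
  have h1 := sum_fiberwise_of_maps_to (s := univ.erase (1 : G)) (t := (Nat.card G).primeFactors)
    (g := fun g => (orderOf g).minFac) (fun g hg => Nat.mem_primeFactors.2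
      ⟨Nat.minFac_prime fun e => (mem_erase.1 hg).1 (orderOf_eq_one_iff.1 e),
        (Nat.minFac_dvd _).trans (orderOf_dvd_natCard g), Nat.card_pos.ne'⟩)
    (fun g => ‖χ.1 g‖ ^ 2 - 1)
  rw [sum_congr rfl fun p hp => sum_congr (s₂ := (univ.erase (1 : G)).filter
    fun g => (orderOf g).minFac = p) ?_ fun _ _ => rfl, h1]
  · have h2 := IsIrrCharacter.classInner_self χ.2
    simp only [classInner, Complex.mul_conj, Complex.normSq_eq_norm_sq] at h2
    rw [inv_mul_eq_iff_eq_mul₀ card_ne_zero', mul_one] at h2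
    have h3 : ∑ g, ‖χ.1 g‖ ^ 2 = Nat.card G := by exact_mod_cast h2
    rw [← add_sum_erase _ _ (mem_univ 1)] at h3
    obtain ⟨n, hn, e⟩ := IsIrrCharacter.exists_one_eq χ.2
    rw [e, Complex.norm_natCast] at h3
    rw [sum_sub_distrib, sum_const, card_erase_of_mem (mem_univ _), card_univ, nsmul_eq_mul,
      Nat.cast_sub Fintype.card_pos, ← Nat.card_eq_fintype_card]
    have : (1 : ℝ) ≤ n := by exact_mod_cast hn
    push_cast
    nlinarith
  · have hp' := Nat.prime_of_mem_primeFactors hp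
    ext g
    simp only [mem_filter, mem_univ, true_and, mem_erase, and_true]
    refine ⟨fun e => ?_, fun e => e.2 ▸ Nat.minFac_dvd _⟩
    have hg : g ≠ 1 := by rintro rfl; exact hp'.one_lt.ne' (by simpa using e)
    exact ⟨hg, hE.eq_of_dvd (Nat.minFac_prime fun e => hg (orderOf_eq_one_iff.1 e)) hp'
      (Nat.minFac_dvd _) e⟩

end Est

theorem numeric {e a K : ℕ} (he : 3 ≤ e) (ha : 2 * e + 1 ≤ a)
    (hK : K = a + 1 ∧ (4 ≤ e ∨ 8 ≤ a) ∨ e = 3 ∧ a = 7 ∧ K = 10) :
    ((e : ℝ) - 1) / K ≤ (a - e) / a - 1 / e := by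
  rcases hK with ⟨rfl, h⟩ | ⟨rfl, rfl, rfl⟩
  swap
  · norm_num
  have h1 : (0 : ℝ) < e := by positivity
  have h2 : (0 : ℝ) < a := by have : 0 < a := by omega
                              positivity
  rw [div_sub_div _ _ h2.ne' h1.ne', div_le_div_iff₀ (by positivity) (by positivity)]
  have : ((e : ℤ) - 1) * (a * e) ≤ ((a - e) * e - a * 1) * (a + 1) := by
    by_cases h4 : 4 ≤ e
    · obtain ⟨u, rfl⟩ := Nat.exists_eq_add_of_le h4
      obtain ⟨t, rfl⟩ := Nat.exists_eq_add_of_le ha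
      push_cast
      rw [← sub_nonneg]
      ring_nf
      positivity
    · obtain rfl : e = 3 := by omega
      obtain ⟨t, rfl⟩ := Nat.exists_eq_add_of_le (show 8 ≤ a by omega)
      push_cast
      rw [← sub_nonneg]
      ring_nf
      positivity
  exact_mod_cast this

theorem ti_false {G : Type*} [Group G] [Fintype G] [Nontrivial G] (hE : EP G) (H : ℕ → Subgroup G)
    (hH : ∀ p ∈ (Nat.card G).primeFactors, TI p (H p) ∧ ee (H p) ≠ 1) : False := by
  classical
  set S := (Nat.card G).primeFactors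
  let a := fun p => Fintype.card (Lam (H p))
  let e := fun p => ee (H p)
  obtain ⟨p, hp, hmin⟩ := exists_min_image S a
    (Nat.nonempty_primeFactors.2 Finite.one_lt_card)
  have h := (hH p hp).1
  have he : ∀ q ∈ S, 3 ≤ e q := fun q hq => by
    obtain ⟨k, hk⟩ := (hH q hq).1.ee_odd
    have := (hH q hq).2
    simp only [e]; omega
  have ha : ∀ q ∈ S, Odd (a q) := fun q hq => by
    obtain ⟨k, hk⟩ := (hH q hq).1.card_lam
    simp only [a, hk]
    exact (h.odd.of_dvd_nat (Nat.dvd_of_mem_primeFactors hq)).pow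
  have ha' : ∀ q ∈ S.erase p, a p + 2 ≤ a q := fun q hq => by
    obtain ⟨hqp, hq⟩ := mem_erase.1 hq
    have h1 : a p ≠ a q := fun e => by
      obtain ⟨k, hk⟩ := (hH q hq).1.card_lam
      obtain ⟨j, hj⟩ := h.card_lam
      simp only [a, hk, hj] at e
      exact hqp ((Nat.prime_dvd_prime_iff_eq (hH q hq).1.pr h.pr).1
        ((hH q hq).1.pr.dvd_of_dvd_pow (e ▸ dvd_pow_self q k.succ_ne_zero)))
    obtain ⟨i, hi⟩ := ha p hp
    obtain ⟨j, hj⟩ := ha q hq
    have := hmin q hq
    omega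
  have hX : ∀ q ∈ S, a q ≤ e q * (X (H q)).card + 1 ∧ 2 ≤ (X (H q)).card := fun q hq => by
    have h1 := (hH q hq).1.card_X
    have h2 := (hH q hq).1.two_ee
    refine ⟨h1, Nat.le_of_mul_le_mul_left ?_ (lt_of_lt_of_le three_pos (he q hq))⟩
    simp only [e]; omega
  obtain ⟨χ, hχ⟩ := card_pos.1 (lt_of_lt_of_le two_pos (hX p hp).2)
  choose! l hl using fun q (hq : q ∈ S) => (hH q hq).1.exists_ne_one
  let B := (S.erase p).filter fun q => classInner (D 1 (l q)) χ.1 = 0
  have hB : ∀ q ∈ B, q ≠ p ∧ q ∈ S := fun q hq => mem_erase.1 (mem_filter.1 hq).1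
  have h1 : ∑ q ∈ B, (X (H q)).card + 1 ≤ e p := by
    rw [← card_biUnion fun q hq r hr hne => (hH q (hB q hq).2).1.disj (hH r (hB r hr).2).1 hE hne]
    refine h.beta_count (hl p hp) _ (fun e => ?_) ?_ fun ψ hψ e => ?_
    · obtain ⟨q, -, e⟩ := mem_biUnion.1 e
      exact triv_not_mem_X e
    · exact (disjoint_biUnion_right _ _ _).2 fun q hq =>
        h.disj (hH q (hB q hq).2).1 hE (hB q hq).1.symm
    · obtain ⟨q, hq, hψ⟩ := mem_biUnion.1 hψ
      have h' := (hH q (hB q hq).2).1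
      refine h.parity h' hE (hB q hq).1.symm (hl p hp) (hl q (hB q hq).2) (fun φ hφ => ?_)
        fun φ hφ => ?_
      · exact (h'.const (fun _ _ _ _ => h.orth h' hE (hB q hq).1.symm _ _ _ _) hφ hψ).trans e
      · exact (h.const (fun _ _ _ _ => h'.orth h hE (hB q hq).1 _ _ _ _) hφ hχ).trans
          (mem_filter.1 hq).2
  obtain ⟨K, hK0, hK1, hK2⟩ : ∃ K : ℕ, 0 < K ∧ ((e p : ℝ) - 1) / K ≤ (a p - e p) / a p - 1 / e p ∧
      ∀ q ∈ B, K ≤ e q * (X (H q)).card := by
    by_cases hc : 4 ≤ e p ∨ 8 ≤ a p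
    · refine ⟨a p + 1, Nat.succ_pos _, numeric (he p hp) h.two_ee (Or.inl ⟨rfl, hc⟩), fun q hq => ?_⟩
      have := ha' q (mem_filter.1 hq).1
      have := (hX q (hB q hq).2).1
      omega
    · have h2 : 2 * e p + 1 ≤ a p := h.two_ee
      have h3 := he p hp
      refine ⟨10, by norm_num, numeric h3 h2 (Or.inr (by omega)), fun q hq => ?_⟩
      have h4 := ha' q (mem_filter.1 hq).1
      have h5 := hX q (hB q hq).2
      have h6 := single_le_sum (f := fun q => (X (H q)).card) (fun _ _ => Nat.zero_le _) hq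
      have h7 : (X (H q)).card = 2 := by omega
      obtain ⟨k, hk⟩ : Odd (e q) := (hH q (hB q hq).2).1.ee_odd
      rw [h7] at h5 ⊢
      omega
  let T := fun q => ∑ g ∈ univ.filter (fun g => q ∣ orderOf g), (‖χ.1 g‖ ^ 2 - 1)
  have hT : ∑ q ∈ S, T q ≤ 0 := total hE χ
  have hG : (0 : ℝ) < Nat.card G := by exact_mod_cast Nat.card_pos
  have hh : ∀ q, (0 : ℝ) < Nat.card (H q) := fun q => by exact_mod_cast Nat.card_pos
  have he' : ∀ q ∈ S, (0 : ℝ) < e q := fun q hq => by
    have := he q hq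
    positivity
  have hT' : ∀ q ∈ S, T q = Nat.card G *
      ((SS (H q) χ.1 - (Nat.card (H q) - 1)) / (Nat.card (H q) * e q)) := fun q hq => by
    rw [← mul_div_assoc, eq_div_iff (mul_pos (hh q) (he' q hq)).ne', mul_comm]
    exact (hH q hq).1.part (IsGeneralizedCharacter.isClassFunction (irr_gen χ))
  have hK' : (0 : ℝ) < K := by exact_mod_cast hK0
  have h2 : ∀ q ∈ S.erase p, Nat.card G * -(if q ∈ B then ((X (H q)).card / K : ℝ) else 0) ≤ T q :=
    fun q hq => by
      obtain ⟨hqp, hqS⟩ := mem_erase.1 hq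
      rw [hT' q hqS]
      refine mul_le_mul_of_nonneg_left ?_ hG.le
      rw [le_div_iff₀ (mul_pos (hh q) (he' q hqS))]
      split_ifs with hb
      · have h3 : (1 : ℝ) ≤ (X (H q)).card / K * e q := by
          rw [div_mul_eq_mul_div, one_le_div hK', mul_comm]
          exact_mod_cast hK2 q hb
        nlinarith [SS_nonneg (H := H q) χ.1, hh q]
      · have := (hH q hqS).1.SS_non (disjoint_left.1 (h.disj (hH q hqS).1 hE hqp.symm) hχ)
          (hl q hqS) fun e => hb (mem_filter.2 ⟨hq, e⟩)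
        linarith
  have h3 := sum_le_sum h2
  rw [← mul_sum, sum_neg_distrib, ← sum_filter, filter_mem_eq_inter,
    inter_eq_right.2 (filter_subset _ _), ← sum_div] at h3
  have h4 : ∑ q ∈ B, ((X (H q)).card : ℝ) ≤ e p - 1 := by
    rw [le_sub_iff_add_le]; exact_mod_cast h1
  have h5 : Nat.card G * ((a p - e p) / a p - 1 / e p : ℝ) < T p := by
    rw [hT' p hp]
    refine mul_lt_mul_of_pos_left ?_ hG
    have ha0 : (0 : ℝ) < a p := by exact_mod_cast Fintype.card_pos
    have h6 : (Nat.card (H p) : ℝ) * (e p * (a p - e p)) ≤ a p * SS (H p) χ.1 := h.SS_exc hχ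
    have h7 := he' p hp
    have h8 := hh p
    rw [lt_div_iff₀ (mul_pos h8 h7)]
    have h9 : ((a p - e p) / a p - 1 / e p : ℝ) * (Nat.card (H p) * e p) =
        Nat.card (H p) * (e p * (a p - e p)) / a p - Nat.card (H p) := by field_simp
    rw [h9]
    have := (div_le_iff₀' ha0).2 h6
    linarith
  rw [← add_sum_erase _ _ hp] at hT
  have h6 := mul_le_mul_of_nonneg_left ((div_le_div_of_nonneg_right h4 hK'.le).trans hK1) hG.le
  linarith

theorem exists_ti {G : Type*} [Group G] [Fintype G] [IsSimpleGroup G] (hG : ¬ IsMulCommutative G)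
    (hE : EP G) (ho : Odd (Nat.card G)) (hs : ∀ M : Subgroup G, M ≠ ⊤ → Group.IsSolvable M)
    {p : ℕ} (hp : p ∈ (Nat.card G).primeFactors) : ∃ H : Subgroup G, TI p H ∧ ee H ≠ 1 := by
  have hp' := Nat.prime_of_mem_primeFactors hp
  have := Fact.mk hp'
  have hd := Nat.dvd_of_mem_primeFactors hp
  have hp2 : p ≠ 2 := by
    rintro rfl
    exact (Nat.not_even_iff_odd.2 ho) (even_iff_two_dvd.2 hd)
  let P : Sylow p G := default
  have h : TI p (P : Subgroup G) :=
    { pr := hp'
      pg := P.isPGroup'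
      ne := P.ne_bot_of_dvd_card hd
      ti := fun g x hx hx1 hg => by
        by_contra hn
        have := sylow_ti hG hE hs hp2 P (g • P) fun e => hn (Sylow.smul_eq_iff_mem_normalizer.1 e)
        exact hx1 (mem_bot.1 (this ▸ ⟨hx, (mem_smul_sylow P g x).2 hg⟩))
      fpf := fun g hg hgP x hx e => by
        by_contra hx1
        exact hgP (mem_sylow_of_normalizer P hg (hE.pow_of_commute hp' e
          (dvd_orderOf_of_mem hp' P.isPGroup' hx hx1)))
      odd := ho
      cj := fun g hg => by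
        obtain ⟨k, hk⟩ := hE.pow_eq_one hp' hg
        obtain ⟨j, -, hj⟩ := (Nat.dvd_prime_pow hp').1 (orderOf_dvd_of_pow_eq_one hk)
        obtain ⟨Q, hQ⟩ := (IsPGroup.of_card (G := zpowers g) (by
          rw [Nat.card_zpowers, hj])).exists_le_sylow
        obtain ⟨y, rfl⟩ := exists_smul_eq G P Q
        exact ⟨y, (mem_smul_sylow P y g).1 (hQ (mem_zpowers g))⟩ }
  refine ⟨P, h, fun e => ?_⟩
  obtain ⟨l, hl⟩ := h.exists_ne_one
  have h1 := le_of_focal hG P (l.ker.map (P : Subgroup G).subtype) fun x hx u hu => by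
    by_cases hx1 : x = 1
    · simp [hx1]
    have h2 : u⁻¹⁻¹ * x⁻¹ * u⁻¹ ∈ (P : Subgroup G) := by
      simpa [commutatorElement_def, mul_assoc] using mul_mem (inv_mem hx) hu
    have h3 := inv_mem_iff.1 (relIndex_eq_one.1 e (h.ti _ _ (inv_mem hx) (inv_ne_one.2 hx1) h2))
    refine ⟨⁅(⟨x, hx⟩ : (P : Subgroup G)), ⟨u, h3⟩⁆, ?_, rfl⟩
    show l _ = 1
    rw [map_commutatorElement, commutatorElement_eq_one_iff_mul_comm, mul_comm]
  apply hl
  ext x
  obtain ⟨y, hy, e⟩ := h1 x.2
  rw [← show y = x from Subtype.ext e, show l y = 1 from hy, MonoidHom.one_apply]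

theorem EP.solvable {G : Type u} [Group G] [Finite G] (hE : EP G) (ho : Odd (Nat.card G)) :
    Group.IsSolvable G := by
  induction' hn : Nat.card G using Nat.strong_induction_on with n ih generalizing G
  subst hn
  have hs : ∀ M : Subgroup G, M ≠ ⊤ → Group.IsSolvable M := fun M hM =>
    ih _ (by rw [← card_top (G := G)]; exact H2.card_lt_of_lt (lt_top_iff_ne_top.2 hM)) (hE.sub M)
      (ho.of_dvd_nat (card_subgroup_dvd_card M)) rfl
  by_contra hn
  have : Nontrivial G := not_subsingleton_iff_nontrivial.1 fun _ => hn inferInstance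
  have : IsSimpleGroup G := ⟨fun N hN => by
    by_contra hc
    push Not at hc
    have := hs N hc.2
    have := ih _ (H2.card_quot_lt N hc.1) (hE.map _ (QuotientGroup.mk'_surjective N))
      (ho.of_dvd_nat (card_quotient_dvd_card N)) rfl
    exact hn (Group.isSolvable_of_ker_le_range N.subtype (QuotientGroup.mk' N) (by simp))⟩
  have hG : ¬ IsMulCommutative G := fun h => hn (Group.isSolvable_of_comm h.is_comm.comm)
  have := Fintype.ofFinite G
  choose! H hH using fun p (hp : p ∈ (Nat.card G).primeFactors) => exists_ti hG hE ho hs hp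
  exact ti_false hE H hH

/-- a non-abelian simple group all of whose elements have prime power order has even order -/
theorem pieceA {G : Type*} [Group G] [Finite G] [IsSimpleGroup G] (hG : ¬ IsMulCommutative G)
    (h : ∀ g : G, g ≠ 1 → IsPrimePow (orderOf g)) : Even (Nat.card G) := by
  by_contra hn
  exact hG ⟨⟨IsSimpleGroup.comm_iff_isSolvable.2 (EP.solvable h (Nat.not_even_iff_odd.1 hn))⟩⟩

end Cfsg.Agent.H8.EA
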