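import Cfsg.Agent.H8.EC4

/-! Higman's theorem on Suzuki `2`-groups for an automorphism of Mersenne prime order. -/

set_option autoImplicit false

namespace Cfsg.Agent.H8.EC

open Finset Subgroup
open scoped commutatorElement

universe u

variable {F : Type*} [Field F] [Fintype F] [Algebra (ZMod 2) F]

theorem Hyp.caseNon {S : Type*} [Group S] [Finite S] {κ : MulAut S} {om : S → F} {l : F}
    (h : Hyp κ om l) (hM : ∀ (π : S → F) (m : F), Gen m → ∀ hπ : EH κ ⊤ π m,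
      (∀ a ∈ hπ.ker, Lv 2 a) ∧ ∃ a ∈ hπ.ker, ∃ b ∈ hπ.ker, a * b ≠ b * a) {x : S}
    (hx : ¬ Lv 2 x) : False := by
  let Φ : Subgroup S := closure {y | ∃ g, y = g * g}
  have hs : ∀ g, g * g ∈ Φ := fun g => subset_closure ⟨g, rfl⟩
  have hcm : ∀ g g', ⁅g, g'⁆ ∈ Φ := fun g g' =>
    comm_mem_of_sq (X := ⊤) (fun t _ => hs t) trivial trivial
  have hle : ∀ H : Subgroup S, (∀ g, g * g ∈ H) → Φ ≤ H := fun H hH =>
    (closure_le _).2 (by rintro _ ⟨g, rfl⟩; exact hH g)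
  have hi : ∀ y ∈ Φ, κ y ∈ Φ := hle (Φ.comap κ.toMonoidHom) fun g => by
    show κ (g * g) ∈ Φ
    rw [map_mul]; exact hs _
  obtain ⟨g0, hg0⟩ : ∃ g0, g0 ∉ Φ := by
    obtain ⟨k, hk⟩ := h.pg.exists_card_eq
    rcases k with _ | k
    · have := (Nat.card_eq_one_iff_unique.1 hk).1
      exact absurd (Subsingleton.elim _ _) hx
    obtain ⟨H, hH⟩ := Sylow.exists_subgroup_card_pow_prime (G := S) 2 (n := k)
      (hk ▸ pow_dvd_pow 2 k.le_succ)
    have h1 : H.index = 2 := by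
      have := H.card_mul_index
      rw [hH, hk, pow_succ] at this
      exact Nat.eq_of_mul_eq_mul_left (by positivity) this
    by_contra hn
    push Not at hn
    rw [show H = ⊤ from eq_top_iff.2 fun y _ => hle H (mul_self_mem_of_index_two h1) (hn y),
      index_top] at h1
    omega
  obtain ⟨π1, m1, hm1, h1, -, -⟩ := h.coord (X := ⊤) (fun _ _ => trivial) hi (fun g _ => hs g)
    trivial hg0
  obtain ⟨h14, a, ha, b, hb, hab⟩ := hM π1 m1 hm1 h1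
  have hk1 : Φ ≤ h1.ker := hle _ fun g => ⟨trivial, h1.sq trivial⟩
  have hΦ4 : ∀ y ∈ Φ, Lv 2 y := fun y hy => h14 y (hk1 hy)
  let W : Subgroup S :=
    { carrier := {w | w ∈ Φ ∧ ∀ g, ⁅w, g⁆ ∈ Om h.cen}
      one_mem' := ⟨Φ.one_mem, fun g => by simp⟩
      mul_mem' := fun hw hw' => ⟨mul_mem hw.1 hw'.1, fun g => by
        rw [comm_mul_left, h.conj (hw'.2 g)]; exact mul_mem (hw'.2 g) (hw.2 g)⟩
      inv_mem' := fun {w} hw => ⟨inv_mem hw.1, fun g => by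
        have := inv_mem (hw.2 g)
        rw [← h.conj this w⁻¹] at this
        convert this using 1
        simp only [commutatorElement_def]; group⟩ }
  obtain ⟨w, hw, hw'⟩ : ∃ w ∈ W, ¬ Lv 1 w := by
    by_contra hn
    push Not at hn
    have := h.pg.isNilpotent
    obtain ⟨n, hn'⟩ := Group.IsNilpotent.nilpotent S
    have h2 : ∀ i, ∀ w ∈ Φ, w ∈ Subgroup.upperCentralSeries S i → Lv 1 w := fun i => by
      induction i with
      | zero => exact fun w _ hw => by rw [show w = 1 from hw]; exact one_pow _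
      | succ i ih => exact fun w hw hw' => hn w ⟨hw, fun g =>
          lv_one.1 (ih _ (hcm w g) (Subgroup.mem_upperCentralSeries_succ_iff.1 hw' g))⟩
    exact hx (lv_sq.1 (h2 n _ (hs x) (hn' ▸ mem_top _)))
  have hc : ∀ w ∈ W, ∀ y ∈ Φ, w * y = y * w := fun w hw y hy =>
    (mem_centralizer_singleton_iff.1 (hle (centralizer {w}) (fun g => mem_centralizer_singleton_iff.2
      (commutatorElement_eq_one_iff_mul_comm.1 (by
        rw [comm_mul_right, h.conj (hw.2 g)]; exact hw.2 g)).symm) hy)).symm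
  have hW : EH κ W (sg om 1) l := EH.of_ne h.gen (fun w hw => ⟨hi w hw.1, fun g => by
      rw [← κ.apply_symm_apply g, ← map_commutatorElement]; exact om_inv _ _ (hw.2 _)⟩)
    (fun x hx y hy => h.sg_add (hc x hx y hy.1) (hΦ4 _ hx.1) (hΦ4 _ hy.1))
    (fun x hx => h.sg_eqv (hΦ4 _ hx.1)) hw fun e => hw' (h.lv_of_sg (hΦ4 _ hw.1) e)
  have hΦW : Φ ≤ W := fun y hy => by
    obtain ⟨v, hv, e⟩ := hW.surj (sg om 1 y)
    have h2 := mul_mem hy (inv_mem hv.1)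
    have h3 := lv_one.1 (h.lv_of_sg (hΦ4 _ h2) (by
      rw [h.sg_add (hc _ (inv_mem hv) _ hy).symm (hΦ4 _ hy) (hΦ4 _ hv.1).inv, add_inv hW.add hv,
        e, aa]))
    have h4 : y * v⁻¹ ∈ W := ⟨h2, fun g => by
      rw [commutatorElement_eq_one_iff_mul_comm.2 (h.cen _ h3 g).symm]; exact one_mem _⟩
    simpa using mul_mem h4 hv
  have hA : Ab κ Φ := ⟨fun a ha b hb => hc a (hΦW ha) b hb,
    ⟨fun n hn g => by simpa [commutatorElement_def] using mul_mem (hcm g n) hn⟩, hi⟩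
  have hL : ∀ a ∈ Φ, a ∈ hA.lay 2 := fun a ha => ⟨ha, hΦ4 a ha⟩
  have hρ := h.eh_lay hA le_rfl hw.1 (hΦ4 _ hw.1) hw'
  obtain ⟨g1, hg1, hg1'⟩ : ∃ g ∈ h1.ker, g ∉ Φ := by
    by_contra hn
    push Not at hn
    exact hab (hA.comm _ (hn a ha) _ (hn b hb))
  obtain ⟨π2, m2, hm2, h2, -, h2'⟩ := h.coord (X := ⊤) (fun _ _ => trivial) hi (fun g _ => hs g)
    trivial hg1'
  obtain ⟨h24, -⟩ := hM π2 m2 hm2 h2
  have hk2 : Φ ≤ h2.ker := hle _ fun g => ⟨trivial, h2.sq trivial⟩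
  have h12 : EH κ h1.ker π2 m2 := EH.of_ne hm2 h1.ker_inv (fun x _ y _ => h2.add x trivial y trivial)
    (fun x _ => h2.eqv x trivial) hg1 h2'
  have dec : ∀ x, ∃ g' ∈ h1.ker, x * g'⁻¹ ∈ h2.ker := fun x => by
    obtain ⟨g', hg', e⟩ := h12.surj (π2 x)
    exact ⟨g', hg', h2.div_mem trivial trivial e.symm⟩
  have h21 : EH κ h2.ker π1 m1 := by
    obtain ⟨g, -, hg⟩ := h1.surj 1
    obtain ⟨g', hg', e⟩ := dec g
    refine EH.of_ne hm1 h2.ker_inv (fun x _ y _ => h1.add x trivial y trivial)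
      (fun x _ => h1.eqv x trivial) e ?_
    rw [h1.add _ trivial _ trivial, hg, (inv_mem hg').2, add_zero]
    exact one_ne_zero
  have hj : ∀ y, π1 y = 0 → π2 y = 0 → y ∈ Φ := fun y e1 e2 => by
    by_contra hy
    have := Fintype.ofFinite h1.ker
    have c1 := (h.restrict h1.ker_inv hg1 (fun e => hg1' (e ▸ one_mem _))).card_cases
      fun x => Subtype.ext (lv_two.1 (h14 _ x.2))
    have c2 := h12.card
    have c3 := hρ.card
    have c4 : Nat.card (Om h.cen) ≤ Nat.card hρ.ker := card_le_of_le fun t ht =>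
      ⟨hL _ (h.om_le hi hw.1 (fun e => hw' (by rw [e]; exact one_pow _)) ht),
        h.sg_of_lv (lv_one.2 ht)⟩
    have c5 : Nat.card (hA.lay 2) < Nat.card h12.ker := Set.ncard_lt_ncard
      (s := (hA.lay 2 : Set S)) (t := (h12.ker : Set S)) ⟨fun z hz => ⟨hk1 hz.1, (hk2 hz.1).2⟩,
        fun e => hy (e ⟨⟨trivial, e1⟩, e2⟩).1⟩
    rw [h.card_om] at c4
    have c6 : 1 < Fintype.card F := Fintype.one_lt_card
    generalize Fintype.card F = q at *
    have c7 : q * (q * q) < Nat.card h1.ker := c2 ▸ Nat.mul_lt_mul_of_pos_left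
      (lt_of_le_of_lt (c3 ▸ Nat.mul_le_mul_left q c4) c5) (by omega)
    rcases c1 with e | e | e <;> rw [e] at c7 <;> nlinarith
  obtain ⟨C, hC, hC'⟩ := h.desc_comm hA h21 h12 1 (fun g _ g' _ => hL _ (hcm _ _))
    (fun g hg g' _ e => h.sg_of_lv (h.lv_l hA (hj _ e hg.2) (hΦ4 _ (hj _ e hg.2)) g'))
    (fun g _ g' hg e => h.sg_of_lv (h.lv_r hA (hj _ hg.2 e) (hΦ4 _ (hj _ hg.2 e)) g))
  have hE : ∀ {X : Subgroup S} {π : S → F} {m : F}, EH κ X π m → (∀ g ∈ X, π g = 0 → g ∈ Φ) →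
      (∀ g ∈ X, Lv 2 g) → ∃ E, Bi E l m l ∧ ∀ g ∈ X, ∀ y, E (sg om 1 ⁅y, g⁆) (π g) = sg om 1 ⁅y, g⁆ :=
    fun {X π m} hX h3 h4 => by
      obtain ⟨E, hE, hE'⟩ := h.desc_comm hA hX hρ 0
        (fun g _ a ha => ⟨hcm _ _, h.lv_r hA ha.1 ha.2 g⟩)
        (fun g hg a ha e => by
          rw [commutatorElement_eq_one_iff_mul_comm.2 (hA.comm _ (h3 g hg e) _ ha.1), sg, one_pow,
            h.one])
        (fun g _ a ha e => h.sg_of_lv (h.lv_r hA ha.1 (h.lv_of_sg ha.2 e) g))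
      refine ⟨_, hE.swap, fun g hg y => ?_⟩
      have := h.sg_comm_sq hA (i := 0) (hL _ (hcm y g))
      rw [commutatorElement_eq_one_iff_mul_comm.2 (h.cen _ (lv_two.1 (h4 g hg)) y), sg, one_pow,
        h.one, hE' _ hg _ (hL _ (hcm y g))] at this
      exact eq_of_add this.symm
  obtain ⟨E1, hE1, hE1'⟩ := hE h21 (fun g hg e => hj g e hg.2) h24
  obtain ⟨E2, hE2, hE2'⟩ := hE h12 (fun g hg e => hj g hg.2 e) h14
  have h0 := caseB hC hE1 hE2 hm1 hm2 h.gen (fun x y => by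
    obtain ⟨g, hg, rfl⟩ := h21.surj x
    obtain ⟨g', hg', rfl⟩ := h12.surj y
    rw [← hC' _ hg _ hg', ← add_inv hρ.add (hL _ (hcm g g')), commutatorElement_inv, hE1' g hg])
    (fun x y => by
      obtain ⟨g, hg, rfl⟩ := h21.surj x
      obtain ⟨g', hg', rfl⟩ := h12.surj y
      rw [← hC' _ hg _ hg', hE2' g' hg'])
  obtain ⟨g', hg', hg⟩ := dec x
  apply hx
  rw [← inv_mul_cancel_right x g', ← lv_sq, mul_sq, lv_one]
  exact (Om h.cen).mul_mem ((Om h.cen).mul_mem (lv_two.1 (h24 _ hg)) (lv_one.1 (h.lv_of_sg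
    (hΦ4 _ (hcm _ _)) ((hC' _ (inv_mem hg) _ hg').trans (h0 _ _))))) (lv_two.1 (h14 _ hg'))

theorem Hyp.exp_four {S : Type u} [Group S] [Finite S] {κ : MulAut S} {om : S → F} {l : F}
    (h : Hyp κ om l) : (∀ a b : S, a * b = b * a) ∨ ∀ x : S, Lv 2 x := by
  induction' hn : Nat.card S using Nat.strong_induction_on with n ih generalizing S
  subst hn
  by_contra hn
  push Not at hn
  obtain ⟨⟨x0, y0, h0⟩, x, hx⟩ := hn
  refine h.caseNon (fun π m hm hπ => ?_) hx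
  have h1 : ∃ a ∈ hπ.ker, ∃ b ∈ hπ.ker, a * b ≠ b * a := by
    by_contra e
    push Not at e
    exact h.caseAb hm hπ e h0 hx
  refine ⟨?_, h1⟩
  obtain ⟨a, ha, b, hb, hab⟩ := h1
  have h2 : Nat.card hπ.ker < Nat.card S := by
    have := hπ.card
    rw [card_top] at this
    have h3 : 1 < Fintype.card F := Fintype.one_lt_card
    have h4 : 0 < Nat.card hπ.ker := Nat.card_pos
    nlinarith
  rcases ih _ h2 (h.restrict hπ.ker_inv ha (by rintro rfl; simp at hab)) rfl with e | e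
  · exact absurd (congrArg Subtype.val (e ⟨a, ha⟩ ⟨b, hb⟩)) hab
  · exact fun a ha => congrArg Subtype.val (e ⟨a, ha⟩)

theorem Hyp.main {S : Type*} [Group S] [Finite S] {κ : MulAut S} {om : S → F} {l : F}
    (h : Hyp κ om l) : (∀ a b : S, a * b = b * a) ∨
      ((∀ x : S, x ^ 4 = 1) ∧ Nat.card S = Fintype.card F ^ 3) ∨ TypeA F κ := by
  by_cases hc : ∀ a b : S, a * b = b * a
  · exact Or.inl hc
  have h4 := h.exp_four.resolve_left hc
  have := Fintype.ofFinite S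
  push Not at hc
  obtain ⟨a, b, hab⟩ := hc
  rcases h.card_cases fun x => lv_two.1 (h4 x) with e | e | e
  · have : Om h.cen = ⊤ := eq_top_of_card_eq _ (by rw [h.card_om, e])
    exact absurd (h.cen b (this.ge trivial : b ∈ Om h.cen) a) hab
  · exact Or.inr (Or.inr (h.typeA (fun x => lv_two.1 (h4 x)) hab e))
  · exact Or.inr (Or.inl ⟨h4, e⟩)

/-- **Higman's theorem** on Suzuki `2`-groups, for an automorphism of Mersenne prime order -/
theorem pieceC {G : Type*} [Group G] [Finite G] (S : Subgroup G) (hS : IsPGroup 2 S) (k : G) {n : ℕ}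
    (hr : (2 ^ n - 1).Prime) (hk : k ^ (2 ^ n - 1) = 1) (hN : k ∈ normalizer (S : Set G))
    (hf : ∀ s ∈ S, Commute s k → s = 1) (hc : ∀ t ∈ S, t * t = 1 → ∀ s ∈ S, Commute s t)
    (hcard : Nat.card {t : G // t ∈ S ∧ t * t = 1} = 2 ^ n)
    (F : Type*) [Field F] [Fintype F] (hF : Fintype.card F = 2 ^ n) :
    (∀ a ∈ S, ∀ b ∈ S, a * b = b * a) ∨ ((∀ x ∈ S, x ^ 4 = 1) ∧ Nat.card S = 2 ^ (3 * n)) ∨
      ∃ (θ : F ≃+* F) (μ : F) (π ψ : G → F), θ ≠ RingEquiv.refl F ∧ μ ≠ 0 ∧ μ ≠ 1 ∧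
        (∀ x ∈ S, ∀ y ∈ S, π (x * y) = π x + π y) ∧
        (∀ x ∈ S, ∀ y ∈ S, ψ (x * y) = ψ x + ψ y + θ (π x) * π y) ∧
        (∀ x ∈ S, π (k * x * k⁻¹) = μ * π x) ∧ (∀ x ∈ S, ψ (k * x * k⁻¹) = μ * θ μ * ψ x) ∧
        (∀ x ∈ S, π x = 0 → ψ x = 0 → x = 1) ∧ ∀ a b, ∃ x ∈ S, π x = a ∧ ψ x = b := by
  classical
  have : CharP F 2 := charP_of_card_eq_prime_pow hF
  let _ := ZMod.algebra F 2
  let κ : MulAut S := S.normalizerMonoidHom ⟨k, hN⟩
  have hκ : ∀ x : S, (κ x : G) = k * x * k⁻¹ := fun x => rfl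
  rw [← hF] at hr hk
  have h1 : κ ^ (Fintype.card F - 1) = 1 := by
    rw [← map_pow, show (⟨k, hN⟩ : normalizer (S : Set G)) ^ _ = 1 from Subtype.ext hk, map_one]
  have h2 : ∀ x, κ x = x → x = 1 := fun x e =>
    Subtype.ext (hf x x.2 (mul_inv_eq_iff_eq_mul.1 ((hκ x).symm.trans (congrArg Subtype.val e))).symm)
  have h3 : ∀ t : S, t * t = 1 → ∀ s : S, s * t = t * s := fun t ht s =>
    Subtype.ext (hc t t.2 (congrArg Subtype.val ht) s s.2)
  have h4 : Nat.card (Om h3) = Fintype.card F := by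
    rw [hF, ← hcard]
    exact Nat.card_congr ⟨fun t => ⟨t.1.1, t.1.2, congrArg Subtype.val t.2⟩,
      fun t => ⟨⟨t.1, t.2.1⟩, Subtype.ext t.2.2⟩, fun _ => rfl, fun _ => rfl⟩
  obtain ⟨⟨t, ht⟩, ht1⟩ := ne_bot_iff_exists_ne_one.1 (show Om h3 ≠ ⊥ from fun e => by
    rw [e, card_bot] at h4
    exact Fintype.one_lt_card.ne h4)
  obtain ⟨om, l, hl, h5, -, -⟩ := exists_coord hr h1 h2 (X := Om h3) (Y := ⊥) (om_inv h3)
    (fun x hx => by rw [mem_bot.1 hx, map_one]; exact one_mem _) (fun x hx => hx) ht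
    fun e => ht1 (Subtype.ext e)
  have h6 : h5.ker = ⊥ := by
    have := h5.card
    rw [h4, eq_comm, mul_eq_left₀ Fintype.card_ne_zero] at this
    exact card_eq_one.1 this
  have h : Hyp κ om l := ⟨hr, hS, h1, h2, h3, fun t u ht hu => h5.add t ht u hu,
    fun t ht e => mem_bot.1 (h6.le ⟨ht, e⟩), h5.surj, h5.eqv, hl⟩
  rcases h.main with e | ⟨e, e'⟩ | ⟨θ, μ, π, ψ, a1, a2, a3, a4, a5, a6, a7, a8, a9⟩
  · exact Or.inl fun a ha b hb => congrArg Subtype.val (e ⟨a, ha⟩ ⟨b, hb⟩)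
  · exact Or.inr (Or.inl ⟨fun x hx => congrArg Subtype.val (e ⟨x, hx⟩),
      by rw [e', hF, ← pow_mul, mul_comm]⟩)
  · have hm : ∀ x ∈ S, k * x * k⁻¹ ∈ S := fun x hx => (κ ⟨x, hx⟩).2
    refine Or.inr (Or.inr ⟨θ, μ, fun x => if hx : x ∈ S then π ⟨x, hx⟩ else 0,
      fun x => if hx : x ∈ S then ψ ⟨x, hx⟩ else 0, a1, a2, a3, fun x hx y hy => ?_,
      fun x hx y hy => ?_, fun x hx => ?_, fun x hx => ?_, fun x hx => ?_, fun a b => ?_⟩)
    · simp only [dif_pos hx, dif_pos hy, dif_pos (mul_mem hx hy)]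
      exact a4 ⟨x, hx⟩ ⟨y, hy⟩
    · simp only [dif_pos hx, dif_pos hy, dif_pos (mul_mem hx hy)]
      exact a5 ⟨x, hx⟩ ⟨y, hy⟩
    · simp only [dif_pos hx, dif_pos (hm x hx)]
      exact a6 ⟨x, hx⟩
    · simp only [dif_pos hx, dif_pos (hm x hx)]
      exact a7 ⟨x, hx⟩
    · simp only [dif_pos hx]
      exact fun e e' => congrArg Subtype.val (a8 ⟨x, hx⟩ e e')
    · obtain ⟨x, e⟩ := a9 a b
      exact ⟨x, x.2, by simpa using e⟩

end Cfsg.Agent.H8.EC
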