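import Cfsg.Agent.H8.LiftCheck
import Cfsg.Agent.H8.RootTables

set_option autoImplicit false

namespace Cfsg.Agent.H8

open Cfsg.Lie

instance slFactsE6 : SLFacts chevE6 := slFacts_of_check tablesE6 (by decide +kernel)

instance eRichE6 : ERich chevE6 :=
  eRich_of_check (T1 := 0x2e1918170015140012001012001010100a090007000504000201070005050400020400040002000101000201010000000000000000000000050201010000000000000000000000012e1918001615001312110012110012120a00080706000403000107060007040300040300030000010001040100010000000000000000000007040100010000000000000000000001301900171615141300001015151000100a0908000005040302000a0a05000403020000040302020000000200040300000000000000000000050200040300000000000000000000032e1918171600000012111012111010000a090807060500000001070605050000000a0a090809080101010000000000000000000000000000050001010100000000000000000000012f002522211d1d1d12111000000010100e0e0e07060504030201000000050000000403040302020101010201010100000000000000040302050201010100000004030202020302002e1918171615141312111012111010100000000000000403020100000000040302040304030202010101020101010000000000000000000000000000000000000000000000000001) (T2 := 0x7040603080206050b011110) tablesE6 (by decide +kernel)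

end Cfsg.Agent.H8
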