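import Cfsg.Agent.H8.LiftCheck
import Cfsg.Agent.H8.RootTables

set_option autoImplicit false

namespace Cfsg.Agent.H8

open Cfsg.Lie

instance smallFactsD4 : SmallFacts chevD4 :=
  smallFacts_of_check (TP := 0x1602160317011606) (T4 := 0x20200000202000202000202020200020200020200000202000000000000000000000000000000000000000000000000)
    (T3 := 0x90200000000000000000602000000000000000003020000000004010000000000000000070100000000000000000801090300000000000000000603000000000000000000000302040100000000000000000000080100000000000000000701000000000801070100000000040100000000000000000000000000000000000000000500000000000a000b0000000000090600000000000000000000000000000000000006030602070108010000000000000000000000000000000000000401) tablesD4 (by decide +kernel)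

instance smallFactsF4 : SmallFacts chevF4 :=
  smallFacts_of_check (TP := 0x2f012e0228082c07) (T4 := 0x20200000002020000000000000000000202000000020200000202000000020200000000000000000002020000000202000000000000000000000000000000000000000000000000000000000000000000000000000000000000000000000000000000000000000000000100010303000000000000000000000000000000000000030301000100000000000000000000000000000000000000000000010200000000000102000000000000020100000000000201000000000000000000000000)
    (T3 := 0x15010000100100000000000000000000000000000000000000000501000000000000000000000000000000000000000000000000000000000000000006000000000000000000000000000000000000000000110000001600000000001702000000000000000000000d0000000000000000000000000000000000000000001400000000000000000000000000000000000000000000000000130000000000000000000000000000000000000000000c00000000000000000000001501000000000000000000000000000000000000000000000000000000000000000000000000000000000000000000000000000000000000000000000000000000000000000000000000000000000000000000000000000000000000000000000000000000000000000000000000000000000000000000000000000000000000000000000000000000000000000000000000000000000000000000000000000000000000000000000000000000000000000000000000000000000000000000000000) tablesF4 (by decide +kernel)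

instance slFactsD4 : SLFacts chevD4 := slFacts_of_check tablesD4 (by decide +kernel)

theorem pureG2 : PureAt chevG2 6 := pureAt_of_check (a := 1) (b := 11) (by decide +kernel)

end Cfsg.Agent.H8
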