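import Cfsg.Agent.H2.NPCd
import Cfsg.Agent.H2.SolvGen

/-! Groups all of whose elements have prime power order: local structure. -/

set_option autoImplicit false

namespace Cfsg.Agent.H8.EA

open Subgroup Cfsg.Agent.H2
open scoped commutatorElement

/-- every non-identity element has prime power order -/
def EP (G : Type*) [Group G] : Prop := ∀ g : G, g ≠ 1 → IsPrimePow (orderOf g)

section Basic

variable {G : Type*} [Group G]

theorem EP.eq_of_dvd (h : EP G) {g : G} {p q : ℕ} (hp : p.Prime) (hq : q.Prime)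
    (h1 : p ∣ orderOf g) (h2 : q ∣ orderOf g) : p = q := by
  have hg : g ≠ 1 := by
    rintro rfl
    exact hp.one_lt.ne' (by simpa using h1)
  obtain ⟨r, k, hr, -, e⟩ := (isPrimePow_nat_iff _).1 (h g hg)
  rw [← e] at h1 h2
  rw [(Nat.prime_dvd_prime_iff_eq hp hr).1 (hp.dvd_of_dvd_pow h1),
    (Nat.prime_dvd_prime_iff_eq hq hr).1 (hq.dvd_of_dvd_pow h2)]

theorem EP.eq_of_commute [Finite G] (h : EP G) {x y : G} (hc : Commute x y) {p q : ℕ}
    (hp : p.Prime) (hq : q.Prime) (h1 : p ∣ orderOf x) (h2 : q ∣ orderOf y) : p = q := by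
  by_contra hne
  have e1 := orderOf_pow_orderOf_div (orderOf_pos x).ne' h1
  have e2 := orderOf_pow_orderOf_div (orderOf_pos y).ne' h2
  have e3 := (hc.pow_pow (orderOf x / p) (orderOf y / q)).orderOf_mul_eq_mul_orderOf_of_coprime
    (by rw [e1, e2]; exact (Nat.coprime_primes hp hq).2 hne)
  rw [e1, e2] at e3
  exact hne (h.eq_of_dvd hp hq (e3 ▸ Dvd.intro _ rfl) (e3 ▸ Dvd.intro_left _ rfl))

theorem EP.sub (h : EP G) (H : Subgroup G) : EP H := fun g hg => by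
  rw [← orderOf_coe]
  exact h _ fun e => hg (Subtype.ext e)

theorem EP.map [Finite G] (h : EP G) {G' : Type*} [Group G'] (f : G →* G')
    (hf : Function.Surjective f) : EP G' := fun g hg => by
  obtain ⟨x, rfl⟩ := hf g
  have hx : x ≠ 1 := by rintro rfl; exact hg (map_one f)
  obtain ⟨r, k, hr, -, e⟩ := (isPrimePow_nat_iff _).1 (h x hx)
  obtain ⟨j, -, hj⟩ := (Nat.dvd_prime_pow hr).1 (e ▸ orderOf_map_dvd f x)
  refine (isPrimePow_nat_iff _).2 ⟨r, j, hr, Nat.pos_of_ne_zero ?_, hj.symm⟩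
  rintro rfl
  exact hg (orderOf_eq_one_iff.1 hj)

theorem dvd_orderOf_of_pow {p : ℕ} (hp : p.Prime) {x : G} {k : ℕ} (h : x ^ p ^ k = 1) (hx : x ≠ 1) :
    p ∣ orderOf x := by
  have := Fact.mk hp
  by_contra hn
  exact hx (eq_one_of_pow_pow h hn)

theorem dvd_orderOf_of_mem {p : ℕ} (hp : p.Prime) {X : Subgroup G} (hX : IsPGroup p X) {x : G}
    (hx : x ∈ X) (h1 : x ≠ 1) : p ∣ orderOf x := by
  have := Fact.mk hp
  by_contra hn
  exact h1 (eq_one_of_mem_pgroup hX hx hn)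

theorem EP.pow_eq_one (h : EP G) {p : ℕ} (hp : p.Prime) {x : G} (hx : p ∣ orderOf x) :
    ∃ k, x ^ p ^ k = 1 := by
  have hg : x ≠ 1 := by
    rintro rfl
    exact hp.one_lt.ne' (by simpa using hx)
  obtain ⟨r, k, hr, -, e⟩ := (isPrimePow_nat_iff _).1 (h x hg)
  rw [← e] at hx
  exact ⟨k, by rw [(Nat.prime_dvd_prime_iff_eq hp hr).1 (hp.dvd_of_dvd_pow hx), e, pow_orderOf_eq_one]⟩

theorem exists_prime_dvd [Finite G] {x : G} (hx : x ≠ 1) : ∃ q : ℕ, q.Prime ∧ q ∣ orderOf x :=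
  Nat.exists_prime_and_dvd fun e => hx (orderOf_eq_one_iff.1 e)

/-- an element commuting with a nontrivial `p`-element is a `p`-element -/
theorem EP.pow_of_commute [Finite G] (h : EP G) {p : ℕ} (hp : p.Prime) {x y : G} (hc : Commute x y)
    (hy : p ∣ orderOf y) : ∃ k, x ^ p ^ k = 1 := by
  by_cases hx : x = 1
  · exact ⟨0, by simp [hx]⟩
  obtain ⟨q, hq, h1⟩ := exists_prime_dvd hx
  exact h.pow_eq_one hp (h.eq_of_commute hc hq hp h1 hy ▸ h1)

end Basic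

variable {p : ℕ} [hp : Fact p.Prime]

theorem exists_k {M : Type*} [Group M] [Finite M] (hs : Group.IsSolvable M) (h : EP M)
    (D : Subgroup M) [D.Normal] (hD : IsPGroup p D) (h0 : D ≠ ⊥)
    (hmax : ∀ X : Subgroup M, X.Normal → IsPGroup p X → X ≤ D) (hne : D ≠ ⊤) :
    ∃ k : M ⧸ D, k ≠ 1 ∧ ¬ p ∣ orderOf k ∧ (zpowers k).Normal := by
  have hq : EP (M ⧸ D) := h.map _ (QuotientGroup.mk'_surjective D)
  have hnt : (⊤ : Subgroup (M ⧸ D)) ≠ ⊥ := by
    intro e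
    apply hne
    rw [eq_top_iff]
    intro x _
    have : (x : M ⧸ D) ∈ (⊥ : Subgroup (M ⧸ D)) := e ▸ mem_top _
    exact (QuotientGroup.eq_one_iff x).1 (mem_bot.1 this)
  obtain ⟨A, hA0, -, hA1, hA2⟩ := exists_abelian_normal (M := (⊤ : Subgroup (M ⧸ D)))
    inferInstance hnt
  have hAn : A.Normal := ⟨fun a ha g => hA2 g trivial a ha⟩
  obtain ⟨⟨a0, ha0⟩, ha1⟩ := ne_bot_iff_exists_ne_one.1 hA0
  have ha1' : a0 ≠ 1 := fun e => ha1 (Subtype.ext e)
  obtain ⟨q, hqp, hqa⟩ := exists_prime_dvd ha1'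
  have hpq : q ≠ p := by
    rintro rfl
    have h1 : IsPGroup q A := fun x => by
      obtain ⟨k, hk⟩ := hq.pow_of_commute hqp (hA1 _ x.2 _ ha0) hqa
      exact ⟨k, Subtype.ext hk⟩
    have h2 := hmax (A.comap (QuotientGroup.mk' D)) inferInstance
      (h1.comap_of_ker_isPGroup _ (by rwa [QuotientGroup.ker_mk']))
    obtain ⟨x, rfl⟩ := QuotientGroup.mk_surjective a0
    exact ha1' ((QuotientGroup.eq_one_iff x).2 (h2 ha0))
  have := Fact.mk hqp
  have hk := orderOf_pow_orderOf_div (orderOf_pos a0).ne' hqa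
  set k := a0 ^ (orderOf a0 / q)
  have hkA : k ∈ A := A.pow_mem ha0 _
  have hk1 : k ≠ 1 := fun e => hqp.one_lt.ne' (by rw [← hk, e, orderOf_one])
  have hkq : k ^ q = 1 := hk ▸ pow_orderOf_eq_one k
  refine ⟨k, hk1, fun e => hpq ((Nat.prime_dvd_prime_iff_eq hp.out hqp).1 (hk ▸ e)).symm, ?_⟩
  -- every element of order `q` of `A` is a power of `k`
  have key : ∀ b ∈ A, b ^ q = 1 → b ∈ zpowers k := by
    intro b hb hbq
    by_contra hn
    let V := Z1 p D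
    have hVn : V.Normal := ⟨fun v hv g => ⟨(inferInstance : D.Normal).conj_mem _ hv.1 g, by
      rw [conj_pow, hv.2.1]; simp, fun y hy => by
        have := hv.2.2 (g⁻¹ * y * g) ((inferInstance : D.Normal).conj_mem' _ hy g)
        calc g * v * g⁻¹ * y = g * (v * (g⁻¹ * y * g)) * g⁻¹ := by group
          _ = _ := by rw [this]; group⟩⟩
    let _ : CommGroup V := { (inferInstance : Group V) with
      mul_comm := fun x y => Subtype.ext (x.2.2.2 _ y.2.1) }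
    let c : M →* Module.End ℤ (Additive V) := (autEnd V).comp MulAut.conjNormal
    let ρ : M ⧸ D →* Module.End ℤ (Additive V) := QuotientGroup.lift D c (fun x hx => by
      rw [MonoidHom.mem_ker]
      refine LinearMap.ext fun v => congrArg Additive.ofMul (Subtype.ext ?_)
      exact mul_inv_eq_iff_eq_mul.2 ((Additive.toMul v).2.2.2 x hx).symm)
    have hN : ∀ x : M ⧸ D, x ≠ 1 → x ^ q = 1 → ∑ j : ZMod q, ρ (x ^ j.val) = 0 := by
      intro x hx1 hxq
      have h1 := mul_norm_eq ρ x hxq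
      refine LinearMap.ext fun v => ?_
      have h2 := LinearMap.congr_fun h1 v
      rw [Module.End.mul_apply] at h2
      generalize (∑ j : ZMod q, ρ (x ^ j.val)) v = w at h2 ⊢
      obtain ⟨y, rfl⟩ := QuotientGroup.mk_surjective x
      have h3 : y * (Additive.toMul w : V) * y⁻¹ = (Additive.toMul w : V) :=
        congrArg (fun z : Additive V => ((Additive.toMul z : V) : M)) h2
      by_contra hw
      have h4 : ((Additive.toMul w : V) : M) ≠ 1 := fun e => hw (by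
        have : Additive.toMul w = 1 := Subtype.ext e
        simpa using this)
      have h5 : q ∣ orderOf y := (dvd_orderOf_of_pow hqp (k := 1) (by simpa using hxq) hx1).trans
        (orderOf_map_dvd (QuotientGroup.mk' D) y)
      exact hpq (h.eq_of_commute (mul_inv_eq_iff_eq_mul.1 h3) hqp hp.out h5
        (dvd_orderOf_of_mem hp.out hD (Additive.toMul w).2.1 h4))
    have h1 := norm_identity ρ k b (hA1 _ hkA _ hb) hkq
    rw [hN k hk1 hkq, mul_zero, add_zero, add_zero, Finset.sum_eq_zero] at h1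
    · obtain ⟨⟨v, hv⟩, hv1⟩ := ne_bot_iff_exists_ne_one.1 (Z1_ne_bot hD h0)
      have h2 := LinearMap.congr_fun h1 (Additive.ofMul (⟨v, hv⟩ : V))
      have h3 : (⟨v, hv⟩ : V) ^ q = 1 := by
        simpa using congrArg Additive.toMul h2.symm
      have h4 : v ≠ 1 := fun e => hv1 (Subtype.ext e)
      exact hpq (h.eq_of_dvd hqp hp.out
        (dvd_orderOf_of_pow hqp (k := 1) (by simpa using congrArg Subtype.val h3) h4)
        (dvd_orderOf_of_mem hp.out hD hv.1 h4))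
    · intro i _
      refine hN _ (fun e => hn ?_) ?_
      · rw [eq_inv_of_mul_eq_one_left e]
        exact inv_mem (pow_mem (mem_zpowers k) _)
      · rw [Commute.mul_pow (hA1 _ hb _ (A.pow_mem hkA _)), hbq, ← pow_mul, mul_comm, pow_mul, hkq]
        simp
  refine ⟨fun x hx g => ?_⟩
  obtain ⟨n, rfl⟩ := mem_zpowers_iff.1 hx
  rw [← conj_zpow]
  exact zpow_mem (key _ (hAn.conj_mem _ hkA g) (by rw [conj_pow, hkq]; simp)) n

theorem struct_ty {M : Type*} [Group M] [Finite M] (hs : Group.IsSolvable M) (h : EP M)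
    (hp2 : p ≠ 2) (D : Subgroup M) [hDn : D.Normal] (hD : IsPGroup p D) (h0 : D ≠ ⊥)
    (hmax : ∀ X : Subgroup M, X.Normal → IsPGroup p X → X ≤ D) :
    (∀ x y : M, (∃ n, ⁅x, y⁆ ^ p ^ n = 1) → ⁅x, y⁆ ∈ D) ∧
    (∀ x e : M, e ∉ D → (∃ n, e ^ p ^ n = 1) → ⁅x, e⁆ ∈ D → ∃ n, x ^ p ^ n = 1) ∧
    (∀ R : Subgroup M, D ≤ R → JJ p R ≤ D) := by
  by_cases hne : D = ⊤
  · subst hne
    exact ⟨fun _ _ _ => trivial, fun _ _ he => absurd trivial he, fun _ _ => le_top⟩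
  obtain ⟨k, hk1, hkp, hkn⟩ := exists_k hs h D hD h0 hmax hne
  have hq : EP (M ⧸ D) := h.map _ (QuotientGroup.mk'_surjective D)
  let π := QuotientGroup.mk' D
  have hπ : ∀ x, π x = 1 ↔ x ∈ D := fun x => QuotientGroup.eq_one_iff x
  have hc : ∀ w ∈ zpowers k, w ≠ 1 → ∀ x : M, (∃ n, x ^ p ^ n = 1) → Commute (π x) w → x ∈ D := by
    rintro w hw hw1 x ⟨n, hn⟩ hcx
    by_contra hx
    obtain ⟨q, hqp, hqw⟩ := exists_prime_dvd hw1
    have e := hq.eq_of_commute hcx hp.out hqp (dvd_orderOf_of_pow hp.out (k := n)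
      (by rw [← map_pow, hn, map_one]) (fun e => hx ((hπ x).1 e))) hqw
    exact hkp (e ▸ hqw.trans (orderOf_dvd_of_mem_zpowers hw))
  refine ⟨fun x y hxy => hc k (mem_zpowers k) hk1 _ hxy ?_, ?_, fun R hR => sSup_le fun A hA => ?_⟩
  · have h1 : ∀ a b : M ⧸ D, a * b * k * (a * b)⁻¹ = b * a * k * (b * a)⁻¹ := fun a b => by
      obtain ⟨i, hi⟩ := mem_zpowers_iff.1 (hkn.conj_mem _ (mem_zpowers k) a)
      obtain ⟨j, hj⟩ := mem_zpowers_iff.1 (hkn.conj_mem _ (mem_zpowers k) b)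
      calc a * b * k * (a * b)⁻¹ = a * (b * k * b⁻¹) * a⁻¹ := by group
        _ = (k ^ i) ^ j := by rw [← hj, ← conj_zpow, hi]
        _ = (k ^ j) ^ i := by rw [← zpow_mul, ← zpow_mul, mul_comm]
        _ = b * (a * k * a⁻¹) * b⁻¹ := by rw [← hi, ← conj_zpow, hj]
        _ = _ := by group
    have h2 := h1 (π x)⁻¹ (π y)⁻¹
    rw [map_commutatorElement, commutatorElement_def]
    calc π x * π y * (π x)⁻¹ * (π y)⁻¹ * k
        = π x * π y * ((π x)⁻¹ * (π y)⁻¹ * k * ((π x)⁻¹ * (π y)⁻¹)⁻¹) * ((π x)⁻¹ * (π y)⁻¹) := by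
          group
      _ = _ := by rw [h2]; group
  · rintro x e he ⟨n, hn⟩ hxe
    have h1 : Commute (π x) (π e) := by
      rw [← commutatorElement_eq_one_iff_commute, ← map_commutatorElement]
      exact (hπ _).2 hxe
    obtain ⟨m, hm⟩ := hq.pow_of_commute hp.out h1 (dvd_orderOf_of_pow hp.out (k := n)
      (by rw [← map_pow, hn, map_one]) (fun e => he ((hπ _).1 e)))
    rw [← map_pow, hπ] at hm
    obtain ⟨j, hj⟩ := hD ⟨_, hm⟩
    exact ⟨m + j, by rw [pow_add, pow_mul]; exact congrArg Subtype.val hj⟩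
  · intro a0 ha0
    by_contra hn
    have hW : ∀ a ∈ zpowers k, ∀ b ∈ zpowers k, a * b = b * a := by
      rintro _ ⟨i, rfl⟩ _ ⟨j, rfl⟩
      exact zpow_mul_comm k i j
    have hW' : ∀ a ∈ zpowers k, ¬ p ∣ orderOf a := fun a ha e =>
      hkp (e.trans (orderOf_dvd_of_mem_zpowers ha))
    obtain ⟨A0, hA0, w, hw, a, ha, h1, h2, h3⟩ := exists_index_le (p := p) π (zpowers k) hW hW' A
      hA.1.2.1 hA.1.2.2 ⟨k, mem_zpowers k, a0, ha0, fun e =>
        hn (hc k (mem_zpowers k) hk1 _ ⟨1, by simpa using hA.1.2.1 _ ha0⟩ e)⟩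
    have hw1 : w ≠ 1 := by rintro rfl; exact h1 (Commute.one_right _)
    have hA0D : A0 ≤ D := fun b hb =>
      hc w hw hw1 _ ⟨1, by simpa using hA.1.2.1 _ (hA0 hb)⟩ (h2 b hb)
    have hVn : normalizer (Z1 p D : Set M) = ⊤ :=
      eq_top_iff.2 ((normalizer_eq_top D).ge.trans (normalizer_le_Z1 D))
    have h4 := EM.card_le hA (V := Z1 p D) (B := A0) ⟨(Z1_le D).trans hR, (ea_Z1 D).2⟩
      ⟨hA0.trans hA.1.1, fun b hb => hA.1.2.1 b (hA0 hb),
        fun b hb c hc => hA.1.2.2 b (hA0 hb) c (hA0 hc)⟩ (fun v hv b hb => hv.2.2 b (hA0D hb))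
    have h5 : Nat.card (Z1 p D) ≤ p * Nat.card (Z1 p D ⊓ A0 : Subgroup M) := by
      have h6 : 0 < Nat.card A0 := Nat.card_pos
      refine Nat.le_of_mul_le_mul_right ?_ h6
      calc _ ≤ _ := h4
        _ ≤ p * Nat.card A0 * Nat.card (Z1 p D ⊓ A0 : Subgroup M) := Nat.mul_le_mul_right _ h3
        _ = _ := by ring
    obtain ⟨w0, rfl⟩ := QuotientGroup.mk'_surjective D w
    have hDc : D ≤ centralizer (Z1 p D : Set M) := fun d hd v hv => hv.2.2 d hd
    have hg : π (a⁻¹ * (w0 * a * w0⁻¹)) ∈ zpowers k := by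
      have := mul_mem (hkn.conj_mem' _ hw (π a)) (inv_mem hw)
      simpa [mul_assoc] using! this
    have hg' : π (w0 * a * w0⁻¹ * a⁻¹) ∈ zpowers k := by
      have := mul_mem hw (hkn.conj_mem _ (inv_mem hw) (π a))
      simpa [mul_assoc] using! this
    have h7 := quad_centralizes hp2 (Z1 p D) (Z1 p D ⊓ A0) (ea_Z1 D).2.1 (ea_Z1 D).2.2 (a := a)
      (w := w0) (hVn ▸ mem_top _) (hVn ▸ mem_top _) (hA.1.2.1 _ ha) inf_le_left
      (fun c hc => hA.1.2.2 _ ha _ (hA0 hc.2)) h5 (hW' _ hg)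
      (hDc ((hπ _).1 (by rw [map_pow, pow_orderOf_eq_one])))
      (hDc ((hπ _).1 (by
        rw [map_commutatorElement, commutatorElement_eq_one_iff_commute]
        exact hW _ hg _ hg')))
    obtain ⟨⟨v, hv⟩, hv1⟩ := ne_bot_iff_exists_ne_one.1 (Z1_ne_bot hD h0)
    obtain ⟨n, hn⟩ := h.pow_of_commute hp.out (h7 v hv).symm
      (dvd_orderOf_of_mem hp.out hD hv.1 fun e => hv1 (Subtype.ext e))
    have h8 := eq_one_of_pow_pow (k := n) (by rw [← map_pow, hn, map_one]) (hW' _ hg)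
    apply h1
    simp only [map_mul, map_inv] at h8
    calc π a * π w0 = π a * ((π a)⁻¹ * (π w0 * π a * (π w0)⁻¹)) * π w0 := by rw [h8, mul_one]
      _ = π w0 * π a := by group

/-- the largest normal `p`-subgroup of `M` -/
structure IsOp (p : ℕ) {G : Type*} [Group G] (D M : Subgroup G) : Prop where
  le : D ≤ M
  pg : IsPGroup p D
  nm : M ≤ normalizer (D : Set G)
  mx : ∀ X : Subgroup G, X ≤ M → IsPGroup p X → M ≤ normalizer (X : Set G) → X ≤ D

theorem exists_isOp {G : Type*} [Group G] [Finite G] (M : Subgroup G) : ∃ D, IsOp p D M := by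
  obtain ⟨D, hD, hmax⟩ := Set.exists_max_image
    {X : Subgroup G | X ≤ M ∧ IsPGroup p X ∧ M ≤ normalizer (X : Set G)} (fun X => Nat.card X)
    (Set.toFinite _) ⟨⊥, bot_le, IsPGroup.of_bot, by rw [normalizer_eq_top]; exact le_top⟩
  refine ⟨D, hD.1, hD.2.1, hD.2.2, fun X h1 h2 h3 => ?_⟩
  by_contra hn
  have := hmax (D ⊔ X) ⟨sup_le hD.1 h1,
    IsPGroup.to_sup_of_normal_right' hD.2.1 h2 (hD.1.trans h3),
    (le_inf hD.2.2 h3).trans (normalizer_inf_normalizer_le_normalizer_sup D X)⟩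
  exact absurd (card_lt_of_lt (left_lt_sup.2 hn)) (not_lt.2 this)

theorem IsOp.struct {G : Type*} [Group G] [Finite G] (h : EP G) (hp2 : p ≠ 2) {D M : Subgroup G}
    (hs : Group.IsSolvable M) (hD : IsOp p D M) (h0 : D ≠ ⊥) :
    (∀ x ∈ M, ∀ y ∈ M, (∃ n, ⁅x, y⁆ ^ p ^ n = 1) → ⁅x, y⁆ ∈ D) ∧
    (∀ x ∈ M, ∀ e ∈ M, e ∉ D → (∃ n, e ^ p ^ n = 1) → ⁅x, e⁆ ∈ D → ∃ n, x ^ p ^ n = 1) ∧
    (∀ R : Subgroup G, D ≤ R → R ≤ M → JJ p R ≤ D) := by
  have : (D.subgroupOf M).Normal := (normal_subgroupOf_iff_le_normalizer hD.le).2 hD.nm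
  obtain ⟨h1, h2, h3⟩ := struct_ty hs (h.sub M) hp2 (D.subgroupOf M) hD.pg.comap_subtype
    (fun e => h0 (by rw [← map_subgroupOf_eq_of_le hD.le, e, Subgroup.map_bot])) (fun X hX hXp => by
      refine map_le_iff_le_comap.1 (hD.mx _ (map_subtype_le X) (hXp.map _) ?_)
      have := le_normalizer_map (H := X) M.subtype
      rwa [normalizer_eq_top, ← MonoidHom.range_eq_map, range_subtype] at this)
  refine ⟨fun x hx y hy ⟨n, hn⟩ => h1 ⟨x, hx⟩ ⟨y, hy⟩ ⟨n, Subtype.ext hn⟩,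
    fun x hx e he he' ⟨n, hn⟩ hxe => ?_, fun R hR hRM => ?_⟩
  · obtain ⟨m, hm⟩ := h2 ⟨x, hx⟩ ⟨e, he⟩ he' ⟨n, Subtype.ext hn⟩ hxe
    exact ⟨m, congrArg Subtype.val hm⟩
  · have hi : ∀ x ∈ R.subgroupOf M, M.subtype x = 1 → x = 1 := fun x _ h => Subtype.ext h
    rw [← map_subgroupOf_eq_of_le hRM, JJ_map hi, map_le_iff_le_comap]
    exact h3 _ (comap_mono hR)

theorem le_of_focal {G : Type*} [Group G] [Finite G] [IsSimpleGroup G] (hG : ¬ IsMulCommutative G)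
    (P : Sylow p G) (E : Subgroup G) (h : ∀ x ∈ (P : Subgroup G), ∀ u, ⁅x, u⁆ ∈ (P : Subgroup G) → ⁅x, u⁆ ∈ E) :
    (P : Subgroup G) ≤ E := by
  have h1 : commutator G = ⊤ := by
    rcases (inferInstance : (commutator G).Normal).eq_bot_or_eq_top with e | e
    · refine absurd ⟨⟨fun a b => ?_⟩⟩ hG
      have : ⁅a, b⁆ ∈ commutator G := commutator_mem_commutator (mem_top a) (mem_top b)
      rw [e, mem_bot, commutatorElement_eq_one_iff_mul_comm] at this
      exact this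
    · exact e
  have h2 := commutator_inf_eq_focalSubgroup P
  rw [h1, top_inf_eq] at h2
  rw [h2, focalSubgroup_def, closure_le]
  rintro _ ⟨h3, x, hx, u, rfl⟩
  exact h x hx u h3

theorem normalizer_ne_top {G : Type*} [Group G] [IsSimpleGroup G] {X : Subgroup G} (h0 : X ≠ ⊥)
    (h1 : X ≠ ⊤) : normalizer (X : Set G) ≠ ⊤ := fun e =>
  ((normalizer_eq_top_iff.1 e).eq_bot_or_eq_top).elim h0 h1

theorem comm_mem {G : Type*} [Group G] {X : Subgroup G} {x e : G} (hx : x ∈ normalizer (X : Set G))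
    (he : e ∈ X) : ⁅x, e⁆ ∈ X :=
  mul_mem ((mem_normalizer_iff.1 hx e).1 he) (inv_mem he)

theorem mem_sylow_of_normalizer {G : Type*} [Group G] (P : Sylow p G) {x : G}
    (hx : x ∈ normalizer ((P : Subgroup G) : Set G)) (h : ∃ n, x ^ p ^ n = 1) :
    x ∈ (P : Subgroup G) := by
  have h1 : IsPGroup p (zpowers x) := by
    obtain ⟨n, hn⟩ := h
    rintro ⟨_, i, rfl⟩
    refine ⟨n, Subtype.ext ?_⟩
    show (x ^ i) ^ p ^ n = 1
    rw [← zpow_natCast, ← zpow_mul, mul_comm, zpow_mul, zpow_natCast, hn, one_zpow]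
  have h2 := P.is_maximal' (IsPGroup.to_sup_of_normal_right' h1 P.isPGroup'
    (zpowers_le.2 hx)) le_sup_right
  exact h2 ▸ mem_sup_left (mem_zpowers x)

omit hp in
theorem mem_smul_sylow {G : Type*} [Group G] (P : Sylow p G) (g x : G) :
    x ∈ ((g • P : Sylow p G) : Subgroup G) ↔ g⁻¹ * x * g ∈ (P : Subgroup G) := by
  rw [Sylow.coe_subgroup_smul, mem_pointwise_smul_iff_inv_smul_mem]
  simp

theorem max_int {G : Type*} [Group G] [Finite G] [IsSimpleGroup G] (h : EP G)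
    (hs : ∀ M : Subgroup G, M ≠ ⊤ → Group.IsSolvable M) (hp2 : p ≠ 2) (P Q : Sylow p G)
    (hne : Q ≠ P) (E : Subgroup G) (hE : E = (P : Subgroup G) ⊓ Q) (h0 : E ≠ ⊥)
    (hmax : ∀ Q' : Sylow p G, Q' ≠ P → E ≤ Q' → (P : Subgroup G) ⊓ Q' ≤ E) :
    IsOp p E (normalizer (JJ p (P : Subgroup G) : Set G)) ∧ E < P ∧
      normalizer ((P : Subgroup G) : Set G) ≤ P ∧
      ∀ x ∈ (P : Subgroup G), ∀ y ∈ (P : Subgroup G), ⁅x, y⁆ ∈ E := by
  have hEP : E ≤ P := hE ▸ inf_le_left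
  have hEQ : E ≤ Q := hE ▸ inf_le_right
  have hEp : IsPGroup p E := P.isPGroup'.to_le hEP
  have hP : E < P := lt_of_le_of_ne hEP fun e =>
    hne (Sylow.ext (P.is_maximal' Q.isPGroup' (e ▸ hEQ)))
  have hQ : E < Q := lt_of_le_of_ne hEQ fun e =>
    hne (Sylow.ext (Q.is_maximal' P.isPGroup' (e ▸ hEP)).symm)
  have hm : ∀ Y : Subgroup G, IsPGroup p Y → E < (P : Subgroup G) ⊓ Y → Y ≤ P := fun Y hY hlt => by
    obtain ⟨Q', hQ'⟩ := hY.exists_le_sylow
    by_cases e : Q' = P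
    · exact e ▸ hQ'
    · exact absurd ((inf_le_inf_left _ hQ').trans
        (hmax Q' e (hlt.le.trans (inf_le_right.trans hQ')))) (not_le_of_gt hlt)
  set M := normalizer (E : Set G) with hM
  have hT : E < (P : Subgroup G) ⊓ M := lt_inf_normalizer P.isPGroup' hP
  have hT' : E < (Q : Subgroup G) ⊓ M := lt_inf_normalizer Q.isPGroup' hQ
  obtain ⟨m, hmM, hmP⟩ : ∃ m ∈ M, m ∉ normalizer ((P : Subgroup G) : Set G) := by
    by_contra hn
    push Not at hn
    refine not_le_of_gt hT' fun x hx => hE ▸ ⟨mem_sylow_of_normalizer P (hn x hx.2) ?_, hx.1⟩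
    obtain ⟨n, hn⟩ := Q.isPGroup' ⟨x, hx.1⟩
    exact ⟨n, congrArg Subtype.val hn⟩
  have hO : IsOp p E M := ⟨le_normalizer, hEp, le_rfl, fun X hX hXp hXn => by
    have h1 : X ≤ P := le_sup_right.trans (hm (((P : Subgroup G) ⊓ M) ⊔ X)
      (IsPGroup.to_sup_of_normal_right' (P.isPGroup'.to_le inf_le_left) hXp
        (inf_le_right.trans hXn)) (hT.trans_le (le_inf inf_le_left le_sup_left)))
    have h2 : ∀ Y : Subgroup G, Y ≤ P → m ∈ normalizer (Y : Set G) →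
        Y ≤ (m • P : Sylow p G) := fun Y hY hmY y hy => by
      refine (mem_smul_sylow P m y).2 (hY ?_)
      have := (mem_normalizer_iff.1 (inv_mem hmY) y).1 hy
      simpa using this
    exact (le_inf h1 (h2 X h1 (hXn hmM))).trans
      (hmax _ (fun e => hmP (Sylow.smul_eq_iff_mem_normalizer.1 e)) (h2 E hEP hmM))⟩
  have hEt : E ≠ ⊤ := hP.ne_top
  obtain ⟨hF, hd, ha⟩ := hO.struct h hp2 (hs _ (normalizer_ne_top h0 hEt)) h0
  have hJ := ha _ hT.le inf_le_right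
  have hJ0 : JJ p ((P : Subgroup G) ⊓ M) ≠ ⊥ :=
    JJ_ne_bot (P.isPGroup'.to_le inf_le_left) (ne_bot_of_gt hT)
  have hMM : M ≤ normalizer (JJ p ((P : Subgroup G) ⊓ M) : Set G) := by
    rw [← JJ_eq_of_le hJ hT.le]
    exact normalizer_le_JJ E
  set M' := normalizer (JJ p ((P : Subgroup G) ⊓ M) : Set G) with hM'
  obtain ⟨D, hD⟩ := exists_isOp (p := p) M'
  have hD0 : D ≠ ⊥ := fun e => hJ0 (eq_bot_iff.2 (e ▸ hD.mx _ le_normalizer (hEp.to_le hJ) le_rfl))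
  obtain ⟨hF', hd', -⟩ := hD.struct h hp2
    (hs _ (normalizer_ne_top hJ0 (ne_top_of_le_ne_top hEt hJ))) hD0
  have hDE : D ≤ E := by
    by_contra hn
    have h1 : IsPGroup p (E ⊔ D : Subgroup G) := IsPGroup.to_sup_of_normal_right' hEp hD.pg
      (hO.le.trans (hMM.trans hD.nm))
    refine not_le_of_gt (lt_inf_normalizer h1 (left_lt_sup.2 hn))
      (hO.mx _ inf_le_right (h1.to_le inf_le_left) ?_)
    refine le_trans (le_inf ((le_inf le_rfl (hMM.trans hD.nm)).trans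
      (normalizer_inf_normalizer_le_normalizer_sup E D)) le_normalizer) ?_
    exact inf_normalizer_le_normalizer_inf
  have hED : E ≤ D := by
    intro e he
    by_contra hn
    obtain ⟨n, hn'⟩ := hEp ⟨e, he⟩
    have h1 : IsPGroup p M := fun x => by
      obtain ⟨j, hj⟩ := hEp ⟨_, comm_mem x.2 he⟩
      obtain ⟨i, hi⟩ := hd' x (hMM x.2) e (hMM (hO.le he)) hn ⟨n, congrArg Subtype.val hn'⟩
        (hF' _ (hMM x.2) _ (hMM (hO.le he)) ⟨j, congrArg Subtype.val hj⟩)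
      exact ⟨i, Subtype.ext hi⟩
    exact hmP (le_normalizer (hm M h1 hT hmM))
  have hM'M : M' ≤ M := by rw [hM, le_antisymm hED hDE]; exact hD.nm
  have hPM : (P : Subgroup G) ≤ M := by
    by_contra hn
    refine not_le_of_gt (lt_inf_normalizer P.isPGroup' (inf_lt_left.2 hn)) (inf_le_inf_left _ ?_)
    exact (normalizer_le_JJ _).trans hM'M
  have hMJ : normalizer (JJ p (P : Subgroup G) : Set G) = M := by
    rw [le_antisymm hMM hM'M, hM', inf_eq_left.2 hPM]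
  have hc : ∀ x ∈ M, ∀ y ∈ M, ⁅x, y⁆ ∈ (P : Subgroup G) → ⁅x, y⁆ ∈ E := fun x hx y hy hxy => by
    obtain ⟨j, hj⟩ := P.isPGroup' ⟨_, hxy⟩
    exact hF _ hx _ hy ⟨j, congrArg Subtype.val hj⟩
  refine ⟨hMJ ▸ hO, hP, fun x hx => ?_, fun x hx y hy =>
    hc _ (hPM hx) _ (hPM hy) (comm_mem (le_normalizer hx) hy)⟩
  obtain ⟨e, he, he'⟩ := SetLike.exists_of_lt hP
  have hxM : x ∈ M := hMJ ▸ normalizer_le_JJ _ hx
  obtain ⟨n, hn⟩ := P.isPGroup' ⟨e, he⟩
  exact mem_sylow_of_normalizer P hx (hd x hxM e (hPM he) he' ⟨n, congrArg Subtype.val hn⟩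
    (hc _ hxM _ (hPM he) (comm_mem hx he)))

theorem sylow_ti {G : Type*} [Group G] [Finite G] [IsSimpleGroup G] (hG : ¬ IsMulCommutative G)
    (h : EP G) (hs : ∀ M : Subgroup G, M ≠ ⊤ → Group.IsSolvable M) (hp2 : p ≠ 2) (P Q : Sylow p G)
    (hne : Q ≠ P) : (P : Subgroup G) ⊓ Q = ⊥ := by
  by_contra h0
  have key : ∀ R : Sylow p G, R ≠ P → (P : Subgroup G) ⊓ R ≠ ⊥ → ∃ E, (P : Subgroup G) ⊓ R ≤ E ∧
      IsOp p E (normalizer (JJ p (P : Subgroup G) : Set G)) ∧ E < P ∧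
      normalizer ((P : Subgroup G) : Set G) ≤ P ∧
      ∀ x ∈ (P : Subgroup G), ∀ y ∈ (P : Subgroup G), ⁅x, y⁆ ∈ E := fun R hR hR0 => by
    obtain ⟨R', hR', hmax⟩ := Set.exists_max_image
      {R' : Sylow p G | R' ≠ P ∧ (P : Subgroup G) ⊓ R ≤ R'}
      (fun R' => Nat.card ((P : Subgroup G) ⊓ R' : Subgroup G)) (Set.toFinite _)
      ⟨R, hR, inf_le_right⟩
    have h1 : (P : Subgroup G) ⊓ R ≤ (P : Subgroup G) ⊓ R' := le_inf inf_le_left hR'.2
    refine ⟨_, h1, max_int h hs hp2 P R' hR'.1 _ rfl (ne_bot_of_le_ne_bot hR0 h1)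
      fun Q' hQ' hle => ?_⟩
    by_contra hn
    exact absurd (card_lt_of_lt (lt_of_le_not_ge (le_inf inf_le_left hle) hn))
      (not_lt.2 (hmax Q' ⟨hQ', h1.trans hle⟩))
  obtain ⟨E, -, hO, hlt, hN, hc⟩ := key Q hne h0
  have hle : ∀ R : Sylow p G, R ≠ P → (P : Subgroup G) ⊓ R ≤ E := fun R hR => by
    by_cases hR0 : (P : Subgroup G) ⊓ R = ⊥
    · exact hR0 ▸ bot_le
    obtain ⟨E', h1, hO', -⟩ := key R hR hR0
    exact h1.trans (hO.mx _ hO'.le hO'.pg hO'.nm)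
  refine not_le_of_gt hlt (le_of_focal hG P E fun x hx u hu => ?_)
  by_cases huP : u ∈ (P : Subgroup G)
  · exact hc x hx u huP
  have h1 : u * x⁻¹ * u⁻¹ ∈ (P : Subgroup G) := by
    have := mul_mem (inv_mem hx) hu
    simpa [commutatorElement_def, mul_assoc] using this
  have h2 : x ∈ E := hle (u⁻¹ • P) (fun e => huP (inv_mem_iff.1
      (hN (Sylow.smul_eq_iff_mem_normalizer.1 e)))) ⟨hx, (mem_smul_sylow P _ _).2 (by
    simpa [mul_assoc] using inv_mem h1)⟩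
  have h3 : u * x⁻¹ * u⁻¹ ∈ E := hle (u • P)
      (fun e => huP (hN (Sylow.smul_eq_iff_mem_normalizer.1 e))) ⟨h1, (mem_smul_sylow P _ _).2 (by
    simpa [mul_assoc] using hx)⟩
  have := mul_mem h2 h3
  simpa [commutatorElement_def, mul_assoc] using this

end Cfsg.Agent.H8.EA
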