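import Cfsg.Agent.H3.NA
import Cfsg.Agent.H3.BSW4

/-! General estimates for characters. -/

set_option autoImplicit false

namespace Cfsg.Agent.H8.EA

open Cfsg Cfsg.Agent.H1 Subgroup Finset
open scoped ComplexConjugate

theorem half_int {ι : Type*} (s : Finset ι) (i : ι → ι) (f : ι → ℂ) (h1 : ∀ a ∈ s, i a ∈ s)
    (h2 : ∀ a ∈ s, i (i a) = a) (h3 : ∀ a ∈ s, i a ≠ a) (h4 : ∀ a ∈ s, f (i a) = f a)
    (h5 : ∀ a ∈ s, IsIntegral ℤ (f a)) : IsIntegral ℤ ((∑ a ∈ s, f a) / 2) := by
  let A : AddSubgroup ℂ :=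
    { carrier := {z | IsIntegral ℤ (z / 2)}
      zero_mem' := by simpa using isIntegral_zero
      add_mem' := fun {a b} ha hb => by
        show IsIntegral ℤ ((a + b) / 2)
        rw [add_div]; exact ha.add hb
      neg_mem' := fun {a} ha => by
        show IsIntegral ℤ (-a / 2)
        rw [neg_div]; exact ha.neg }
  have : ∑ a ∈ s, QuotientAddGroup.mk' A (f a) = 0 :=
    sum_involution (fun a _ => i a) (fun a ha => by
      rw [← map_add, h4 a ha]
      refine (QuotientAddGroup.eq_zero_iff _).2 ?_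
      show IsIntegral ℤ ((f a + f a) / 2)
      simpa using h5 a ha) (fun a ha _ => h3 a ha) h1 h2
  rw [← map_sum] at this
  exact (QuotientAddGroup.eq_zero_iff _).1 this

variable {G : Type*} [Group G] [Fintype G]

theorem inner_conj (a b : G → ℂ) :
    classInner (fun x => conj (a x)) (fun x => conj (b x)) = conj (classInner a b) := by
  simp [classInner]

theorem irr_conj {χ : G → ℂ} (h : IsIrrCharacter G χ) : IsIrrCharacter G (fun x => conj (χ x)) :=
  IsCharacter.isIrr (IsCharacter.conj (IsIrrCharacter.isCharacter h))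
    (by rw [inner_conj, IsIrrCharacter.classInner_self h, map_one])

/-- the conjugate character -/
def bar (χ : IrrCharacter G) : IrrCharacter G := ⟨fun x => conj (χ.1 x), irr_conj χ.2⟩

theorem bar_bar (χ : IrrCharacter G) : bar (bar χ) = χ := Subtype.ext (by ext x; simp [bar])

/-- the principal character -/
def triv (G : Type*) [Group G] : IrrCharacter G := ⟨fun _ => 1, isIrrCharacter_one⟩

theorem bar_triv : bar (triv G) = triv G := Subtype.ext (by ext x; simp [bar, triv])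

theorem bar_ne (ho : Odd (Nat.card G)) {χ : IrrCharacter G} (h : χ ≠ triv G) : bar χ ≠ χ := by
  classical
  intro e
  have hc := IsIrrCharacter.isCharacter χ.2
  have h1 := IsIrrCharacter.classInner_of_ne χ.2 (triv G).2 (fun e => h (Subtype.ext e))
  simp only [classInner, triv, map_one, mul_one, mul_eq_zero, inv_eq_zero, card_ne_zero',
    false_or] at h1
  rw [← add_sum_erase _ _ (mem_univ 1)] at h1
  have h2 := half_int (univ.erase (1 : G)) (fun g => g⁻¹) χ.1 (by simp) (by simp)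
    (fun a ha e => (mem_erase.1 ha).1 (by
      have h3 : orderOf a ∣ 2 := orderOf_dvd_of_pow_eq_one (by rw [pow_two]; nth_rw 1 [← e]; simp)
      exact orderOf_eq_one_iff.1 (Nat.eq_one_of_dvd_coprimes (Nat.coprime_two_right.2 ho)
        (orderOf_dvd_natCard a) h3)))
    (fun a _ => by rw [IsCharacter.apply_inv hc]; exact congrFun (congrArg Subtype.val e) a)
    (fun a _ => IsCharacter.isIntegral hc a)
  obtain ⟨n, -, hn⟩ := IsIrrCharacter.exists_one_eq χ.2
  rw [eq_neg_of_add_eq_zero_right h1, hn] at h2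
  have h3 := H2.dvd_of_isIntegral (a := n) (k := 2) two_ne_zero (by simpa [neg_div] using h2.neg)
  have h4 : 2 ∣ n := by exact_mod_cast h3
  exact (Nat.not_even_iff_odd.2 ho) (even_iff_two_dvd.2 (h4.trans (H3.NQ.deg_dvd χ.2 hn)))

theorem card_le_sum {ι : Type*} (s : Finset ι) (z : ι → ℝ) (h : ∀ i ∈ s, 0 < z i)
    (h1 : 1 ≤ ∏ i ∈ s, z i) : (s.card : ℝ) ≤ ∑ i ∈ s, z i := by
  have h2 := Real.log_nonneg h1
  rw [Real.log_prod (fun i hi => (h i hi).ne')] at h2
  have h3 := sum_le_sum fun i hi => Real.log_le_sub_one_of_pos (h i hi)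
  rw [sum_sub_distrib] at h3
  simp only [sum_const, nsmul_eq_mul, mul_one] at h3
  linarith

open IntermediateField Polynomial in
theorem gal [DecidableEq G] {p : ℕ} (hp : p.Prime) (hG : IsPGroup p G) {f : G → ℂ}
    (hf : IsCharacter G f) {d : ℕ} (hd : f 1 = d) (hpd : ¬ p ∣ d) :
    (Nat.card G : ℝ) - 1 ≤ ∑ x ∈ univ.erase 1, ‖f x‖ ^ 2 := by
  have := Fact.mk hp
  obtain ⟨k, hk⟩ := hG.exists_card_eq
  have hN : 0 < p ^ (k + 1) := pow_pos hp.pos _
  have : NeZero (p ^ (k + 1)) := ⟨hN.ne'⟩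
  have hζ := Complex.isPrimitiveRoot_exp _ hN.ne'
  set ζ := Complex.exp (2 * Real.pi * Complex.I / (p ^ (k + 1) : ℕ))
  let K := ℚ⟮ζ⟯
  let : NumberField K :=
    { to_charZero := ℚ⟮ζ⟯.charZero
      to_finiteDimensional := adjoin.finiteDimensional (hζ.isIntegral hN).tower_top }
  let z : K := ⟨ζ, mem_adjoin_simple_self ℚ ζ⟩
  have hz : IsPrimitiveRoot z (p ^ (k + 1)) :=
    IsPrimitiveRoot.of_map_of_injective (f := algebraMap K ℂ) hζ (algebraMap K ℂ).injective
  have hj : ∀ φ : K →ₐ[ℚ] ℂ, ∃ j, j.Coprime (p ^ (k + 1)) ∧ φ z = ζ ^ j := fun φ => by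
    obtain ⟨j, -, hj, e⟩ := (hζ.isPrimitiveRoot_iff).1 (hz.map_of_injective φ.injective)
    exact ⟨j, hj, e.symm⟩
  choose j hj1 hj2 using hj
  have key : ∀ g : G, (Fintype.card (K →ₐ[ℚ] ℂ) : ℝ) ≤ ∑ φ : K →ₐ[ℚ] ℂ, ‖f (g ^ j φ)‖ ^ 2 := by
    intro g
    obtain ⟨s, hs⟩ := IsCharacter.exists_multiset_hom hf g
    let g0 : zpowers g := ⟨g, mem_zpowers g⟩
    have ha : ∀ l : zpowers g →* ℂ, ∃ a : ℕ, ζ ^ a = l g0 := fun l => by
      obtain ⟨a, -, e⟩ := hζ.eq_pow_of_pow_eq_one (ξ := l g0) (by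
        rw [← map_pow, show g0 ^ p ^ (k + 1) = 1 from Subtype.ext (by
          show g ^ p ^ (k + 1) = 1
          rw [pow_succ, pow_mul, ← hk, pow_card_eq_one', one_pow]), map_one])
      exact ⟨a, e⟩
    choose a ha using ha
    let P : ℤ[X] := (s.map fun l => X ^ a l).sum
    let y : K := aeval z P
    have h1 : ∀ φ : K →ₐ[ℚ] ℂ, φ y = f (g ^ j φ) := fun φ => by
      rw [show f (g ^ j φ) = _ from hs (g0 ^ j φ)]
      simp only [y, P, map_multiset_sum, Multiset.map_map, Function.comp_def,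
        map_pow, aeval_X, hj2, ← ha, ← pow_mul, mul_comm (j φ)]
    have h2 : y ≠ 0 := fun e => by
      have h3 := minpoly.isIntegrallyClosed_dvd (hz.isIntegral hN) e
      rw [← cyclotomic_eq_minpoly hz hN] at h3
      have h4 := eval_dvd (x := 1) h3
      rw [eval_one_cyclotomic_prime_pow] at h4
      have h5 : (eval 1 P : ℤ) = s.card := by
        rw [← coe_evalRingHom, map_multiset_sum]
        simp [Multiset.map_map]
      have h6 : (d : ℂ) = s.card := by
        rw [← hd, show f 1 = _ from hs 1]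
        simp
      rw [h5] at h4
      exact hpd (by rw [show d = s.card by exact_mod_cast h6]; exact_mod_cast h4)
    have h3 : IsIntegral ℤ y := by
      have : y ∈ integralClosure ℤ K := by
        refine Algebra.adjoin_le (s := {z}) ?_ (aeval_mem_adjoin_singleton ℤ z)
        rintro _ rfl
        exact hz.isIntegral hN
      exact this
    obtain ⟨N, hN⟩ := IsIntegrallyClosed.isIntegral_iff.1 (Algebra.isIntegral_norm ℚ h3)
    have h4 : N ≠ 0 := by
      rintro rfl
      exact h2 (Algebra.norm_eq_zero_iff.1 (by rw [← hN, map_zero]))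
    have h5 := Algebra.norm_eq_prod_embeddings ℚ ℂ y
    rw [← hN] at h5
    refine card_le_sum univ _ (fun φ _ => ?_) ?_
    · rw [← h1]
      exact pow_pos (norm_pos_iff.2 ((map_ne_zero φ).2 h2)) 2
    · simp only [← h1]
      rw [prod_pow, ← norm_prod, ← h5]
      have : (1 : ℝ) ≤ |(N : ℝ)| := by exact_mod_cast Int.one_le_abs h4
      simpa using one_le_pow₀ (n := 2) this
  have h1 : ∀ φ, ∑ x ∈ univ.erase 1, ‖f (x ^ j φ)‖ ^ 2 = ∑ x ∈ univ.erase 1, ‖f x‖ ^ 2 := fun φ => by
    have hc : (Nat.card G).Coprime (j φ) := by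
      rw [hk]
      exact Nat.Coprime.coprime_dvd_left (pow_dvd_pow p k.le_succ) (hj1 φ).symm
    refine sum_equiv (powCoprime hc) (fun x => ?_) (fun x _ => rfl)
    simp only [mem_erase, mem_univ, and_true, ne_eq]
    rw [← powCoprime_one hc, Equiv.apply_eq_iff_eq, powCoprime_one]
  have h2 := sum_le_sum (s := univ.erase (1 : G)) fun g _ => key g
  rw [sum_comm] at h2
  simp only [h1, sum_const, card_univ, nsmul_eq_mul, card_erase_of_mem (mem_univ _)] at h2
  rw [Nat.cast_sub Fintype.card_pos, mul_comm, ← Nat.card_eq_fintype_card (α := G)] at h2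
  have : Nonempty (K →ₐ[ℚ] ℂ) := ⟨K.val⟩
  have h3 : (0 : ℝ) < Fintype.card (K →ₐ[ℚ] ℂ) := by exact_mod_cast Fintype.card_pos
  simpa using le_of_mul_le_mul_left h2 h3

theorem var_le {ι : Type*} [Fintype ι] [DecidableEq ι] (m : ι → ℝ) (t c : ℝ) (A : Finset ι)
    (h : ∀ i ∈ A, ∀ j ∉ A, c ≤ (m i - m j) ^ 2) :
    c * A.card * (Fintype.card ι - A.card) ≤ Fintype.card ι * ∑ i, (m i - t) ^ 2 := by
  have h1 : ∑ i, ∑ j, (m i - m j) ^ 2 =
      2 * (Fintype.card ι * ∑ i, (m i - t) ^ 2) - 2 * (∑ i, (m i - t)) ^ 2 := by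
    have : ∀ i j, (m i - m j) ^ 2 = (m i - t) ^ 2 + (m j - t) ^ 2 - 2 * ((m i - t) * (m j - t)) :=
      fun i j => by ring
    simp only [this, sum_sub_distrib (f := fun _ => _ + _), sum_add_distrib, sum_const, card_univ,
      nsmul_eq_mul, ← mul_sum, ← sum_mul]
    ring
  have h2 : ∑ i ∈ A, ∑ j ∈ Aᶜ, c ≤ ∑ i ∈ A, ∑ j, (m i - m j) ^ 2 := sum_le_sum fun i hi =>
    (sum_le_sum fun j hj => h i hi j (mem_compl.1 hj)).trans
      (sum_le_sum_of_subset_of_nonneg (subset_univ _) fun _ _ _ => sq_nonneg _)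
  have h3 : ∑ i ∈ Aᶜ, ∑ j ∈ A, c ≤ ∑ i ∈ Aᶜ, ∑ j, (m i - m j) ^ 2 := sum_le_sum fun i hi =>
    (sum_le_sum fun j hj => (h j hj i (mem_compl.1 hi)).trans_eq (by ring)).trans
      (sum_le_sum_of_subset_of_nonneg (subset_univ _) fun _ _ _ => sq_nonneg _)
  rw [← sum_add_sum_compl A] at h1
  simp only [sum_const, nsmul_eq_mul, card_compl, Nat.cast_sub (card_le_univ A)] at h2 h3
  nlinarith [sq_nonneg (∑ i, (m i - t))]

theorem bessel [DecidableEq G] {f : G → ℂ} (hf : IsClassFunction G f) {ι : Type*} [Fintype ι]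
    (ch : ι → IrrCharacter G) (hi : Function.Injective ch) (h1 : ∀ i, (ch i).1 1 = 1) :
    Nat.card G * ∑ i, ‖classInner f (ch i).1 - f 1 / Nat.card G‖ ^ 2 ≤
      ∑ x ∈ univ.erase 1, ‖f x‖ ^ 2 := by
  classical
  let F := f - (f 1 / Nat.card G) • regChar G
  have hF : IsClassFunction G F := IsClassFunction.sub hf
    (IsClassFunction.smul (IsCharacter.isClassFunction isCharacter_regChar) _)
  have h2 := IsClassFunction.classInner_eq_sum hF F
  have h3 : ∀ θ : G → ℂ, classInner F θ * classInner θ F = (‖classInner F θ‖ ^ 2 : ℝ) := fun θ => by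
    rw [← classInner_conj F θ, Complex.mul_conj, Complex.normSq_eq_norm_sq]
  have h4 : ∑ x, F x * conj (F x) = (∑ x ∈ univ.erase 1, ‖f x‖ ^ 2 : ℝ) := by
    rw [← add_sum_erase _ _ (mem_univ 1)]
    have : F 1 = 0 := by simp [F, regChar, card_ne_zero']
    rw [this, zero_mul, zero_add, Complex.ofReal_sum]
    refine sum_congr rfl fun x hx => ?_
    have : F x = f x := by simp [F, regChar, (mem_erase.1 hx).1]
    rw [this, Complex.mul_conj, Complex.normSq_eq_norm_sq]
  simp only [h3] at h2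
  rw [classInner, h4, inv_mul_eq_iff_eq_mul₀ card_ne_zero'] at h2
  have h5 : ∑ x ∈ univ.erase 1, ‖f x‖ ^ 2 =
      Nat.card G * ∑ θ : IrrCharacter G, ‖classInner F θ‖ ^ 2 := by exact_mod_cast h2
  rw [h5]
  refine mul_le_mul_of_nonneg_left ?_ (Nat.cast_nonneg _)
  refine le_trans (le_of_eq ?_) (sum_le_sum_of_subset_of_nonneg (subset_univ (univ.image ch))
    fun _ _ _ => sq_nonneg _)
  rw [sum_image fun a _ b _ e => hi e]
  refine sum_congr rfl fun i _ => ?_
  rw [classInner_sub_left, classInner_smul_left, ← classInner_conj (ch i).1 (regChar G),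
    classInner_regChar, h1, map_one, mul_one]

end Cfsg.Agent.H8.EA
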