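import Cfsg.Agent.H8.EA1
import Cfsg.Agent.H8.EA2
import Cfsg.Agent.H2.Frob

/-! Linear characters of a trivial intersection Sylow subgroup and the induced differences. -/

set_option autoImplicit false

namespace Cfsg.Agent.H8.EA

open Cfsg Cfsg.Agent.H1 Subgroup Finset MulAction
open scoped ComplexConjugate

/-- linear characters -/
abbrev Lam (H : Type*) [Group H] := H →* ℂˣ

section Lin

variable {H : Type*} [Group H]

/-- a linear character as an irreducible character -/
def ch (l : Lam H) : IrrCharacter H :=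
  ⟨fun x => (l x : ℂ), isIrrCharacter_hom ((Units.coeHom ℂ).comp l)⟩

theorem ch_inj : Function.Injective (ch : Lam H → IrrCharacter H) := fun _ _ e =>
  MonoidHom.ext fun x => Units.ext (congrFun (congrArg Subtype.val e) x)

instance finLam [Finite H] : Finite (Lam H) := Finite.of_injective _ ch_inj

noncomputable instance fintypeLam [Finite H] : Fintype (Lam H) := Fintype.ofFinite _

theorem ch_one (l : Lam H) : (ch l).1 1 = 1 := by simp [ch]

theorem exists_ch {θ : IrrCharacter H} (h : θ.1 1 = 1) : ∃ l, ch l = θ := by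
  obtain ⟨l, e⟩ := IsCharacter.exists_hom_of_one_eq_one (IsIrrCharacter.isCharacter θ.2) h
  exact ⟨l.toHomUnits, Subtype.ext (by rw [e]; rfl)⟩

theorem ch_inv [Finite H] (l : Lam H) (x : H) : (ch l⁻¹).1 x = conj ((ch l).1 x) := by
  have := hom_inv_eq_conj ((Units.coeHom ℂ).comp l) x
  simpa [ch] using this

theorem lam_pow [Finite H] (l : Lam H) : l ^ Nat.card H = 1 := by
  ext x
  rw [MonoidHom.pow_apply, ← map_pow, pow_card_eq_one', map_one, MonoidHom.one_apply]

theorem lam_pgroup [Finite H] {p : ℕ} [Fact p.Prime] (h : IsPGroup p H) : IsPGroup p (Lam H) := by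
  obtain ⟨k, hk⟩ := h.exists_card_eq
  exact fun l => ⟨k, hk ▸ lam_pow l⟩

theorem exists_lam [Finite H] [Nontrivial H] {p : ℕ} [Fact p.Prime] (h : IsPGroup p H) :
    ∃ l : Lam H, l ≠ 1 := by
  have := h.isNilpotent
  obtain ⟨x, -, hx⟩ := SetLike.exists_of_lt (Group.IsSolvable.commutator_lt_top_of_nontrivial H)
  have h1 : Abelianization.of x ≠ 1 := fun e => hx (by
    rw [← Abelianization.ker_of]; exact e)
  have : NeZero (Monoid.exponent (Abelianization H) : ℂ) :=
    ⟨by exact_mod_cast Monoid.exponent_ne_zero_of_finite⟩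
  obtain ⟨φ, hφ⟩ := CommGroup.exists_apply_ne_one_of_hasEnoughRootsOfUnity (Abelianization H) ℂ h1
  exact ⟨φ.comp Abelianization.of, fun e => hφ (DFunLike.congr_fun e x)⟩

theorem deg_mod [Fintype H] {p : ℕ} (hp : p.Prime) (h : IsPGroup p H) {f : H → ℂ}
    (hf : IsCharacter H f) : ∃ N : ℕ, f 1 = ∑ l : Lam H, classInner f (ch l).1 + p * N := by
  classical
  have := Fact.mk hp
  obtain ⟨m, m1, m2, -⟩ := IsCharacter.exists_coords hf
  have h1 : ∀ θ ∈ (univ.image ch : Finset (IrrCharacter H))ᶜ, ∃ n : ℕ, θ.1 1 = p * n := by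
    intro θ hθ
    obtain ⟨n, -, hn⟩ := IsIrrCharacter.exists_one_eq θ.2
    obtain ⟨k, hk⟩ := h.exists_card_eq
    obtain ⟨j, -, hj⟩ := (Nat.dvd_prime_pow hp).1 (hk ▸ H3.NQ.deg_dvd θ.2 hn)
    rcases j with _ | j
    · obtain ⟨l, rfl⟩ := exists_ch (θ := θ) (by rw [hn, hj]; simp)
      simp at hθ
    · exact ⟨p ^ j, by rw [hn, hj, pow_succ']; simp⟩
  choose! n hn using h1
  refine ⟨∑ θ ∈ (univ.image ch : Finset (IrrCharacter H))ᶜ, m θ * n θ, ?_⟩
  have h2 := congrFun m2 1
  rw [Finset.sum_apply, ← sum_add_sum_compl (univ.image ch), sum_image fun a _ b _ e => ch_inj e] at h2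
  rw [h2, Nat.cast_sum, mul_sum]
  congr 1
  · exact sum_congr rfl fun l _ => by simp [m1, ch_one]
  · exact sum_congr rfl fun θ hθ => by
      rw [Pi.smul_apply, hn θ hθ, smul_eq_mul]; push_cast; ring

end Lin

variable {G : Type*} [Group G]

/-- the action of the normalizer on linear characters -/
instance actLam (H : Subgroup G) : MulAction (normalizer (H : Set G)) (Lam H) where
  smul g l := l.comp (H.normalizerMonoidHom g⁻¹).toMonoidHom
  one_smul l := by ext x; show (l (H.normalizerMonoidHom 1⁻¹ x) : ℂ) = _; simp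
  mul_smul a b l := by
    ext x
    show (l (H.normalizerMonoidHom (a * b)⁻¹ x) : ℂ) =
      l (H.normalizerMonoidHom b⁻¹ (H.normalizerMonoidHom a⁻¹ x))
    rw [mul_inv_rev, map_mul, MulAut.mul_apply]

theorem smul_lam {H : Subgroup G} (g : normalizer (H : Set G)) (l : Lam H) (x : H) :
    (g • l) x = l (H.normalizerMonoidHom g⁻¹ x) := rfl

theorem coe_nmh {H : Subgroup G} (g : normalizer (H : Set G)) (x : H) :
    (H.normalizerMonoidHom g x : G) = (g : G) * x * (g : G)⁻¹ := rfl

theorem smul_one_lam {H : Subgroup G} (g : normalizer (H : Set G)) : g • (1 : Lam H) = 1 := rfl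

theorem smul_inv_lam {H : Subgroup G} (g : normalizer (H : Set G)) (l : Lam H) :
    g • l⁻¹ = (g • l)⁻¹ := rfl

/-- the automizer order -/
noncomputable def ee (H : Subgroup G) : ℕ := H.relIndex (normalizer (H : Set G))

theorem card_mul_ee (H : Subgroup G) : Nat.card H * ee H = Nat.card (normalizer (H : Set G)) := by
  rw [ee, relIndex, ← card_mul_index (H.subgroupOf (normalizer (H : Set G))),
    Nat.card_congr (subgroupOfEquivOfLe le_normalizer).toEquiv]

/-- a trivial intersection Sylow subgroup whose normalizer is a Frobenius group -/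
structure TI (p : ℕ) (H : Subgroup G) : Prop where
  pr : p.Prime
  pg : IsPGroup p H
  ne : H ≠ ⊥
  ti : ∀ g, ∀ x ∈ H, x ≠ 1 → g⁻¹ * x * g ∈ H → g ∈ normalizer (H : Set G)
  fpf : ∀ g ∈ normalizer (H : Set G), g ∉ H → ∀ x ∈ H, g * x = x * g → x = 1
  odd : Odd (Nat.card G)
  cj : ∀ g, p ∣ orderOf g → ∃ y, y⁻¹ * g * y ∈ H

/-- conjugacy of linear characters under the normalizer -/
def Cj {H : Subgroup G} (l m : Lam H) : Prop := l ∈ orbit (normalizer (H : Set G)) m

theorem Cj.refl {H : Subgroup G} (l : Lam H) : Cj l l := mem_orbit_self l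

theorem Cj.symm {H : Subgroup G} {l m : Lam H} (h : Cj l m) : Cj m l := (orbitRel _ _).symm h

theorem Cj.trans {H : Subgroup G} {l m n : Lam H} (h : Cj l m) (h' : Cj m n) : Cj l n :=
  (orbitRel _ _).trans h h'

theorem Cj.inv {H : Subgroup G} {l m : Lam H} (h : Cj l m) : Cj l⁻¹ m⁻¹ := by
  obtain ⟨g, rfl⟩ := h
  exact ⟨g, smul_inv_lam g m⟩

theorem Cj.ne_one {H : Subgroup G} {l m : Lam H} (h : Cj l m) (hm : m ≠ 1) : l ≠ 1 := by
  rintro rfl
  obtain ⟨g, e⟩ := h.symm
  exact hm (e.symm.trans (smul_one_lam g))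

variable [Fintype G] {p : ℕ} {H : Subgroup G}

/-- induced difference of two linear characters -/
noncomputable def D (l m : Lam H) : G → ℂ := indFun H ((ch l).1 - (ch m).1)

open Classical in
/-- Mackey inner product of induced linear characters -/
noncomputable def J (l m : Lam H) : ℂ :=
  (Nat.card H : ℂ)⁻¹ * ∑ g : normalizer (H : Set G), if l = g • m then 1 else 0

theorem D_gen (l m : Lam H) : IsGeneralizedCharacter G (D l m) :=
  IsGeneralizedCharacter.indFun H ⟨_, _, IsIrrCharacter.isCharacter (ch l).2,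
    IsIrrCharacter.isCharacter (ch m).2, rfl⟩

theorem D_one (l m : Lam H) : D l m 1 = 0 := by
  rw [D, indFun_one]; simp [ch_one]

theorem D_conj (l m : Lam H) : (fun x => conj (D l m x)) = D l⁻¹ m⁻¹ := by
  ext x
  simp only [D, indFun, map_mul, map_inv₀, map_natCast, map_sum]
  congr 1
  refine sum_congr rfl fun y _ => ?_
  by_cases hy : y⁻¹ * x * y ∈ H
  · simp only [extendByZero_of_mem H _ hy, Pi.sub_apply, ch_inv, map_sub]
  · simp only [extendByZero_of_not_mem H _ hy, map_zero]

open Classical in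
theorem inner_D_char (l m : Lam H) {f : G → ℂ} (hf : IsClassFunction G f) :
    classInner f (D l m) =
      classInner (fun x : H => f x) (ch l).1 - classInner (fun x : H => f x) (ch m).1 := by
  rw [D, classInner_indFun_right H _ hf, classInner_sub_right]

namespace TI

theorem supp (h : TI p H) {ψ : H → ℂ} (h1 : ψ 1 = 0) {g : G} (hg : ¬ p ∣ orderOf g) :
    indFun H ψ g = 0 := by
  have := Fact.mk h.pr
  refine H2.frob_indFun_ker H h1 fun y hy => ?_
  have := H2.eq_one_of_mem_pgroup h.pg hy (by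
    rwa [show y⁻¹ * g * y = y⁻¹ * g * y⁻¹⁻¹ by simp, H2.orderOf_conj'])
  simpa [mul_assoc, inv_mul_eq_one] using this

open Classical in
theorem res (h : TI p H) {ψ : H → ℂ} (h1 : ψ 1 = 0) (x : H) :
    indFun H ψ x = (Nat.card H : ℂ)⁻¹ *
      ∑ g : normalizer (H : Set G), ψ (H.normalizerMonoidHom g⁻¹ x) := by
  by_cases hx : x = 1
  · subst hx
    rw [Subgroup.coe_one, indFun_one]
    simp [h1]
  rw [indFun, ← sum_filter_add_sum_filter_not univ (· ∈ normalizer (H : Set G)),
    sum_eq_zero (s := filter (fun g => ¬ _) _), add_zero,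
    sum_subtype _ (p := (· ∈ normalizer (H : Set G))) (by simp)]
  · congr 1
    refine sum_congr rfl fun g _ => ?_
    rw [← extendByZero_coe H ψ, coe_nmh]
    simp
  · intro g hg
    exact extendByZero_of_not_mem H ψ fun e =>
      (mem_filter.1 hg).2 (h.ti g x x.2 (fun e => hx (Subtype.ext e)) e)

theorem stab (h : TI p H) {l : Lam H} (hl : l ≠ 1) :
    stabilizer (normalizer (H : Set G)) l = H.subgroupOf _ := by
  ext g
  rw [mem_stabilizer_iff, mem_subgroupOf]
  refine ⟨fun e => ?_, fun hg => ?_⟩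
  · by_contra hg
    have hf : MonoidHom.FixedPointFree (H.normalizerMonoidHom g⁻¹) := fun x hx => by
      have h1 := congrArg Subtype.val hx
      rw [coe_nmh, mul_inv_eq_iff_eq_mul] at h1
      exact Subtype.ext (h.fpf _ (g⁻¹).2 (by simpa using hg) x x.2 h1)
    apply hl
    ext x
    obtain ⟨y, rfl⟩ := hf.commutatorMap_surjective x
    rw [MonoidHom.commutatorMap_apply, map_div, ← smul_lam, e, div_self', MonoidHom.one_apply]
  · ext x
    rw [smul_lam, show H.normalizerMonoidHom g⁻¹ x = (⟨g, hg⟩ : H)⁻¹ * x * ⟨g, hg⟩ from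
      Subtype.ext (by rw [coe_nmh]; simp), map_mul, map_mul, map_inv, inv_mul_cancel_comm]

theorem card_orbit (h : TI p H) {l : Lam H} (hl : l ≠ 1) :
    (orbit (normalizer (H : Set G)) l).ncard = ee H := by
  rw [← index_stabilizer, h.stab hl, ee, relIndex]

theorem not_cj_inv (h : TI p H) {l : Lam H} (hl : l ≠ 1) : ¬ Cj l⁻¹ l := by
  rintro ⟨g, e⟩
  simp only at e
  have h1 : g ^ 2 ∈ stabilizer (normalizer (H : Set G)) l := by
    rw [mem_stabilizer_iff, pow_two, mul_smul, e, smul_inv_lam, e]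
    exact inv_inv l
  have h2 : (Nat.card G).Coprime 2 := Nat.coprime_two_right.2 h.odd
  obtain ⟨n, hn⟩ := exists_pow_eq_self_of_coprime (x := g) (n := 2)
    (Nat.Coprime.coprime_dvd_left ((orderOf_dvd_natCard g).trans (card_subgroup_dvd_card _)) h2).symm
  have h3 : g • l = l := by have := pow_mem h1 n; rwa [hn] at this
  have h4 : l ^ 2 = 1 := by rw [pow_two]; nth_rw 1 [← h3, e]; exact inv_mul_cancel l
  exact hl (orderOf_eq_one_iff.1 (Nat.eq_one_of_dvd_coprimes h2
    ((orderOf_dvd_of_pow_eq_one (lam_pow l)).trans (card_subgroup_dvd_card _))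
    (orderOf_dvd_of_pow_eq_one h4)))

theorem J_cj (h : TI p H) {l m : Lam H} (hm : m ≠ 1) (hc : Cj l m) : J l m = 1 := by
  classical
  obtain ⟨g0, rfl⟩ := hc
  rw [J, ← Equiv.sum_comp (Equiv.mulLeft g0)]
  have : ∀ g : normalizer (H : Set G), (g0 • m = (Equiv.mulLeft g0 g) • m) ↔ g ∈ H.subgroupOf _ := by
    intro g
    rw [← h.stab hm, mem_stabilizer_iff, Equiv.coe_mulLeft, mul_smul, smul_left_cancel_iff, eq_comm]
  simp only [this, sum_boole]
  rw [← Fintype.card_subtype, ← Nat.card_eq_fintype_card,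
    Nat.card_congr (subgroupOfEquivOfLe le_normalizer).toEquiv, inv_mul_cancel₀ card_ne_zero']

omit [Fintype G] in
theorem J_ncj [Fintype G] {l m : Lam H} (hc : ¬ Cj l m) : J l m = 0 := by
  rw [J, sum_eq_zero, mul_zero]
  exact fun g _ => if_neg fun e => hc ⟨g, e.symm⟩

omit [Fintype G] in
theorem J_one [Fintype G] : J (1 : Lam H) 1 = ee H := by
  simp only [J, smul_one_lam, if_true, sum_const, card_univ, nsmul_eq_mul, mul_one,
    ← Nat.card_eq_fintype_card, ← card_mul_ee, Nat.cast_mul]
  rw [inv_mul_cancel_left₀ card_ne_zero']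

theorem inner_D (h : TI p H) (l m l' m' : Lam H) :
    classInner (D l m) (D l' m') = J l l' - J l m' - J m l' + J m m' := by
  classical
  have h1 : (fun x : H => D l' m' x) = (Nat.card H : ℂ)⁻¹ •
      ∑ g : normalizer (H : Set G), ((ch (g • l')).1 - (ch (g • m')).1) := by
    ext x
    rw [D, h.res (by simp [ch_one]), Pi.smul_apply, Finset.sum_apply, smul_eq_mul]
    rfl
  rw [D, classInner_indFun H _ (IsGeneralizedCharacter.isClassFunction (D_gen l' m')), h1,
    classInner_smul_right, classInner_sum_right]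
  simp only [classInner_sub_left, classInner_sub_right,
    IsIrrCharacter.classInner_eq (ch _).2 (ch _).2, Subtype.val_inj, ch_inj.eq_iff, J,
    sum_sub_distrib, map_inv₀, map_natCast]
  ring

end TI

end Cfsg.Agent.H8.EA
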