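import Cfsg.Agent.H8.EA3

/-! Exceptional characters attached to the linear characters of a TI Sylow subgroup. -/

set_option autoImplicit false

namespace Cfsg.Agent.H8.EA

open Cfsg Cfsg.Agent.H1 Subgroup Finset MulAction
open scoped ComplexConjugate

variable {G : Type*} [Group G] [Fintype G] {p q : ℕ} {H K : Subgroup G}

theorem lam_inv_ne {A : Type*} [Group A] {l : Lam A} (h : l ≠ 1) : l⁻¹ ≠ 1 :=
  fun e => h ((inv_eq_one (α := Lam A)).1 e)

theorem D_sub (l m n : Lam H) : D l n - D m n = D l m := by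
  ext x
  simp only [D, indFun, Pi.sub_apply, ← mul_sub, ← sum_sub_distrib]
  congr 1
  refine sum_congr rfl fun y _ => ?_
  by_cases hy : y⁻¹ * x * y ∈ H
  · simp only [extendByZero_of_mem H _ hy, Pi.sub_apply]; ring
  · simp only [extendByZero_of_not_mem H _ hy, sub_zero]

theorem D_swap (l m : Lam H) : D m l = -D l m := by
  rw [← D_sub m l l, ← D_sub l m l]; ring

theorem D_cf (l m : Lam H) : IsClassFunction G (D l m) :=
  IsGeneralizedCharacter.isClassFunction (D_gen l m)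

theorem irr_gen (χ : IrrCharacter G) : IsGeneralizedCharacter G χ.1 :=
  IsCharacter.isGeneralized (IsIrrCharacter.isCharacter χ.2)

open Classical in
theorem inner_irr (χ ψ : IrrCharacter G) : classInner χ.1 ψ.1 = if χ = ψ then 1 else 0 := by
  rw [IsIrrCharacter.classInner_eq χ.2 ψ.2]; simp only [Subtype.val_inj]

theorem eq_or_eq {σ τ χ : IrrCharacter G} (h : classInner (σ.1 - τ.1) χ.1 ≠ 0) : χ = σ ∨ χ = τ := by
  by_contra hn
  push Not at hn
  rw [classInner_sub_left, inner_irr, inner_irr, if_neg hn.1.symm, if_neg hn.2.symm] at h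
  exact h (sub_self _)

open Classical in
/-- the exceptional characters -/
noncomputable def X (H : Subgroup G) : Finset (IrrCharacter G) :=
  univ.filter fun χ => ∃ l : Lam H, l ≠ 1 ∧ ∃ m : Lam H, m ≠ 1 ∧ classInner (D l m) χ.1 ≠ 0

theorem mem_X {χ : IrrCharacter G} :
    χ ∈ X H ↔ ∃ l : Lam H, l ≠ 1 ∧ ∃ m : Lam H, m ≠ 1 ∧ classInner (D l m) χ.1 ≠ 0 := by
  simp [X]

theorem inner_bar (l m : Lam H) (χ : IrrCharacter G) :
    classInner (D l⁻¹ m⁻¹) (bar χ).1 = conj (classInner (D l m) χ.1) := by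
  rw [← D_conj, ← inner_conj]; rfl

theorem bar_mem_X {χ : IrrCharacter G} (h : χ ∈ X H) : bar χ ∈ X H := by
  obtain ⟨l, hl, m, hm, e⟩ := mem_X.1 h
  exact mem_X.2 ⟨l⁻¹, lam_inv_ne hl, m⁻¹, lam_inv_ne hm, by rw [inner_bar]; simpa using e⟩

open Classical in
/-- multiplicity of a linear character in the restriction -/
noncomputable def mu (f : G → ℂ) (l : Lam H) : ℂ := classInner (fun x : H => f x) (ch l).1

theorem inner_D_irr (l m : Lam H) (χ : IrrCharacter G) :
    classInner (D l m) χ.1 = mu χ.1 l - mu χ.1 m := by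
  rw [IsGeneralizedCharacter.classInner_comm (D_gen l m) (irr_gen χ),
    inner_D_char l m (IsGeneralizedCharacter.isClassFunction (irr_gen χ))]
  rfl

open Classical in
theorem mu_triv (l : Lam H) : mu (triv G).1 l = if l = 1 then 1 else 0 := by
  have := inner_irr (ch (1 : Lam H)) (ch l)
  simp only [ch_inj.eq_iff, eq_comm (a := (1 : Lam H))] at this
  exact this

theorem triv_not_mem_X : triv G ∉ X H := fun h => by
  obtain ⟨l, hl, m, hm, e⟩ := mem_X.1 h
  rw [inner_D_irr, mu_triv, mu_triv, if_neg hl, if_neg hm] at e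
  exact e (sub_self _)

namespace TI

theorem D_eq_zero (h : TI p H) {l m : Lam H} (hm : m ≠ 1) (hc : Cj l m) : D l m = 0 := by
  have hl := hc.ne_one hm
  refine classInner_self_eq_zero ?_
  rw [h.inner_D, h.J_cj hl (.refl _), h.J_cj hm hc, h.J_cj hl hc.symm, h.J_cj hm (.refl _)]
  norm_num

theorem norm_two (h : TI p H) {l m : Lam H} (hl : l ≠ 1) (hm : m ≠ 1) (hc : ¬ Cj l m) :
    ∃ σ τ : IrrCharacter G, σ ≠ τ ∧ D l m = σ.1 - τ.1 := by
  refine H3.BSW.exists_sub_of_norm_two (D_gen l m) ?_ (D_one l m)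
  rw [h.inner_D, h.J_cj hl (.refl _), J_ncj hc, J_ncj fun e => hc e.symm, h.J_cj hm (.refl _)]
  norm_num

theorem J_cases (h : TI p H) (l : Lam H) {m : Lam H} (hm : m ≠ 1) : J l m = 0 ∨ J l m = 1 := by
  by_cases hc : Cj l m
  · exact Or.inr (h.J_cj hm hc)
  · exact Or.inl (J_ncj hc)

theorem const (h : TI p H) {Γ : G → ℂ}
    (hΓ : ∀ l : Lam H, l ≠ 1 → ∀ m : Lam H, m ≠ 1 → classInner Γ (D l m) = 0)
    {χ ψ : IrrCharacter G} (hχ : χ ∈ X H) (hψ : ψ ∈ X H) : classInner Γ χ.1 = classInner Γ ψ.1 := by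
  let P : Lam H → Lam H → ℂ → Prop := fun l m v =>
    ∀ χ : IrrCharacter G, classInner (D l m) χ.1 ≠ 0 → classInner Γ χ.1 = v
  have h1 : ∀ l m, l ≠ 1 → m ≠ 1 → ¬ Cj l m → ∀ χ : IrrCharacter G,
      classInner (D l m) χ.1 ≠ 0 → P l m (classInner Γ χ.1) := fun l m hl hm hc χ e ψ e' => by
    obtain ⟨σ, τ, -, hD⟩ := h.norm_two hl hm hc
    have := hΓ l hl m hm
    rw [hD] at e e' this
    rw [classInner_sub_right, sub_eq_zero] at this
    rcases eq_or_eq e with rfl | rfl <;> rcases eq_or_eq e' with rfl | rfl <;> simp [this]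
  have h2 : ∀ l m n v, l ≠ 1 → m ≠ 1 → n ≠ 1 → ¬ Cj l m → ¬ Cj l n → P l m v → P l n v :=
    fun l m n v hl hm hn hc hc' hP => by
      obtain ⟨χ, hχ, e, e'⟩ := exists_common_constituent (D_cf l m) (b := D l n) (by
        rw [h.inner_D, h.J_cj hl (.refl _), J_ncj hc', J_ncj fun e => hc e.symm]
        rcases h.J_cases m hn with e | e <;> rw [e] <;> norm_num)
      exact hP ⟨χ, hχ⟩ e ▸ h1 l n hl hn hc' ⟨χ, hχ⟩ e'
  have h3 : ∀ l m v, P l m v → P m l v := fun l m v hP χ e =>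
    hP χ (by rwa [D_swap, classInner_neg_left, neg_ne_zero] at e)
  have h4 : ∀ l m, m ≠ 1 → ∀ χ : IrrCharacter G, classInner (D l m) χ.1 ≠ 0 → ¬ Cj l m :=
    fun l m hm χ e hc => e (by rw [h.D_eq_zero hm hc, classInner_zero_left])
  obtain ⟨l, hl, m, hm, e⟩ := mem_X.1 hχ
  obtain ⟨l', hl', m', hm', e'⟩ := mem_X.1 hψ
  have hc := h4 l m hm χ e
  have hc' := h4 l' m' hm' ψ e'
  have hP := h1 l m hl hm hc χ e
  by_cases hll : Cj l l'
  · have h5 : D l' m = D l m := by
      rw [← sub_eq_zero, D_sub, h.D_eq_zero hl hll.symm]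
    have h6 : P l' m (classInner Γ χ.1) := fun ψ e => hP ψ (h5 ▸ e)
    exact (h2 l' m m' _ hl' hm hm' (fun e => hc (hll.trans e)) hc' h6 ψ e').symm
  · exact (h2 l' l m' _ hl' hl hm' (fun e => hll e.symm) hc'
      (h3 _ _ _ (h2 l m l' _ hl hm hl' hc hll hP)) ψ e').symm

theorem not_cj_inv' (h : TI p H) {l : Lam H} (hl : l ≠ 1) : ¬ Cj l l⁻¹ :=
  fun e => h.not_cj_inv hl e.symm

open Classical in
theorem card_filter_cj (h : TI p H) {l : Lam H} (hl : l ≠ 1) :
    (univ.filter fun m => Cj m l).card = ee H := by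
  rw [← h.card_orbit hl, ← Set.ncard_coe_finset]
  congr 1
  ext m
  simp only [coe_filter, mem_univ, true_and]
  rfl

theorem card_X (h : TI p H) : Fintype.card (Lam H) ≤ ee H * (X H).card + 1 := by
  classical
  have h1 : ∀ l : Lam H, l ≠ 1 → ∃ σ τ : IrrCharacter G, σ ≠ τ ∧ D l l⁻¹ = σ.1 - τ.1 :=
    fun l hl => h.norm_two hl (lam_inv_ne hl) (h.not_cj_inv' hl)
  have : Nonempty (IrrCharacter G) := ⟨triv G⟩
  choose! σ τ hne hD using h1
  have h2 := card_le_mul_card_image_of_maps_to (s := univ.erase (1 : Lam H)) (t := X H) (f := σ)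
    (fun l hl => mem_X.2 ⟨l, (mem_erase.1 hl).1, l⁻¹, lam_inv_ne (mem_erase.1 hl).1, by
      rw [hD l (mem_erase.1 hl).1, classInner_sub_left, inner_irr, inner_irr, if_pos rfl,
        if_neg (hne l (mem_erase.1 hl).1).symm]
      norm_num⟩) (ee H) (fun b _ => by
      rcases (filter (fun l => σ l = b) (univ.erase (1 : Lam H))).eq_empty_or_nonempty with e | ⟨m, hm⟩
      · rw [e]; exact Nat.zero_le _
      have hm1 := (mem_erase.1 (mem_filter.1 hm).1).1
      rw [← h.card_filter_cj hm1]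
      refine card_le_card fun l hl => mem_filter.2 ⟨mem_univ _, ?_⟩
      have hl1 := (mem_erase.1 (mem_filter.1 hl).1).1
      have e : σ l = σ m := (mem_filter.1 hl).2.trans (mem_filter.1 hm).2.symm
      by_contra hc
      have h3 := h.inner_D l l⁻¹ m m⁻¹
      rw [hD l hl1, hD m hm1, J_ncj hc, J_ncj (l := l⁻¹) (m := m⁻¹)
        (fun e => hc (by simpa using! e.inv))] at h3
      simp only [classInner_sub_left, classInner_sub_right, inner_irr, e, if_true,
        if_neg (hne m hm1), if_neg (e ▸ hne l hl1).symm] at h3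
      rcases h.J_cases l (lam_inv_ne hm1) with e1 | e1 <;>
        rcases h.J_cases l⁻¹ hm1 with e2 | e2 <;> rw [e1, e2] at h3 <;> split_ifs at h3 <;>
        norm_num at h3)
  rw [card_erase_of_mem (mem_univ _), card_univ] at h2
  omega

theorem exists_ne_one (h : TI p H) : ∃ l : Lam H, l ≠ 1 := by
  have := Fact.mk h.pr
  have := (nontrivial_iff_ne_bot H).2 h.ne
  exact exists_lam h.pg

theorem two_ee (h : TI p H) : 2 * ee H + 1 ≤ Fintype.card (Lam H) := by
  classical
  obtain ⟨l, hl⟩ := h.exists_ne_one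
  have h1 := card_le_univ (insert 1 ((univ.filter fun m => Cj m l) ∪ univ.filter fun m => Cj m l⁻¹))
  rw [card_insert_of_notMem, card_union_of_disjoint, h.card_filter_cj hl,
    h.card_filter_cj (lam_inv_ne hl)] at h1
  · omega
  · exact disjoint_filter.2 fun m _ e e' => h.not_cj_inv hl (e'.symm.trans e)
  · simp only [mem_union, mem_filter, mem_univ, true_and, not_or]
    exact ⟨fun e => e.ne_one hl rfl, fun e => e.ne_one (lam_inv_ne hl) rfl⟩

theorem orth (h : TI p H) (h' : TI q K) (hE : EP G) (hpq : p ≠ q) (l m : Lam H) (l' m' : Lam K) :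
    classInner (D l m) (D l' m') = 0 := by
  rw [classInner, sum_eq_zero, mul_zero]
  intro g _
  by_cases hg : p ∣ orderOf g
  · rw [show D l' m' g = 0 from h'.supp (by simp [ch_one])
      (fun e => hpq (hE.eq_of_dvd h.pr h'.pr hg e)), map_zero, mul_zero]
  · rw [D, h.supp (by simp [ch_one]) hg, zero_mul]

theorem disj (h : TI p H) (h' : TI q K) (hE : EP G) (hpq : p ≠ q) : Disjoint (X H) (X K) := by
  refine disjoint_left.2 fun χ h1 h2 => ?_
  obtain ⟨l, hl, m, hm, e⟩ := mem_X.1 h1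
  obtain ⟨l', hl', m', hm', e'⟩ := mem_X.1 h2
  obtain ⟨σ, τ, hne, hD⟩ := h.norm_two hl hm
    fun hc => e (by rw [h.D_eq_zero hm hc, classInner_zero_left])
  obtain ⟨σ', τ', hne', hD'⟩ := h'.norm_two hl' hm'
    fun hc => e' (by rw [h'.D_eq_zero hm' hc, classInner_zero_left])
  have h3 := h.orth h' hE hpq l m l' m'
  rw [hD] at e h3
  rw [hD'] at e' h3
  simp only [classInner_sub_left, classInner_sub_right, inner_irr] at h3
  rcases eq_or_eq e with rfl | rfl <;> rcases eq_or_eq e' with rfl | rfl <;>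
    simp only [if_true, if_neg hne, if_neg hne', if_neg hne.symm, if_neg hne'.symm] at h3 <;>
    split_ifs at h3 <;> norm_num at h3

theorem beta_bar (l : Lam H) (hl : l ≠ 1) {χ : IrrCharacter G} (hχ : χ ∉ X H) :
    classInner (D 1 l) (bar χ).1 = classInner (D 1 l) χ.1 := by
  have h1 := inner_bar (1 : Lam H) l⁻¹ χ
  rw [show (1 : Lam H)⁻¹ = 1 from inv_one (G := Lam H), show l⁻¹⁻¹ = l from inv_inv l] at h1
  obtain ⟨n, hn⟩ := IsGeneralizedCharacter.classInner_int (D_gen 1 l⁻¹) (irr_gen χ)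
  rw [h1, hn, map_intCast, ← hn, ← sub_eq_zero, ← classInner_sub_left, D_swap l⁻¹, D_swap l,
    neg_sub_neg, D_sub]
  by_contra e
  exact hχ (mem_X.2 ⟨l, hl, l⁻¹, lam_inv_ne hl, e⟩)

theorem beta_triv (l : Lam H) (hl : l ≠ 1) : classInner (D 1 l) (triv G).1 = 1 := by
  rw [inner_D_irr, mu_triv, mu_triv, if_pos rfl, if_neg hl, sub_zero]

theorem parity (h : TI p H) (h' : TI q K) (hE : EP G) (hpq : p ≠ q) {l : Lam H} (hl : l ≠ 1)
    {m : Lam K} (hm : m ≠ 1) (h1 : ∀ χ ∈ X K, classInner (D 1 l) χ.1 = 0)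
    (h2 : ∀ χ ∈ X H, classInner (D 1 m) χ.1 = 0) : False := by
  classical
  have h3 := h.orth h' hE hpq 1 l 1 m
  rw [IsClassFunction.classInner_eq_sum (D_cf 1 l), ← add_sum_erase _ _ (mem_univ (triv G))] at h3
  simp only [← IsGeneralizedCharacter.classInner_comm (D_gen 1 m) (irr_gen _)] at h3
  rw [beta_triv l hl, beta_triv m hm] at h3
  have h4 := half_int (univ.erase (triv G)) bar
    (fun χ => classInner (D 1 l) χ.1 * classInner (D 1 m) χ.1)
    (fun χ hχ => mem_erase.2 ⟨fun e => (mem_erase.1 hχ).1 (by rw [← bar_bar χ, e, bar_triv]),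
      mem_univ _⟩) (fun χ _ => bar_bar χ) (fun χ hχ => bar_ne h.odd (mem_erase.1 hχ).1)
    (fun χ _ => by
      by_cases e : χ ∈ X H
      · simp only [h2 _ e, h2 _ (bar_mem_X e), mul_zero]
      by_cases e' : χ ∈ X K
      · simp only [h1 _ e', h1 _ (bar_mem_X e'), zero_mul]
      simp only [beta_bar l hl e, beta_bar m hm e'])
    (fun χ _ => by
      obtain ⟨a, ha⟩ := IsGeneralizedCharacter.classInner_int (D_gen 1 l) (irr_gen χ)
      obtain ⟨b, hb⟩ := IsGeneralizedCharacter.classInner_int (D_gen 1 m) (irr_gen χ)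
      rw [ha, hb, ← Int.cast_mul]
      exact isIntegral_algebraMap (x := a * b))
  rw [eq_neg_of_add_eq_zero_right h3] at h4
  have := H2.dvd_of_isIntegral (a := 1) (k := 2) two_ne_zero (by simpa [neg_div] using h4.neg)
  norm_num at this

theorem beta_count (h : TI p H) {l : Lam H} (hl : l ≠ 1) (T : Finset (IrrCharacter G))
    (h1 : triv G ∉ T) (h2 : Disjoint (X H) T) (h3 : ∀ χ ∈ T, classInner (D 1 l) χ.1 ≠ 0) :
    T.card + 1 ≤ ee H := by
  classical
  obtain ⟨m, m1, -, m3⟩ := IsGeneralizedCharacter.exists_coords (D_gen 1 l)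
  rw [h.inner_D, J_one, J_ncj fun e => e.ne_one hl rfl, J_ncj fun e => e.symm.ne_one hl rfl,
    h.J_cj hl (.refl _)] at m3
  have m4 : ∑ χ, m χ ^ 2 = ee H + 1 := by
    rw [sub_zero, sub_zero] at m3; exact_mod_cast m3.symm
  obtain ⟨ψ, hψ, e, e'⟩ := exists_common_constituent (D_cf 1 l) (b := D l l⁻¹) (by
    rw [h.inner_D, J_ncj fun e => e.ne_one hl rfl, J_ncj fun e => e.ne_one (lam_inv_ne hl) rfl,
      h.J_cj hl (.refl _), J_ncj (h.not_cj_inv' hl)]
    norm_num)
  have hX : (⟨ψ, hψ⟩ : IrrCharacter G) ∈ X H := mem_X.2 ⟨l, hl, l⁻¹, lam_inv_ne hl, e'⟩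
  have h4 : ∀ χ ∈ insert (triv G) (insert ⟨ψ, hψ⟩ T), 1 ≤ m χ ^ 2 := fun χ hχ => by
    have : m χ ≠ 0 := fun e0 => by
      have := m1 χ
      rw [e0, Int.cast_zero] at this
      simp only [mem_insert] at hχ
      rcases hχ with rfl | rfl | hχ
      · rw [beta_triv l hl] at this; exact one_ne_zero this
      · exact e this
      · exact h3 χ hχ this
    exact (one_le_sq_iff_one_le_abs _).2 (Int.one_le_abs this)
  have h5 := (card_nsmul_le_sum _ _ _ h4).trans
    (sum_le_sum_of_subset_of_nonneg (subset_univ _) fun _ _ _ => sq_nonneg _)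
  rw [m4, card_insert_of_notMem, card_insert_of_notMem (disjoint_left.1 h2 hX)] at h5
  · simp only [nsmul_eq_mul, mul_one] at h5
    omega
  · simp only [mem_insert, not_or]
    exact ⟨fun e => triv_not_mem_X (e ▸ hX), h1⟩

end TI

end Cfsg.Agent.H8.EA
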