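import Mathlib

/-! Additive and biadditive maps on a finite field of characteristic two. -/

set_option autoImplicit false

namespace Cfsg.Agent.H8.EC

open Finset

variable {F : Type*} [Field F] [Fintype F] [Algebra (ZMod 2) F]

/-- automorphisms of the field -/
abbrev Au (F : Type*) [Field F] [Algebra (ZMod 2) F] := F ≃ₐ[ZMod 2] F

omit [Fintype F] in
theorem char2 : CharP F 2 := charP_of_injective_algebraMap (algebraMap (ZMod 2) F).injective 2

omit [Fintype F] in
theorem two0 : (2 : F) = 0 := by have := char2 (F := F); exact CharTwo.two_eq_zero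

omit [Fintype F] in
theorem aa (x : F) : x + x = 0 := by rw [← two_mul, two0, zero_mul]

omit [Fintype F] in
theorem eq_of_add {x y : F} (h : x + y = 0) : x = y := by linear_combination h - aa y

omit [Fintype F] [Algebra (ZMod 2) F] in
theorem match2 {ι : Type*} [Fintype ι] (a : ι → F) (α γ : ι → F →* F) (α0 γ0 : F →* F) {a0 : F}
    (h0 : a0 ≠ 0) (h : ∀ x y, a0 * (α0 x * γ0 y) = ∑ i, a i * (α i x * γ i y)) :
    ∃ i, a i ≠ 0 ∧ (∀ x, α i x = α0 x) ∧ ∀ y, γ i y = γ0 y := by
  by_contra hn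
  let m : (F →* F) → (F →* F) → (F × F →* F) := fun α γ =>
    α.comp (MonoidHom.fst F F) * γ.comp (MonoidHom.snd F F)
  refine (linearIndependent_monoidHom (F × F) F).notMem_span_image (s := {m α0 γ0}ᶜ)
    (x := m α0 γ0) (by simp) ?_
  have : (m α0 γ0 : F × F → F) = a0⁻¹ • ∑ i, a i • (m (α i) (γ i) : F × F → F) := by
    ext z
    simp only [Pi.smul_apply, Finset.sum_apply, smul_eq_mul]
    rw [eq_inv_mul_iff_mul_eq₀ h0]
    exact h z.1 z.2
  rw [this]
  refine Submodule.smul_mem _ _ (Submodule.sum_mem _ fun i _ => ?_)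
  by_cases hi : a i = 0
  · rw [hi, zero_smul]; exact zero_mem _
  refine Submodule.smul_mem _ _ (Submodule.subset_span ⟨_, fun e => hn ⟨i, hi, fun x => ?_,
    fun y => ?_⟩, rfl⟩)
  · simpa [m] using DFunLike.congr_fun e (x, 1)
  · simpa [m] using DFunLike.congr_fun e (1, y)

theorem add_uniq (c : Au F → F) (h : ∀ x, ∑ s, c s * s x = 0) (s : Au F) : c s = 0 := by
  have h1 := (linearIndependent_monoidHom F F).comp (fun s : Au F => (s : F →* F))
    (fun s t e => AlgEquiv.ext fun x => DFunLike.congr_fun e x)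
  exact Fintype.linearIndependent_iff.1 h1 c (by ext x; simpa using h x) s

theorem add_exp (f : F → F) (hf : ∀ x y, f (x + y) = f x + f y) :
    ∃ c : Au F → F, ∀ x, f x = ∑ s, c s * s x := by
  have h1 := (linearIndependent_toLinearMap (ZMod 2) F F).comp (fun s : Au F => (s : F →ₐ[ZMod 2] F))
    (fun s t e => AlgEquiv.ext fun x => DFunLike.congr_fun e x)
  let b := basisOfLinearIndependentOfCardEqFinrank h1 (by
    rw [Module.finrank_linearMap_self, ← Nat.card_eq_fintype_card, IsGalois.card_aut_eq_finrank])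
  let g : F →ₗ[ZMod 2] F := (AddMonoidHom.mk' f hf).toZModLinearMap 2
  refine ⟨b.repr g, fun x => ?_⟩
  have := LinearMap.congr_fun (b.sum_repr g) x
  simpa [b] using! this.symm

/-- biadditive equivariant maps -/
structure Bi (B : F → F → F) (m1 m2 l : F) : Prop where
  addl : ∀ x y z, B (x + y) z = B x z + B y z
  addr : ∀ x y z, B x (y + z) = B x y + B x z
  eqv : ∀ x y, B (m1 * x) (m2 * y) = l * B x y

omit [Fintype F] [Algebra (ZMod 2) F] in
theorem Bi.swap {B : F → F → F} {m1 m2 l : F} (h : Bi B m1 m2 l) : Bi (fun x y => B y x) m2 m1 l :=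
  ⟨fun _ _ _ => h.addr _ _ _, fun _ _ _ => h.addl _ _ _, fun _ _ => h.eqv _ _⟩

theorem Bi.exp {B : F → F → F} {m1 m2 l : F} (h : Bi B m1 m2 l) : ∃ b : Au F → Au F → F,
    (∀ x y, B x y = ∑ s, ∑ t, b s t * (s x * t y)) ∧ ∀ s t, b s t ≠ 0 → s m1 * t m2 = l := by
  choose c hc using fun x => add_exp (B x) (h.addr x)
  have h1 : ∀ t x y, c (x + y) t = c x t + c y t := fun t x y => by
    rw [← sub_eq_zero]
    refine add_uniq (fun t => c (x + y) t - (c x t + c y t)) (fun z => ?_) t
    simp only [sub_mul, add_mul, sum_sub_distrib, sum_add_distrib, ← hc, h.addl, sub_self]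
  choose b hb using fun t => add_exp (fun x => c x t) (h1 t)
  have h2 : ∀ x y, B x y = ∑ t, (∑ s, b t s * s x) * t y := fun x y => by
    simp only [← hb, ← hc]
  refine ⟨fun s t => b t s, fun x y => ?_, fun s t hst => ?_⟩
  · rw [h2, sum_comm]
    simp only [sum_mul, mul_assoc]
  · have h3 := add_uniq (fun s => b t s * (s m1 * t m2 - l)) (fun x => by
      refine add_uniq (fun t => ∑ s, b t s * (s m1 * t m2 - l) * s x) (fun y => ?_) t
      have := h.eqv x y
      rw [h2, h2, ← sub_eq_zero, mul_sum, ← sum_sub_distrib] at this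
      rw [← this]
      refine sum_congr rfl fun t _ => ?_
      simp only [map_mul, sum_mul, mul_sum, ← sum_sub_distrib]
      exact sum_congr rfl fun s _ => by ring) s
    exact sub_eq_zero.1 ((mul_eq_zero.1 h3).resolve_left hst)

omit [Fintype F] in
theorem eq_of_mul_add {s t : Au F} (h : ∀ x y, s (x + y) * t (x + y) = s x * t x + s y * t y) :
    s = t := by
  obtain ⟨-, -, h1, -⟩ := match2 (ι := Unit) (fun _ => -1) (fun _ => (t : F →* F))
    (fun _ => (s : F →* F)) s t one_ne_zero (fun x y => by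
      have := h x y
      simp only [map_add] at this
      simp only [univ_unique, sum_singleton, MonoidHom.coe_coe]
      linear_combination this)
  exact AlgEquiv.ext fun x => (h1 x).symm

omit [Fintype F] in
theorem eq_of_mul {s t r : Au F} (h : ∀ x, s x * t x = r x) : s = t :=
  eq_of_mul_add fun x y => by rw [h, h, h, map_add]

omit [Fintype F] in
theorem pair_eq {s t s' t' : Au F} (hne : s ≠ t) (h : ∀ x, s x * t x = s' x * t' x) :
    s = s' ∨ s = t' := by
  obtain ⟨i, -, h1, -⟩ := match2 (ι := Fin 3) ![-1, 1, 1] ![(t : F →* F), s', t']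
    ![(s : F →* F), t', s'] s t one_ne_zero (fun x y => by
      have := h (x + y)
      simp only [map_add] at this
      simp only [Fin.sum_univ_three, Matrix.cons_val, MonoidHom.coe_coe]
      linear_combination this - h x - h y)
  fin_cases i
  · exact absurd (AlgEquiv.ext fun x => (h1 x).symm) hne
  · exact Or.inl (AlgEquiv.ext fun x => (h1 x).symm)
  · exact Or.inr (AlgEquiv.ext fun x => (h1 x).symm)

/-- `m` generates the multiplicative group -/
structure Gen (m : F) : Prop where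
  ne0 : m ≠ 0
  ne1 : m ≠ 1
  gen : ∀ x, x ≠ 0 → ∃ i : ℕ, x = m ^ i

omit [Algebra (ZMod 2) F] in
theorem gen_of (hr : (Fintype.card F - 1).Prime) {m : F} (h0 : m ≠ 0) (h1 : m ≠ 1) : Gen m := by
  classical
  refine ⟨h0, h1, fun x hx => ?_⟩
  have := Fact.mk hr
  have h2 := zpowers_eq_top_of_prime_card (G := Fˣ) (p := Fintype.card F - 1)
    (by rw [Nat.card_units, Nat.card_eq_fintype_card]) (g := Units.mk0 m h0)
    (fun e => h1 (congrArg Units.val e))
  have h3 : Units.mk0 x hx ∈ Subgroup.zpowers (Units.mk0 m h0) := h2 ▸ Subgroup.mem_top _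
  obtain ⟨i, hi⟩ := (mem_powers_iff_mem_zpowers.2 h3 : _ ∈ Submonoid.powers _)
  exact ⟨i, by simpa using (congrArg Units.val hi).symm⟩

omit [Fintype F] in
theorem Gen.mul_eq {m : F} (h : Gen m) {s t s' t' : Au F} (e : s m * t m = s' m * t' m) (x : F) :
    s x * t x = s' x * t' x := by
  by_cases hx : x = 0
  · simp [hx]
  obtain ⟨i, rfl⟩ := h.gen x hx
  simp only [map_pow, ← mul_pow, e]

omit [Fintype F] in
theorem Gen.mul_eq' {m : F} (h : Gen m) {s t r : Au F} (e : s m * t m = r m) : s = t :=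
  eq_of_mul (r := r) fun x => by
    by_cases hx : x = 0
    · simp [hx]
    obtain ⟨i, rfl⟩ := h.gen x hx
    simp only [map_pow, ← mul_pow, e]

omit [Fintype F] in
theorem Gen.eq {m : F} (h : Gen m) {s t : Au F} (e : s m = t m) : s = t := AlgEquiv.ext fun x => by
  by_cases hx : x = 0
  · simp [hx]
  obtain ⟨i, rfl⟩ := h.gen x hx
  simp only [map_pow, e]

omit [Fintype F] in
theorem Gen.map {m : F} (h : Gen m) (s : Au F) : Gen (s m) :=
  ⟨by simpa using h.ne0, by simpa using h.ne1, fun x hx => by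
    obtain ⟨i, hi⟩ := h.gen (s.symm x) (by simpa using hx)
    exact ⟨i, by rw [← map_pow, ← hi, AlgEquiv.apply_symm_apply]⟩⟩

/-- the squaring automorphism -/
noncomputable def fr (F : Type*) [Field F] [Fintype F] [Algebra (ZMod 2) F] : Au F :=
  FiniteField.frobeniusAlgEquivOfAlgebraic (ZMod 2) F

theorem fr_apply (x : F) : fr F x = x ^ 2 := by
  simp [fr]

theorem Bi.alt {B : F → F → F} {m l : F} (h : Bi B m m l) (ha : ∀ x, B x x = 0) {x y : F}
    (hne : B x y ≠ 0) : ∃ s t : Au F, s ≠ t ∧ s m * t m = l := by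
  obtain ⟨b, h1, h2⟩ := h.exp
  by_contra hn
  have h3 : ∀ s t, s ≠ t → b s t = 0 := fun s t e => by
    by_contra e'
    exact hn ⟨s, t, e, h2 s t e'⟩
  have h4 : ∀ x y, B x y = ∑ s, b s s * s (x * y) := fun x y => by
    rw [h1]
    refine sum_congr rfl fun s _ => ?_
    rw [sum_eq_single s (fun t _ e => by rw [h3 s t e.symm, zero_mul]) (by simp), map_mul]
  have h5 := add_uniq (fun s => b s s) fun z => by
    obtain ⟨w, rfl⟩ := (fr F).surjective z
    rw [fr_apply, pow_two, ← h4, ha]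
  exact hne (by simp [h4, h5])

theorem add_wt {f : F → F} {m l : F} (hf : ∀ x y, f (x + y) = f x + f y)
    (he : ∀ x, f (m * x) = l * f x) {x : F} (hx : f x ≠ 0) : ∃ s : Au F, s m = l := by
  obtain ⟨c, hc⟩ := add_exp f hf
  by_contra hn
  have h1 := add_uniq (fun s => c s * (s m - l)) fun z => by
    have := he z
    rw [hc, hc, ← sub_eq_zero, mul_sum, ← sum_sub_distrib] at this
    rw [← this]
    exact sum_congr rfl fun s _ => by rw [map_mul]; ring
  refine hx ?_
  rw [hc]
  refine sum_eq_zero fun s _ => ?_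
  rw [(mul_eq_zero.1 (h1 s)).resolve_right fun e => hn ⟨s, sub_eq_zero.1 e⟩, zero_mul]

omit [Fintype F] [Algebra (ZMod 2) F] in
theorem Bi.zero_left {B : F → F → F} {m1 m2 l : F} (h : Bi B m1 m2 l) (y : F) : B 0 y = 0 := by
  simpa using h.addl 0 0 y

omit [Fintype F] [Algebra (ZMod 2) F] in
theorem Bi.pow {B : F → F → F} {m1 m2 l : F} (h : Bi B m1 m2 l) (i : ℕ) (x y : F) :
    B (m1 ^ i * x) (m2 ^ i * y) = l ^ i * B x y := by
  induction i with
  | zero => simp
  | succ i ih => rw [pow_succ', pow_succ', pow_succ', mul_assoc, mul_assoc, h.eqv, ih, mul_assoc]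

/-- an additive equivariant family of idempotents vanishes -/
theorem Bi.idem {E : F → F → F} {m l : F} (h : Bi E l m l) (hm : Gen m) (hl : Gen l)
    (hi : ∀ z y, E (E z y) y = E z y) (z y : F) : E z y = 0 := by
  classical
  have hc : ∀ z x y, E (E z x) y = E (E z y) x := fun z x y => by
    have := hi z (x + y)
    simp only [h.addr, h.addl, hi] at this
    exact eq_of_add (by linear_combination this)
  let T : F → Finset F := fun z => univ.filter fun y => E z y = 0
  have h1 : ∀ z w, z ≠ 0 → w ≠ 0 → (T z).card ≤ (T w).card := fun z w hz hw => by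
    obtain ⟨i, hi⟩ := hl.gen (w / z) (div_ne_zero hw hz)
    refine card_le_card_of_injOn (fun y => m ^ i * y) (fun y hy => ?_)
      fun _ _ _ _ e => mul_left_cancel₀ (pow_ne_zero i hm.ne0) e
    simp only [T, coe_filter, mem_univ, true_and, Set.mem_ofPred_eq] at hy ⊢
    rw [← div_mul_cancel₀ w hz, hi, h.pow, hy, mul_zero]
  have h2 : ∀ z y, E z y = 0 ∨ E z y = z := fun z y => by
    by_contra hn
    push Not at hn
    have hz : z ≠ 0 := by rintro rfl; exact hn.1 (h.zero_left y)
    refine not_lt.2 (h1 _ z (fun e => hn.2 (eq_of_add e).symm) hz) (card_lt_card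
      (ssubset_iff_of_subset (fun x hx => ?_) |>.2 ⟨y, ?_, ?_⟩))
    · simp only [T, mem_filter, mem_univ, true_and] at hx ⊢
      rw [h.addl, hc, hx, h.zero_left, add_zero]
    · simp only [T, mem_filter, mem_univ, true_and]
      rw [h.addl, hi, aa]
    · simpa [T] using hn.1
  have h3 : ∀ y z, E z y ≠ 0 → ∀ w, E w y = w := fun y z hz w => by
    have h4 := (h2 z y).resolve_left hz
    rcases h2 w y with h5 | h5
    · have h6 := h2 (z + w) y
      rw [h.addl, h5, add_zero] at h6
      rw [h5]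
      linear_combination h6.resolve_left hz - h4
    · exact h5
  by_contra hz
  have h4 : ∀ i : ℕ, ∀ w, E w (m ^ i * y) = w := fun i => h3 _ (l ^ i * z) (by
    rw [h.pow]; exact mul_ne_zero (pow_ne_zero i hl.ne0) hz)
  obtain ⟨i, hi⟩ := hm.gen (1 + m) fun e => hm.ne1 (eq_of_add e).symm
  have h5 := h4 i 1
  rw [← hi, add_mul, h.addr, one_mul, h3 y z hz, ← pow_one m, h4, aa] at h5
  exact zero_ne_one h5

theorem keyA {E : F → F → F} {m l c : F} (h : Bi E l m l) (hm : Gen m) (hc : c ≠ 0) {s t : Au F}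
    (hst : s ≠ t) (hI : ∀ x y, E (c * (s x * t x)) y =
      E (c * (s x * t y + t x * s y)) x + c * (s x * t y + t x * s y)) :
    ∃ u : Au F, (∀ y, u (s y) = t y) ∧ ∀ x, u (t x) ^ 2 = s x := by
  obtain ⟨b, h1, -⟩ := h.exp
  obtain ⟨i, -, h2, h3⟩ := match2 (ι := Unit ⊕ (Au F × Au F) ⊕ (Au F × Au F) ⊕ (Au F × Au F))
    (Sum.elim (fun _ => -c) (Sum.elim (fun p => b p.1 p.2 * p.1 c) (Sum.elim
      (fun p => -(b p.1 p.2 * p.1 c)) (fun p => -(b p.1 p.2 * p.1 c)))))
    (Sum.elim (fun _ => (t : F →* F)) (Sum.elim (fun p => ((p.1 * s : Au F) : F →* F) * (p.1 * t : Au F))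
      (Sum.elim (fun p => ((p.1 * s : Au F) : F →* F) * p.2)
        (fun p => ((p.1 * t : Au F) : F →* F) * p.2))))
    (Sum.elim (fun _ => (s : F →* F)) (Sum.elim (fun p => p.2)
      (Sum.elim (fun p => (p.1 * t : Au F)) (fun p => (p.1 * s : Au F))))) s t hc (fun x y => by
      have := hI x y
      rw [h1, h1] at this
      simp only [Fintype.sum_sum_type, Fintype.sum_prod_type, Sum.elim_inl, Sum.elim_inr,
        univ_unique, sum_singleton, MonoidHom.coe_coe, MonoidHom.mul_apply, AlgEquiv.mul_apply]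
      have e1 : ∑ u, ∑ v, b u v * u c * (u (s x) * u (t x) * v y) =
          ∑ u, ∑ v, b u v * (u (c * (s x * t x)) * v y) :=
        sum_congr rfl fun u _ => sum_congr rfl fun v _ => by simp only [map_mul]; ring
      have e2 : ∑ u, ∑ v, -(b u v * u c) * (u (s x) * v x * u (t y)) +
          ∑ u, ∑ v, -(b u v * u c) * (u (t x) * v x * u (s y)) =
          -∑ u, ∑ v, b u v * (u (c * (s x * t y + t x * s y)) * v x) := by
        simp only [← sum_add_distrib, ← sum_neg_distrib]
        exact sum_congr rfl fun u _ => sum_congr rfl fun v _ => by simp only [map_mul, map_add]; ring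
      rw [e1, e2, this]
      ring)
  rcases i with _ | ⟨u, v⟩ | ⟨u, v⟩ | ⟨u, v⟩
  · exact absurd (AlgEquiv.ext fun x => (h2 x).symm) hst
  · exact absurd (mul_left_cancel (eq_of_mul (s := u * s) (t := u * t) h2)) hst
  · have e1 : u * t = t := AlgEquiv.ext h3
    have e2 : u * s = v := eq_of_mul h2
    have e3 : u * s * 1 = s := by rw [mul_eq_right.1 e1]; simp
    have e4 : (u * s) m * v m = s m := h2 m
    rw [← e2, ← mul_one (u * s), e3, mul_eq_left₀ (hm.map s).ne0] at e4
    exact absurd e4 (hm.map s).ne1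
  · have e2 : u * t = v := eq_of_mul h2
    refine ⟨u, h3, fun x => ?_⟩
    have e4 : (u * t) x * v x = s x := h2 x
    rw [← e2, ← pow_two] at e4
    exact e4

theorem caseA {E : F → F → F} {m l c : F} (h : Bi E l m l) (hm : Gen m) (hc : c ≠ 0) {s t : Au F}
    (hst : s ≠ t) (hI : ∀ x y, E (c * (s x * t x)) y =
      E (c * (s x * t y + t x * s y)) x + c * (s x * t y + t x * s y)) : False := by
  obtain ⟨u, h1, h2⟩ := keyA h hm hc hst hI
  obtain ⟨u', h3, h4⟩ := keyA h hm hc hst.symm fun x y => by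
    rw [mul_comm (t x) (s x), add_comm (t x * s y)]; exact hI x y
  have g := hm.map s
  have e1 : u (u (s m)) ^ 2 = s m := by rw [h1, h2]
  have e2 : u (u (s m)) = s m ^ 2 := by
    have h5 : u (u' (s m)) = s m := by
      obtain ⟨y, hy⟩ := t.surjective (s m)
      rw [← hy, h3, h1]
    rw [h1, ← h4, map_pow, h5]
  have e3 : u (s m) ≠ s m := fun e => hst (hm.eq (by rw [← h1, e]))
  generalize s m = M at *
  have e4 : M ^ 3 = 1 := by
    refine mul_left_cancel₀ g.ne0 ?_
    rw [e2] at e1; linear_combination e1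
  have e5 : M ^ 2 + M + 1 = 0 := by
    refine mul_left_cancel₀ (sub_ne_zero.2 g.ne1) ?_
    linear_combination e4
  have e6 : u M ^ 2 + u M + 1 = 0 := by simpa using congrArg u e5
  have e7 : u M = M ^ 2 := by
    refine sub_eq_zero.1 (mul_left_cancel₀ (sub_ne_zero.2 e3) ?_)
    linear_combination e6 - u M * e5 + e4
  have e8 : M ^ 2 * M ^ 2 = M ^ 2 := by
    rw [e7, map_pow, e7] at e2; linear_combination e2
  have e9 := (mul_eq_left₀ (pow_ne_zero 2 g.ne0)).1 e8
  exact g.ne1 (by linear_combination e4 - M * e9)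

theorem keyB {E : F → F → F} {m l : F} (h : Bi E l m l) (c : Au F → Au F → F) {s t : Au F}
    (hc : c s t ≠ 0) (hI : ∀ x y, E (∑ s, ∑ t, c s t * (s x * t y)) x =
      ∑ s, ∑ t, c s t * (s x * t y)) : ∃ u : Au F, u l ^ 2 * s m = l ^ 2 := by
  classical
  obtain ⟨b, h1, h2⟩ := h.exp
  obtain ⟨i, h0, h3, h4⟩ := match2 (ι := (Au F × Au F) ⊕ ((Au F × Au F) × (Au F × Au F)))
    (Sum.elim (fun p => if p = (s, t) then 0 else -c p.1 p.2)
      (fun p => b p.1.1 p.1.2 * p.1.1 (c p.2.1 p.2.2)))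
    (Sum.elim (fun p => (p.1 : F →* F)) (fun p => ((p.1.1 * p.2.1 : Au F) : F →* F) * p.1.2))
    (Sum.elim (fun p => (p.2 : F →* F)) (fun p => (p.1.1 * p.2.2 : Au F))) s t hc (fun x y => by
      have := hI x y
      rw [h1] at this
      rw [Fintype.sum_sum_type]
      simp only [Sum.elim_inl, Sum.elim_inr, MonoidHom.coe_coe, MonoidHom.mul_apply,
        AlgEquiv.mul_apply]
      have e1 : ∑ p : (Au F × Au F) × (Au F × Au F),
          b p.1.1 p.1.2 * p.1.1 (c p.2.1 p.2.2) * (p.1.1 (p.2.1 x) * p.1.2 x * p.1.1 (p.2.2 y)) =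
          ∑ u, ∑ v, b u v * (u (∑ s, ∑ t, c s t * (s x * t y)) * v x) := by
        simp only [Fintype.sum_prod_type, map_sum, map_mul, sum_mul, mul_sum]
        exact sum_congr rfl fun u _ => sum_congr rfl fun v _ => sum_congr rfl fun s _ =>
          sum_congr rfl fun t _ => by ring
      rw [e1, this, ← Fintype.sum_prod_type', ← sum_add_distrib, sum_eq_single (s, t)]
      · simp
      · intro p _ hp
        rw [if_neg hp]; ring
      · simp)
  rcases i with ⟨u, v⟩ | ⟨⟨u, v⟩, s', t'⟩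
  · have e1 : u = s := AlgEquiv.ext h3
    have e2 : v = t := AlgEquiv.ext h4
    simp [e1, e2] at h0
  · have e2 : u * s' = v := eq_of_mul h3
    have e4 : (u * s') m * v m = s m := h3 m
    refine ⟨u, ?_⟩
    rw [← e4, e2]
    linear_combination (u l * v m + l) * h2 u v (left_ne_zero_of_mul h0)

theorem caseB {C E1 E2 : F → F → F} {m1 m2 l : F} (hC : Bi C m1 m2 l) (h1 : Bi E1 l m1 l)
    (h2 : Bi E2 l m2 l) (g1 : Gen m1) (g2 : Gen m2) (hl : Gen l)
    (i1 : ∀ x y, E1 (C x y) x = C x y) (i2 : ∀ x y, E2 (C x y) y = C x y) (x y : F) :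
    C x y = 0 := by
  obtain ⟨c, e1, e2⟩ := hC.exp
  by_contra hn
  obtain ⟨s, t, hst⟩ : ∃ s t, c s t ≠ 0 := by
    by_contra h
    push Not at h
    exact hn (by simp [e1, h])
  obtain ⟨u, hu⟩ := keyB h1 c hst fun x y => by rw [← e1, i1]
  obtain ⟨v, hv⟩ := keyB h2 (fun t s => c s t) hst fun y x => by
    have : ∑ t, ∑ s, c s t * (t y * s x) = C x y := by
      rw [e1, sum_comm]; simp only [mul_comm]
    rw [this, i2]
  have h3 : (1 : Au F) l * fr F l = (fr F * u) l * (fr F * v) l := by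
    simp only [AlgEquiv.mul_apply, fr_apply, AlgEquiv.one_apply]
    refine mul_left_cancel₀ hl.ne0 ?_
    linear_combination (u l ^ 2 * v l ^ 2) * e2 s t hst - v l ^ 2 * t m2 * hu - l ^ 2 * hv
  have h4 : fr F ≠ 1 := fun e => hl.ne1 (mul_left_cancel₀ hl.ne0 (by
    have := fr_apply l
    rw [e, AlgEquiv.one_apply] at this
    linear_combination -this))
  rcases pair_eq h4 (fun x => (mul_comm _ _).trans (hl.mul_eq h3 x)) with e | e
  · rw [left_eq_mul.1 e, AlgEquiv.one_apply, mul_eq_left₀ (pow_ne_zero 2 hl.ne0)] at hu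
    exact (g1.map s).ne1 hu
  · rw [left_eq_mul.1 e, AlgEquiv.one_apply, mul_eq_left₀ (pow_ne_zero 2 hl.ne0)] at hv
    exact (g2.map t).ne1 hv

end Cfsg.Agent.H8.EC
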