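import Cfsg.Agent.H8.EC1

/-! Coordinates on sections of a group with a fixed point free automorphism of Mersenne order. -/

set_option autoImplicit false

namespace Cfsg.Agent.H8.EC

open Finset Subgroup
open scoped commutatorElement

theorem comm_mem_of_sq {T : Type*} [Group T] {X N : Subgroup T} (hN : ∀ t ∈ X, t * t ∈ N) {g h : T}
    (hg : g ∈ X) (hh : h ∈ X) : ⁅g, h⁆ ∈ N := by
  have := mul_mem (mul_mem (hN g hg) (hN _ (mul_mem (inv_mem hg) hh))) (hN _ (inv_mem hh))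
  convert this using 1
  rw [commutatorElement_def]; group

theorem exists_retr {T : Type*} [Group T] (N : Subgroup T) (hN : ∀ t, t * t ∈ N) {W : Type*}
    [AddCommGroup W] [Module (ZMod 2) W] (ι : W → T) (hι : ∀ a b, (ι (a + b))⁻¹ * (ι a * ι b) ∈ N)
    (hi : ∀ a, ι a ∈ N → a = 0) :
    ∃ f : T → W, (∀ x y, f (x * y) = f x + f y) ∧ (∀ x ∈ N, f x = 0) ∧ ∀ a, f (ι a) = a := by
  have hc : ∀ g h : T, ⁅g, h⁆ ∈ N := fun g h =>
    comm_mem_of_sq (X := ⊤) (fun t _ => hN t) trivial trivial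
  have : N.Normal := ⟨fun n hn g => by simpa [commutatorElement_def] using mul_mem (hc g n) hn⟩
  let _ : CommGroup (T ⧸ N) := { (inferInstance : Group (T ⧸ N)) with
    mul_comm := by
      rintro ⟨x⟩ ⟨y⟩
      exact QuotientGroup.eq.2 (by simpa [commutatorElement_def, mul_assoc] using hc y⁻¹ x⁻¹) }
  let _ : Module (ZMod 2) (Additive (T ⧸ N)) := AddCommGroup.zmodModule (by
    intro z
    rw [two_nsmul]
    obtain ⟨x, rfl⟩ := QuotientGroup.mk_surjective (s := N) z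
    exact (QuotientGroup.eq_one_iff _).2 (hN x))
  let j : W →+ Additive (T ⧸ N) := AddMonoidHom.mk' (fun a => Additive.ofMul (ι a : T ⧸ N))
    fun a b => QuotientGroup.eq.2 (hι a b)
  obtain ⟨g, hg⟩ := LinearMap.exists_leftInverse_of_injective (j.toZModLinearMap 2)
    (LinearMap.ker_eq_bot'.2 fun a ha => hi a ((QuotientGroup.eq_one_iff _).1 ha))
  refine ⟨fun x => g (Additive.ofMul (x : T ⧸ N)), fun x y => by rw [← map_add]; rfl,
    fun x hx => ?_, fun a => LinearMap.congr_fun hg a⟩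
  simp only [(QuotientGroup.eq_one_iff x).2 hx, ofMul_one, map_zero]

theorem zmod2 : ∀ a : ZMod 2, a = 0 ∨ a = 1 := by decide

variable {F : Type*} [Field F] [Fintype F] [Algebra (ZMod 2) F]
variable {S : Type*} [Group S] {κ : MulAut S}

/-- an equivariant homomorphism from `X` onto the additive group of `F` -/
structure EH (κ : MulAut S) (X : Subgroup S) (π : S → F) (m : F) : Prop where
  inv : ∀ x ∈ X, κ x ∈ X
  add : ∀ x ∈ X, ∀ y ∈ X, π (x * y) = π x + π y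
  eqv : ∀ x ∈ X, π (κ x) = m * π x
  surj : ∀ a, ∃ x ∈ X, π x = a

theorem inv_pow_mem {X : Subgroup S} (h : ∀ x ∈ X, κ x ∈ X) (i : ℕ) : ∀ x ∈ X, (κ ^ i) x ∈ X := by
  induction i with
  | zero => exact fun x hx => hx
  | succ i ih => exact fun x hx => by rw [pow_succ', MulAut.mul_apply]; exact h _ (ih x hx)

omit [Fintype F] [Algebra (ZMod 2) F] in
theorem eqv_pow {X : Subgroup S} {π : S → F} {m : F} (h : ∀ x ∈ X, κ x ∈ X)
    (he : ∀ x ∈ X, π (κ x) = m * π x) (i : ℕ) {x : S} (hx : x ∈ X) :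
    π ((κ ^ i) x) = m ^ i * π x := by
  induction i with
  | zero => simp
  | succ i ih => rw [pow_succ', MulAut.mul_apply, he _ (inv_pow_mem h i x hx), ih]; ring

omit [Fintype F] [Algebra (ZMod 2) F] in
theorem add_one {X : Subgroup S} {π : S → F} (h : ∀ x ∈ X, ∀ y ∈ X, π (x * y) = π x + π y) :
    π 1 = 0 := by simpa using h 1 X.one_mem 1 X.one_mem

omit [Fintype F] in
theorem add_inv {X : Subgroup S} {π : S → F} (h : ∀ x ∈ X, ∀ y ∈ X, π (x * y) = π x + π y) {x : S}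
    (hx : x ∈ X) : π x⁻¹ = π x := by
  refine eq_of_add ?_
  rw [← h _ (inv_mem hx) _ hx, inv_mul_cancel, add_one h]

omit [Fintype F] [Algebra (ZMod 2) F] in
theorem EH.of_ne {X : Subgroup S} {π : S → F} {m : F} (hm : Gen m) (h1 : ∀ x ∈ X, κ x ∈ X)
    (h2 : ∀ x ∈ X, ∀ y ∈ X, π (x * y) = π x + π y) (h3 : ∀ x ∈ X, π (κ x) = m * π x) {g : S}
    (hg : g ∈ X) (h0 : π g ≠ 0) : EH κ X π m := ⟨h1, h2, h3, fun a => by
  by_cases ha : a = 0
  · exact ⟨1, X.one_mem, ha ▸ add_one h2⟩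
  obtain ⟨i, hi⟩ := hm.gen _ (div_ne_zero ha h0)
  exact ⟨_, inv_pow_mem h1 i g hg, by rw [eqv_pow h1 h3 i hg, ← hi, div_mul_cancel₀ _ h0]⟩⟩

namespace EH

variable {X Y : Subgroup S} {π π' : S → F} {m m' l : F}

/-- the kernel -/
def ker (h : EH κ X π m) : Subgroup S where
  carrier := {x | x ∈ X ∧ π x = 0}
  one_mem' := ⟨X.one_mem, add_one h.add⟩
  mul_mem' := fun ha hb => ⟨mul_mem ha.1 hb.1, by rw [h.add _ ha.1 _ hb.1, ha.2, hb.2, add_zero]⟩
  inv_mem' := fun ha => ⟨inv_mem ha.1, by rw [add_inv h.add ha.1, ha.2]⟩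

omit [Fintype F] in
theorem ker_inv (h : EH κ X π m) : ∀ x ∈ h.ker, κ x ∈ h.ker :=
  fun x hx => ⟨h.inv x hx.1, by rw [h.eqv x hx.1, hx.2, mul_zero]⟩

omit [Fintype F] in
theorem sq (h : EH κ X π m) {x : S} (hx : x ∈ X) : π (x * x) = 0 := by rw [h.add x hx x hx, aa]

omit [Fintype F] in
theorem div_mem (h : EH κ X π m) {x y : S} (hx : x ∈ X) (hy : y ∈ X) (e : π x = π y) :
    x * y⁻¹ ∈ h.ker :=
  ⟨mul_mem hx (inv_mem hy), by rw [h.add _ hx _ (inv_mem hy), add_inv h.add hy, e, aa]⟩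

theorem card (h : EH κ X π m) : Nat.card X = Fintype.card F * Nat.card h.ker := by
  let φ : X →* Multiplicative F := MonoidHom.mk' (fun x => Multiplicative.ofAdd (π x))
    fun x y => h.add _ x.2 _ y.2
  have h1 : φ.range = ⊤ := eq_top_iff.2 fun a _ => by
    obtain ⟨x, hx, e⟩ := h.surj a.toAdd
    exact ⟨⟨x, hx⟩, e⟩
  have h2 : φ.ker = h.ker.subgroupOf X := by ext x; exact ⟨fun e => ⟨x.2, e⟩, fun e => e.2⟩
  rw [← card_mul_index φ.ker, index_ker, h1, h2, card_top, mul_comm,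
    Nat.card_congr (subgroupOfEquivOfLe (fun x hx => hx.1 : h.ker ≤ X)).toEquiv,
    Nat.card_eq_fintype_card, Fintype.card_multiplicative]

omit [Fintype F] in
theorem desc (h : EH κ X π m) (h' : EH κ Y π' m') (β : S → S → F)
    (b1 : ∀ x ∈ X, ∀ x' ∈ X, ∀ y ∈ Y, β (x * x') y = β x y + β x' y)
    (b2 : ∀ x ∈ X, ∀ y ∈ Y, ∀ y' ∈ Y, β x (y * y') = β x y + β x y')
    (b3 : ∀ x ∈ X, ∀ y ∈ Y, π x = 0 → β x y = 0) (b4 : ∀ x ∈ X, ∀ y ∈ Y, π' y = 0 → β x y = 0)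
    (b5 : ∀ x ∈ X, ∀ y ∈ Y, β (κ x) (κ y) = l * β x y) :
    ∃ B, Bi B m m' l ∧ ∀ x ∈ X, ∀ y ∈ Y, β x y = B (π x) (π' y) := by
  choose s hs hs' using h.surj
  choose t ht ht' using h'.surj
  have key : ∀ x ∈ X, ∀ y ∈ Y, β x y = β (s (π x)) (t (π' y)) := fun x hx y hy => by
    have h1 := h.div_mem hx (hs _) (hs' _).symm
    have h2 := h'.div_mem hy (ht _) (ht' _).symm
    have h3 := b1 _ h1.1 _ (hs (π x)) y hy
    have h4 := b2 _ (hs (π x)) _ h2.1 _ (ht (π' y))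
    rw [inv_mul_cancel_right, b3 _ h1.1 _ hy h1.2, zero_add] at h3
    rw [inv_mul_cancel_right, b4 _ (hs _) _ h2.1 h2.2, zero_add] at h4
    rw [h3, h4]
  refine ⟨fun a b => β (s a) (t b), ⟨fun a a' b => ?_, fun a b b' => ?_, fun a b => ?_⟩, key⟩
  · rw [← b1 _ (hs _) _ (hs _) _ (ht _), key _ (mul_mem (hs a) (hs a')) _ (ht b),
      h.add _ (hs _) _ (hs _), hs', hs', ht']
  · rw [← b2 _ (hs _) _ (ht _) _ (ht _), key _ (hs a) _ (mul_mem (ht b) (ht b')),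
      h'.add _ (ht _) _ (ht _), hs', ht', ht']
  · rw [← b5 _ (hs _) _ (ht _), key _ (h.inv _ (hs a)) _ (h'.inv _ (ht b)), h.eqv _ (hs _),
      h'.eqv _ (ht _), hs', ht']

end EH

/-- averaging over the powers of `κ` -/
def avg (κ : MulAut S) (ν : F) (χ : S → F) (x : S) : F :=
  ∑ i ∈ range (Fintype.card F - 1), ν ^ i * χ ((κ ^ i) x)

omit [Algebra (ZMod 2) F] in
theorem avg_eqv (hκ : κ ^ (Fintype.card F - 1) = 1) {ν : F} (hν : ν ≠ 0) (χ : S → F) (x : S) :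
    avg κ ν χ (κ x) = ν⁻¹ * avg κ ν χ x := by
  have h1 := sum_range_succ (fun i => ν ^ i * χ ((κ ^ i) x)) (Fintype.card F - 1)
  rw [sum_range_succ', hκ, FiniteField.pow_card_sub_one_eq_one ν hν, pow_zero, pow_zero,
    add_left_inj] at h1
  rw [avg, avg, ← h1, mul_sum]
  refine sum_congr rfl fun i _ => ?_
  rw [pow_succ κ, MulAut.mul_apply, pow_succ', mul_assoc, inv_mul_cancel_left₀ hν]

theorem exists_coord [Finite S] (hr : (Fintype.card F - 1).Prime)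
    (hκ : κ ^ (Fintype.card F - 1) = 1) (hf : ∀ x, κ x = x → x = 1) {X Y : Subgroup S}
    (hX : ∀ x ∈ X, κ x ∈ X) (hY : ∀ x ∈ Y, κ x ∈ Y) (hs : ∀ x ∈ X, x * x ∈ Y) {g : S} (hg : g ∈ X)
    (hg' : g ∉ Y) : ∃ (π : S → F) (m : F), Gen m ∧ EH κ X π m ∧ (∀ y ∈ Y, π y = 0) ∧ π g ≠ 0 := by
  classical
  obtain ⟨f, f1, f2, f3⟩ := exists_retr (Y.subgroupOf X) (fun t => hs t t.2) (W := ZMod 2)
    (fun a => if a = 0 then 1 else ⟨g, hg⟩) (fun a b => by
      have := hs g hg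
      rcases zmod2 a with rfl | rfl <;> rcases zmod2 b with rfl | rfl <;>
        simp [mem_subgroupOf, show (1 : ZMod 2) + 1 = 0 from rfl, this])
    (fun a ha => by
      by_contra e
      rw [if_neg e] at ha
      exact hg' ha)
  let χ : S → F := fun s => if h : s ∈ X then algebraMap (ZMod 2) F (f ⟨s, h⟩) else 0
  have c1 : ∀ x ∈ X, ∀ y ∈ X, χ (x * y) = χ x + χ y := fun x hx y hy => by
    simp only [χ, dif_pos hx, dif_pos hy, dif_pos (mul_mem hx hy), ← map_add, ← f1]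
    rfl
  have c2 : ∀ y ∈ Y, χ y = 0 := fun y hy => by
    simp only [χ]
    split_ifs with h
    · rw [f2 ⟨y, h⟩ hy, map_zero]
    · rfl
  have c3 : χ g = 1 := by
    have := f3 1
    rw [if_neg one_ne_zero] at this
    simp only [χ, dif_pos hg, this, map_one]
  obtain ⟨ν, hν⟩ : ∃ ν : Fˣ, avg κ (ν : F) χ g ≠ 0 := by
    by_contra hn
    push Not at hn
    have h1 : ∑ ν : Fˣ, avg κ (ν : F) χ g = 0 := sum_eq_zero fun ν _ => hn ν
    simp only [avg] at h1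
    rw [sum_comm] at h1
    simp only [← sum_mul, FiniteField.sum_pow_units] at h1
    rw [sum_eq_single 0 (fun i hi e => by
      rw [if_neg (Nat.not_dvd_of_pos_of_lt (Nat.pos_of_ne_zero e) (mem_range.1 hi)), zero_mul])
      (fun e => absurd (mem_range.2 hr.pos) e)] at h1
    simp [c3] at h1
  have a1 : ∀ x ∈ X, ∀ y ∈ X, avg κ (ν : F) χ (x * y) = avg κ (ν : F) χ x + avg κ (ν : F) χ y :=
    fun x hx y hy => by
      simp only [avg, ← sum_add_distrib, map_mul]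
      exact sum_congr rfl fun i _ => by
        rw [c1 _ (inv_pow_mem hX i x hx) _ (inv_pow_mem hX i y hy), mul_add]
  have hm : Gen (ν : F)⁻¹ := gen_of hr (inv_ne_zero ν.ne_zero) fun e => by
    have h1 : Function.Injective fun x : X => (⟨x⁻¹ * κ x, mul_mem (inv_mem x.2) (hX _ x.2)⟩ : X) :=
      fun x y e => by
        have h2 : (x : S)⁻¹ * κ x = (y : S)⁻¹ * κ y := congrArg Subtype.val e
        have h3 := hf (x * (y : S)⁻¹) (by
          rw [map_mul, map_inv, eq_mul_inv_iff_mul_eq, inv_mul_eq_iff_eq_mul.1 h2]; group)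
        exact Subtype.ext (mul_inv_eq_one.1 h3)
    obtain ⟨y, hy⟩ := Finite.injective_iff_surjective.1 h1 ⟨g, hg⟩
    have h2 : (y : S)⁻¹ * κ y = g := congrArg Subtype.val hy
    apply hν
    rw [← h2, a1 _ (inv_mem y.2) _ (hX _ y.2), add_inv a1 y.2, avg_eqv hκ ν.ne_zero, e, one_mul, aa]
  exact ⟨avg κ (ν : F) χ, _, hm, EH.of_ne hm hX a1 (fun x _ => avg_eqv hκ ν.ne_zero χ x) hg hν,
    fun y hy => sum_eq_zero fun i _ => by rw [c2 _ (inv_pow_mem hY i y hy), mul_zero], hν⟩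

end Cfsg.Agent.H8.EC
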