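import Cfsg.Agent.H8.EC2

/-! Suzuki `2`-groups of exponent four. -/

set_option autoImplicit false

namespace Cfsg.Agent.H8.EC

open Finset Subgroup
open scoped commutatorElement

variable {F : Type*} [Field F] [Fintype F] [Algebra (ZMod 2) F]
variable {S : Type*} [Group S] {κ : MulAut S} {om : S → F} {l : F}

/-- the standing hypothesis -/
structure Hyp (κ : MulAut S) (om : S → F) (l : F) : Prop where
  pr : (Fintype.card F - 1).Prime
  pg : IsPGroup 2 S
  per : κ ^ (Fintype.card F - 1) = 1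
  fpf : ∀ x, κ x = x → x = 1
  cen : ∀ t : S, t * t = 1 → ∀ s : S, s * t = t * s
  add : ∀ t u, t * t = 1 → u * u = 1 → om (t * u) = om t + om u
  inj : ∀ t, t * t = 1 → om t = 0 → t = 1
  surj : ∀ b, ∃ t, t * t = 1 ∧ om t = b
  eqv : ∀ t, t * t = 1 → om (κ t) = l * om t
  gen : Gen l

/-- elements of square one, when they are central -/
def Om (h : ∀ t : S, t * t = 1 → ∀ s : S, s * t = t * s) : Subgroup S where
  carrier := {t | t * t = 1}
  one_mem' := one_mul 1
  mul_mem' := fun {a b} ha hb => by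
    show a * b * (a * b) = 1
    rw [mul_assoc, ← mul_assoc b, ← h b hb a, mul_assoc a b b, hb, mul_one, ha]
  inv_mem' := fun {a} ha => by
    show a⁻¹ * a⁻¹ = 1
    rw [← mul_inv_rev, ha, inv_one]

theorem om_inv (h : ∀ t : S, t * t = 1 → ∀ s : S, s * t = t * s) : ∀ t ∈ Om h, κ t ∈ Om h :=
  fun t ht => by
    show κ t * κ t = 1
    rw [← map_mul, ht, map_one]

/-- restriction of an automorphism to an invariant subgroup -/
noncomputable def res [Finite S] (κ : MulAut S) (X : Subgroup S) (hX : ∀ x ∈ X, κ x ∈ X) :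
    MulAut X :=
  MulEquiv.ofBijective ((κ.toMonoidHom.comp X.subtype).codRestrict X fun x => hX x x.2)
    (Finite.injective_iff_bijective.1 fun _ _ e => Subtype.ext (κ.injective (congrArg Subtype.val e)))

theorem res_pow [Finite S] {X : Subgroup S} (hX : ∀ x ∈ X, κ x ∈ X) (i : ℕ) (x : X) :
    ((res κ X hX ^ i) x : S) = (κ ^ i) x := by
  induction i with
  | zero => rfl
  | succ i ih => rw [pow_succ', pow_succ', MulAut.mul_apply, MulAut.mul_apply, ← ih]; rfl

theorem two_pow_eq {a b d n r : ℕ} (hn : n ≠ 0) (hr : r + 1 = 2 ^ n) (h : 2 ^ a + r * 2 ^ d = 2 ^ b) :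
    a = d ∧ b = a + n := by
  have h1 : ∀ c u : ℕ, 2 ^ c * u = 2 ^ b → Odd u → u = 1 := fun c u e hu =>
    (Nat.Coprime.pow_right b (Nat.coprime_two_right.2 hu)).eq_one_of_dvd (Dvd.intro_left _ e)
  have h2 : Odd r := by
    have : Even (r + 1) := hr ▸ (Nat.even_pow.2 ⟨even_two, hn⟩)
    simpa [Nat.even_add_one] using this
  have h3 := h2.pos
  rcases lt_trichotomy a d with e | rfl | e
  · obtain ⟨k, rfl⟩ := Nat.exists_eq_add_of_lt e
    have := h1 a (2 * (r * 2 ^ k) + 1) (by rw [← h]; ring) (odd_two_mul_add_one _)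
    have : 0 < r * 2 ^ k := by positivity
    omega
  · refine ⟨rfl, Nat.pow_right_injective le_rfl ?_⟩
    simp only [← h, pow_add, ← hr]; ring
  · obtain ⟨k, rfl⟩ := Nat.exists_eq_add_of_lt e
    have := h1 d (2 * 2 ^ k + r) (by rw [← h]; ring) ((even_two_mul _).add_odd h2)
    have : 0 < 2 ^ k := by positivity
    omega

theorem sum_sign {T : Type*} [Group T] [Fintype T] (f : T → ℤ) (h : ∀ x y, f (x * y) = f x * f y)
    {x : T} (hx : f x = -1) : ∑ y, f y = 0 := by
  have := Equiv.sum_comp (Equiv.mulLeft x) f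
  simp only [Equiv.coe_mulLeft, h, hx, neg_one_mul, sum_neg_distrib] at this
  omega

namespace Hyp

omit [Algebra (ZMod 2) F] in
theorem eh (h : Hyp κ om l) : EH κ (Om h.cen) om l := ⟨om_inv h.cen, fun t ht u hu => h.add t u ht hu,
  h.eqv, h.surj⟩

theorem card_om (h : Hyp κ om l) : Nat.card (Om h.cen) = Fintype.card F := by
  rw [h.eh.card, show h.eh.ker = ⊥ from eq_bot_iff.2 fun x hx => h.inj x hx.1 hx.2, card_bot, mul_one]

omit [Algebra (ZMod 2) F] in
theorem one (h : Hyp κ om l) : om 1 = 0 := add_one h.eh.add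

theorem om_le [Finite S] (h : Hyp κ om l) {X : Subgroup S} (hX : ∀ x ∈ X, κ x ∈ X) {x : S}
    (hx : x ∈ X) (h1 : x ≠ 1) {u : S} (hu : u * u = 1) : u ∈ X := by
  obtain ⟨k, hk⟩ := h.pg.exists_orderOf_eq_pow x
  have h2 : 2 ∣ orderOf x := by
    rcases k with _ | k
    · exact absurd (orderOf_eq_one_iff.1 hk) h1
    · exact hk ▸ dvd_pow_self 2 k.succ_ne_zero
  have h3 := orderOf_pow_orderOf_div (orderOf_pos x).ne' h2
  have h4 := X.pow_mem hx (orderOf x / 2)
  generalize x ^ (orderOf x / 2) = t at h3 h4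
  have h5 : t * t = 1 := by rw [← pow_two, ← h3, pow_orderOf_eq_one]
  have h6 : om t ≠ 0 := fun e => by simp [h.inj t h5 e] at h3
  obtain ⟨y, hy, e⟩ := (EH.of_ne (X := X ⊓ Om h.cen) h.gen (fun x hx => ⟨hX x hx.1, om_inv _ x hx.2⟩)
    (fun x hx y hy => h.add x y hx.2 hy.2) (fun x hx => h.eqv x hx.2) ⟨h4, h5⟩ h6).surj (om u)
  have := h.eh.div_mem hu hy.2 e.symm
  rw [mul_inv_eq_one.1 (h.inj _ this.1 this.2)]
  exact hy.1

theorem restrict [Finite S] (h : Hyp κ om l) {X : Subgroup S} (hX : ∀ x ∈ X, κ x ∈ X) {x : S}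
    (hx : x ∈ X) (h1 : x ≠ 1) : Hyp (res κ X hX) (fun x => om x) l where
  pr := h.pr
  pg := h.pg.to_subgroup X
  per := by ext y; rw [res_pow, h.per]; rfl
  fpf := fun y e => Subtype.ext (h.fpf _ (congrArg Subtype.val e))
  cen := fun t ht s => Subtype.ext (h.cen _ (congrArg Subtype.val ht) _)
  add := fun t u ht hu => h.add _ _ (congrArg Subtype.val ht) (congrArg Subtype.val hu)
  inj := fun t ht e => Subtype.ext (h.inj _ (congrArg Subtype.val ht) e)
  surj := fun b => by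
    obtain ⟨t, ht, e⟩ := h.surj b
    exact ⟨⟨t, h.om_le hX hx h1 ht⟩, Subtype.ext ht, e⟩
  eqv := fun t ht => h.eqv _ (congrArg Subtype.val ht)
  gen := h.gen

omit [Algebra (ZMod 2) F] in
theorem conj (h : Hyp κ om l) {t : S} (ht : t * t = 1) (g : S) : g * t * g⁻¹ = t := by
  rw [h.cen t ht, mul_inv_cancel_right]

theorem card_cases [Fintype S] (h : Hyp κ om l) (h4 : ∀ x : S, x * x * (x * x) = 1) :
    Nat.card S = Fintype.card F ∨ Nat.card S = Fintype.card F ^ 2 ∨
      Nat.card S = Fintype.card F ^ 3 := by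
  classical
  obtain ⟨φ, hφ⟩ := LinearMap.exists_leftInverse_of_injective (Algebra.linearMap (ZMod 2) F)
    (LinearMap.ker_eq_bot.2 (algebraMap (ZMod 2) F).injective)
  let ε : F → ℤ := fun x => if φ x = 0 then 1 else -1
  have e1 : ∀ x y, ε (x + y) = ε x * ε y := fun x y => by
    simp only [ε, map_add]
    rcases zmod2 (φ x) with e | e <;> rcases zmod2 (φ y) with e' | e' <;> rw [e, e'] <;> decide
  have e2 : ε 1 = -1 := by
    have := LinearMap.congr_fun hφ 1
    simp only [LinearMap.comp_apply, Algebra.linearMap_apply, map_one, LinearMap.id_apply] at this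
    simp [ε, this]
  have e0 : ε 0 = 1 := by simp [ε]
  have e3 : ∀ x, ε x ≠ 1 → ε x = -1 := fun x hx => by
    simp only [ε] at hx ⊢
    split_ifs at hx ⊢ <;> simp_all
  have e4 : ∀ x, ε x * ε x = 1 := fun x => by rw [← e1, aa, e0]
  let γ : F → ℤ := fun t => ∑ g : S, ε (t * om (g * g))
  have g1 : ∀ t, γ (l * t) = γ t := fun t => by
    refine Fintype.sum_equiv κ.toEquiv _ _ fun g => ?_
    show _ = ε (t * om (κ g * κ g))
    rw [← map_mul κ, h.eqv _ (h4 g)]
    congr 1; ring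
  have g2 : ∀ t, t ≠ 0 → γ t = γ 1 := fun t ht => by
    obtain ⟨i, rfl⟩ := h.gen.gen t ht
    induction i with
    | zero => rw [pow_zero]
    | succ i ih => rw [pow_succ', g1, ih (pow_ne_zero i h.gen.ne0)]
  have g3 : ∑ t, γ t = Fintype.card F * Fintype.card F := by
    rw [sum_comm, sum_congr rfl (g := fun g : S => if g * g = 1 then (Fintype.card F : ℤ) else 0)]
    · rw [← sum_filter, sum_const, nsmul_eq_mul, ← Fintype.card_subtype, ← Nat.card_eq_fintype_card]
      exact congrArg (fun z : ℕ => (z : ℤ) * Fintype.card F) h.card_om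
    · intro g _
      split_ifs with hg
      · simp [hg, h.one, e0]
      · have h0 : om (g * g) ≠ 0 := fun e => hg (h.inj _ (h4 g) e)
        rw [← Equiv.sum_comp Multiplicative.toAdd]
        exact sum_sign (T := Multiplicative F) (fun t => ε (t.toAdd * om (g * g)))
          (fun x y => by rw [toAdd_mul, add_mul, e1]) (x := Multiplicative.ofAdd (om (g * g))⁻¹)
          (by rw [toAdd_ofAdd, inv_mul_cancel₀ h0, e2])
  rw [← add_sum_erase _ _ (mem_univ 0), sum_congr rfl fun t ht => g2 t (mem_erase.1 ht).1,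
    sum_const, card_erase_of_mem (mem_univ _), card_univ, nsmul_eq_mul] at g3
  simp only [γ, zero_mul, e0, sum_const, card_univ, nsmul_eq_mul, mul_one, one_mul] at g3
  have hc : ∀ g x : S, ⁅g, x⁆ * ⁅g, x⁆ = 1 := fun g x =>
    comm_mem_of_sq (X := ⊤) (N := Om h.cen) (fun t _ => h4 t) trivial trivial
  let b : S → S → ℤ := fun g x => ε (om ⁅g⁻¹, x⁆)
  have b1 : ∀ g g' x, b (g * g') x = b g x * b g' x := fun g g' x => by
    simp only [b]
    rw [← e1, ← h.add _ _ (hc _ _) (hc _ _), ← h.conj (hc g⁻¹ x) g'⁻¹]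
    congr 2
    simp only [commutatorElement_def]; group
  have b2 : ∀ g x x', b g (x * x') = b g x * b g x' := fun g x x' => by
    simp only [b]
    rw [← e1, ← h.add _ _ (hc _ _) (hc _ _), ← h.conj (hc g⁻¹ x') x]
    congr 2
    simp only [commutatorElement_def]; group
  have b3 : ∀ g x, ε (om (g * x * (g * x))) = ε (om (g * g)) * b g x * ε (om (x * x)) := fun g x => by
    simp only [b]
    rw [← e1, ← e1, ← h.add _ _ (h4 _) (hc _ _), ← h.add _ _ ((Om h.cen).mul_mem (h4 _) (hc _ _)) (h4 _)]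
    congr 2
    simp only [commutatorElement_def]; group
  let R : Subgroup S :=
    { carrier := {x | ∀ g, b g x = 1}
      one_mem' := fun g => by simp [b, h.one, e0]
      mul_mem' := fun hx hy g => by rw [b2, hx g, hy g, mul_one]
      inv_mem' := fun {x} hx g => by
        have := b2 g x x⁻¹
        rw [hx g, one_mul, mul_inv_cancel] at this
        rw [← this]; simp [b, h.one, e0] }
  have g4 : (∑ g : S, ε (om (g * g))) ^ 2 =
      Fintype.card S * ∑ x : R, ε (om ((x : S) * x)) := by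
    rw [pow_two, sum_mul]
    have : ∀ g : S, ε (om (g * g)) * ∑ x : S, ε (om (x * x)) = ∑ x : S, b g x * ε (om (x * x)) :=
      fun g => by
        rw [← Equiv.sum_comp (Equiv.mulLeft g), mul_sum]
        refine sum_congr rfl fun x _ => ?_
        rw [Equiv.coe_mulLeft, b3, ← mul_assoc, ← mul_assoc, e4, one_mul]
    simp only [this]
    rw [sum_comm, ← sum_subtype (univ.filter (· ∈ R)) (by simp) (fun x => ε (om (x * x))),
      sum_filter, mul_sum]
    refine sum_congr rfl fun x _ => ?_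
    rw [← sum_mul]
    split_ifs with hx
    · simp [show ∀ g, b g x = 1 from hx]
    · obtain ⟨g, hg⟩ := not_forall.1 hx
      rw [sum_sign (fun g => b g x) (fun g g' => b1 g g' x) (e3 _ hg), zero_mul, mul_zero]
  obtain ⟨m, hm⟩ := h.pg.exists_card_eq
  have := char2 (F := F)
  obtain ⟨⟨n, hn0⟩, -, hn⟩ := FiniteField.card F 2
  simp only [PNat.mk_coe] at hn
  have hr : Fintype.card F - 1 + 1 = 2 ^ n := by rw [Nat.sub_add_cancel Fintype.card_pos, hn]
  generalize Fintype.card F - 1 = r at g3 hr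
  rw [← Nat.card_eq_fintype_card, hm] at g3 g4
  rw [hm, hn, ← pow_mul, ← pow_mul]
  rw [hn] at g3
  generalize ∑ g : S, ε (om (g * g)) = c at g3 g4
  by_cases hR : ∀ x : R, ε (om ((x : S) * x)) = 1
  · obtain ⟨k, hk⟩ := (h.pg.to_subgroup R).exists_card_eq
    simp only [hR, sum_const, card_univ, nsmul_eq_mul, mul_one, ← Nat.card_eq_fintype_card, hk] at g4
    have h1 : c.natAbs ∣ 2 ^ (m + k) := Dvd.intro c.natAbs (by
      rw [← Int.natAbs_mul, ← pow_two, g4, ← Nat.cast_mul, Int.natAbs_natCast, pow_add])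
    obtain ⟨d, -, hd⟩ := (Nat.dvd_prime_pow Nat.prime_two).1 h1
    rcases Int.natAbs_eq c with e | e <;> rw [e, hd] at g3
    · have := two_pow_eq (a := m) (b := n + n) (d := d) hn0.ne' hr (by rw [pow_add]; exact_mod_cast g3)
      exact Or.inl (by congr 1; omega)
    · have := two_pow_eq (a := n + n) (b := m) (d := d) hn0.ne' hr (by
        rw [pow_add]; zify; push_cast at g3; linear_combination -g3)
      exact Or.inr (Or.inr (by congr 1; omega))
  · obtain ⟨x, hx⟩ := not_forall.1 hR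
    rw [sum_sign (fun x : R => ε (om ((x : S) * x))) (fun x y => by
      rw [Subgroup.coe_mul, b3, y.2 x, mul_one]) (e3 _ hx), mul_zero, pow_eq_zero_iff two_ne_zero] at g4
    rw [g4, mul_zero, add_zero] at g3
    exact Or.inr (Or.inl (by rw [mul_two, pow_add]; exact_mod_cast g3))

theorem coord [Finite S] (h : Hyp κ om l) {X Y : Subgroup S}
    (hX : ∀ x ∈ X, κ x ∈ X) (hY : ∀ x ∈ Y, κ x ∈ Y) (hs : ∀ x ∈ X, x * x ∈ Y) {g : S} (hg : g ∈ X)
    (hg' : g ∉ Y) : ∃ (π : S → F) (m : F), Gen m ∧ EH κ X π m ∧ (∀ y ∈ Y, π y = 0) ∧ π g ≠ 0 :=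
  exists_coord h.pr h.per h.fpf hX hY hs hg hg'

end Hyp

/-- commutator maps into a central section are biadditive -/
theorem comm_mul_left (x x' y : S) : ⁅x * x', y⁆ = x * ⁅x', y⁆ * x⁻¹ * ⁅x, y⁆ := by
  simp only [commutatorElement_def]; group

theorem comm_mul_right (x y y' : S) : ⁅x, y * y'⁆ = ⁅x, y⁆ * (y * ⁅x, y'⁆ * y⁻¹) := by
  simp only [commutatorElement_def]; group

theorem mul_sq (g x : S) : g * x * (g * x) = g * g * ⁅g⁻¹, x⁆ * (x * x) := by
  simp only [commutatorElement_def]; group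

omit [Fintype F] in
theorem quad_eq {π Q : S → F} {m : F} (hm : Gen m) (h : EH κ ⊤ π m)
    (h1 : ∀ x, π x = 0 → Q x = 0) (h2 : ∀ x y, π x = π y → Q x = Q y)
    (h3 : ∀ x, Q (κ x) = l * Q x) {s t : Au F} (hst : s m * t m = l) :
    ∃ c, ∀ x, Q x = c * (s (π x) * t (π x)) := by
  obtain ⟨g, -, hg⟩ := h.surj 1
  refine ⟨Q g, fun x => ?_⟩
  by_cases hx : π x = 0
  · simp [hx, h1 x hx]
  obtain ⟨i, hi⟩ := hm.gen _ hx
  rw [h2 x ((κ ^ i) g) (by rw [eqv_pow h.inv h.eqv i trivial, hg, mul_one, hi]),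
    eqv_pow (X := ⊤) h.inv (fun x _ => h3 x) i trivial, hi, map_pow, map_pow, ← mul_pow, hst, mul_comm]

/-- the twisted product used to split the extension -/
def Tw (a b : S → F) := S × F

/-- group structure on the twisted product -/
@[reducible] def twGroup {a b : S → F} (ha : ∀ x y, a (x * y) = a x + a y)
    (hb : ∀ x y, b (x * y) = b x + b y) : Group (Tw a b) :=
  letI : Mul (Tw a b) := ⟨fun u v => (u.1 * v.1, u.2 + v.2 + b u.1 * a v.1)⟩
  letI : One (Tw a b) := ⟨(1, 0)⟩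
  letI : Inv (Tw a b) := ⟨fun u => (u.1⁻¹, u.2 + b u.1 * a u.1)⟩
  Group.ofLeftAxioms
    (fun u v w => Prod.ext (mul_assoc _ _ _) (by
      show u.2 + v.2 + b u.1 * a v.1 + w.2 + b (u.1 * v.1) * a w.1 =
        u.2 + (v.2 + w.2 + b v.1 * a w.1) + b u.1 * a (v.1 * w.1)
      rw [ha, hb]; ring))
    (fun u => Prod.ext (one_mul _) (by
      show 0 + u.2 + b 1 * a u.1 = u.2
      rw [add_one (X := ⊤) fun x _ y _ => hb x y]; ring))
    (fun u => Prod.ext (inv_mul_cancel _) (by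
      show u.2 + b u.1 * a u.1 + u.2 + b u.1⁻¹ * a u.1 = 0
      rw [add_inv (X := ⊤) (fun x _ y _ => hb x y) trivial]
      linear_combination aa u.2 + aa (b u.1 * a u.1)))

omit [Fintype F] in
theorem exists_psi (hc : ∀ t : S, t * t = 1 → ∀ s : S, s * t = t * s) {a b w : S → F}
    (ha : ∀ x y, a (x * y) = a x + a y) (hb : ∀ x y, b (x * y) = b x + b y)
    (ha0 : ∀ t, t * t = 1 → a t = 0)
    (hw : ∀ t u, t * t = 1 → u * u = 1 → w (t * u) = w t + w u) (h4 : ∀ x : S, x * x * (x * x) = 1)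
    (hq : ∀ x, w (x * x) = b x * a x) : ∃ ψ : S → F,
    (∀ x y, ψ (x * y) = ψ x + ψ y + b x * a y) ∧ ∀ t, t * t = 1 → ψ t = w t := by
  let _ := twGroup ha hb
  have w1 : w 1 = 0 := add_one (X := Om hc) fun x hx y hy => hw x y hx hy
  have a1 : a 1 = 0 := ha0 1 (one_mul 1)
  have b1 : b 1 = 0 := add_one (X := ⊤) fun x _ y _ => hb x y
  let N : Subgroup (Tw a b) :=
    { carrier := {u | u.1 * u.1 = 1 ∧ w u.1 = u.2}
      one_mem' := ⟨one_mul 1, w1⟩
      mul_mem' := fun {u v} hu hv => ⟨(Om hc).mul_mem hu.1 hv.1, by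
        show w (u.1 * v.1) = u.2 + v.2 + b u.1 * a v.1
        rw [hw _ _ hu.1 hv.1, ha0 _ hv.1, hu.2, hv.2]; ring⟩
      inv_mem' := fun {u} hu => ⟨(Om hc).inv_mem hu.1, by
        show w u.1⁻¹ = u.2 + b u.1 * a u.1
        rw [ha0 _ hu.1, inv_eq_of_mul_eq_one_right hu.1, hu.2]; ring⟩ }
  have m1 : ∀ (x y : S) (u v : F), @HMul.hMul (Tw a b) (Tw a b) (Tw a b) _ (x, u) (y, v) =
      (x * y, u + v + b x * a y) := fun _ _ _ _ => rfl
  obtain ⟨f, f1, f2, f3⟩ := exists_retr N (fun u => ⟨h4 u.1, by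
      show w (u.1 * u.1) = u.2 + u.2 + b u.1 * a u.1
      rw [hq, aa, zero_add]⟩) (W := F) (fun v => (1, v)) (fun u v => by
      rw [m1, b1, zero_mul, add_zero, one_mul]
      exact (inv_mul_cancel (G := Tw a b) (1, u + v)).symm ▸ N.one_mem)
    (fun v hv => hv.2.symm.trans w1)
  refine ⟨fun x => f (x, 0), fun x y => ?_, fun t ht => ?_⟩
  · have := f1 (x * y, 0) (1, b x * a y)
    rw [f3, m1, a1] at this
    simp only [mul_zero, add_zero, zero_add, mul_one] at this
    have h1 := f1 (x, 0) (y, 0)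
    rw [m1, add_zero, zero_add, this] at h1
    linear_combination h1 - aa (b x * a y)
  · have := f1 (t, w t) (1, w t)
    rw [f3, m1, a1, aa, f2 (t, w t) ⟨ht, rfl⟩] at this
    simpa using this

/-- the conclusion for the groups of type `A` -/
def TypeA (F : Type*) [Field F] {S : Type*} [Group S] (κ : MulAut S) : Prop :=
  ∃ (θ : F ≃+* F) (μ : F) (π ψ : S → F), θ ≠ RingEquiv.refl F ∧ μ ≠ 0 ∧ μ ≠ 1 ∧
    (∀ x y, π (x * y) = π x + π y) ∧ (∀ x y, ψ (x * y) = ψ x + ψ y + θ (π x) * π y) ∧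
    (∀ x, π (κ x) = μ * π x) ∧ (∀ x, ψ (κ x) = μ * θ μ * ψ x) ∧
    (∀ x, π x = 0 → ψ x = 0 → x = 1) ∧ ∀ a b, ∃ x, π x = a ∧ ψ x = b

theorem Hyp.typeA [Finite S] (h : Hyp κ om l) (h4 : ∀ x : S, x * x * (x * x) = 1)
    {x0 y0 : S} (hn : x0 * y0 ≠ y0 * x0) (hS : Nat.card S = Fintype.card F ^ 2) : TypeA F κ := by
  obtain ⟨π, m, hm, hπ, hπ0, -⟩ := h.coord (X := ⊤) (Y := Om h.cen) (fun _ _ => trivial)
    (om_inv _) (fun x _ => h4 x) (g := y0) trivial fun e => hn (h.cen _ e _)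
  have hk : Om h.cen = hπ.ker := eq_of_le_of_card_ge (fun x hx => ⟨trivial, hπ0 x hx⟩) (by
    have := hπ.card
    rw [card_top, hS, pow_two] at this
    rw [h.card_om, ← Nat.eq_of_mul_eq_mul_left Fintype.card_pos this])
  have hk' : ∀ x, π x = 0 → x * x = 1 := fun x hx => (hk.ge ⟨trivial, hx⟩ : x ∈ Om h.cen)
  have hc : ∀ g x : S, ⁅g, x⁆ * ⁅g, x⁆ = 1 := fun g x =>
    comm_mem_of_sq (X := ⊤) (N := Om h.cen) (fun t _ => h4 t) trivial trivial
  obtain ⟨B, hB, hB'⟩ := hπ.desc hπ (l := l) (fun x y => om ⁅x, y⁆)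
    (fun x _ x' _ y _ => by rw [comm_mul_left, h.conj (hc _ _), h.add _ _ (hc _ _) (hc _ _), add_comm])
    (fun x _ y _ y' _ => by rw [comm_mul_right, h.conj (hc _ _), h.add _ _ (hc _ _) (hc _ _)])
    (fun x _ y _ e => by
      rw [commutatorElement_eq_one_iff_mul_comm.2 (h.cen x (hk' x e) y).symm, h.one])
    (fun x _ y _ e => by rw [commutatorElement_eq_one_iff_mul_comm.2 (h.cen y (hk' y e) x), h.one])
    (fun x _ y _ => by rw [← map_commutatorElement, h.eqv _ (hc _ _)])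
  obtain ⟨s, t, hst, e⟩ := hB.alt (x := π x0) (y := π y0) (fun a => by
    obtain ⟨x, -, rfl⟩ := hπ.surj a
    rw [← hB' x trivial x trivial, commutatorElement_self, h.one]) (by
    rw [← hB' _ trivial _ trivial]
    exact fun e => hn (commutatorElement_eq_one_iff_mul_comm.1 (h.inj _ (hc _ _) e)))
  obtain ⟨c, hc⟩ := quad_eq (Q := fun x => om (x * x)) hm hπ
    (fun x e => by simp only [hk' x e, h.one]) (fun x y e => by
      have h1 := hk' _ (hπ.div_mem trivial trivial e).2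
      have : x * x = y * y := by
        rw [← inv_mul_cancel_right x y]
        generalize x * y⁻¹ = z at h1
        rw [← mul_assoc, h.cen z h1 (z * y), ← mul_assoc, h1, one_mul]
      simp only [this])
    (fun x => by simp only [← map_mul κ, h.eqv _ (h4 x)]) e
  have hc0 : c ≠ 0 := fun e => hn (h.cen _ (h.inj _ (h4 y0) (by rw [hc, e, zero_mul])) _)
  have ha : ∀ u : Au F, ∀ x y, u (π (x * y)) = u (π x) + u (π y) := fun u x y => by
    rw [hπ.add x trivial y trivial, map_add]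
  obtain ⟨ψ, p1, p2⟩ := exists_psi h.cen (w := fun x => c⁻¹ * om x) (a := fun x => s (π x))
    (b := fun x => t (π x)) (ha s) (ha t)
    (fun x hx => by rw [hπ0 x hx, map_zero]) (fun x y hx hy => by rw [h.add x y hx hy, mul_add]) h4
    (fun x => by rw [hc, inv_mul_cancel_left₀ hc0, mul_comm])
  have hr : ((Fintype.card F - 1 : ℕ) : F) = 1 := by
    rw [Nat.cast_sub Fintype.card_pos, FiniteField.cast_card_eq_zero]
    linear_combination -aa (1 : F)
  have hl := h.gen.ne0
  have q1 : ∀ x y, avg κ l⁻¹ ψ (x * y) = avg κ l⁻¹ ψ x + avg κ l⁻¹ ψ y + t (π x) * s (π y) :=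
    fun x y => by
      rw [← one_mul (t _ * _), ← hr, ← nsmul_eq_mul, ← card_range (Fintype.card F - 1), ← sum_const]
      simp only [avg, ← sum_add_distrib, card_range]
      refine sum_congr rfl fun i _ => ?_
      rw [map_mul, p1, eqv_pow hπ.inv hπ.eqv i trivial, eqv_pow hπ.inv hπ.eqv i trivial, map_mul,
        map_mul, map_pow, map_pow]
      have : l⁻¹ ^ i * (t m ^ i * s m ^ i) = 1 := by
        rw [← mul_pow, ← mul_pow, mul_comm (t m), e, inv_mul_cancel₀ hl, one_pow]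
      linear_combination (t (π x) * s (π y)) * this
  have q2 : ∀ x, x * x = 1 → avg κ l⁻¹ ψ x = c⁻¹ * om x := fun x hx => by
    rw [← one_mul (c⁻¹ * _), ← hr, ← nsmul_eq_mul, ← card_range (Fintype.card F - 1), ← sum_const]
    simp only [avg, card_range]
    refine sum_congr rfl fun i _ => ?_
    rw [p2 _ (inv_pow_mem (om_inv h.cen) i x hx), eqv_pow h.eh.inv h.eh.eqv i hx]
    have : l⁻¹ ^ i * l ^ i = 1 := by rw [← mul_pow, inv_mul_cancel₀ hl, one_pow]
    linear_combination (c⁻¹ * om x) * this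
  refine ⟨(s.symm.trans t).toRingEquiv, s m, fun x => s (π x), avg κ l⁻¹ ψ, fun e => hst ?_,
    (hm.map s).ne0, (hm.map s).ne1, ha s, fun x y => by simpa using q1 x y,
    fun x => by simp only [hπ.eqv x trivial, map_mul], fun x => ?_, fun x h1 h2 => ?_, fun a b => ?_⟩
  · ext x
    simpa using (DFunLike.congr_fun e (s x)).symm
  · rw [avg_eqv h.per (inv_ne_zero hl), inv_inv, ← e]; simp
  · have h3 := hk' x (by simpa using h1)
    rw [q2 x h3] at h2
    exact h.inj x h3 ((mul_eq_zero.1 h2).resolve_left (inv_ne_zero hc0))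
  · obtain ⟨x, -, hx⟩ := hπ.surj (s.symm a)
    obtain ⟨z, hz, hz'⟩ := h.surj (c * (b - avg κ l⁻¹ ψ x))
    refine ⟨x * z, by simp [hπ.add x trivial z trivial, hπ0 z hz, hx], ?_⟩
    rw [q1, q2 z hz, hz', hπ0 z hz, inv_mul_cancel_left₀ hc0]
    simp

end Cfsg.Agent.H8.EC
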