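import Cfsg.Agent.H8.EC3

/-! Suzuki `2`-groups: abelian invariant subgroups and their covers. -/

set_option autoImplicit false

namespace Cfsg.Agent.H8.EC

open Finset Subgroup
open scoped commutatorElement

variable {F : Type*} [Field F] [Fintype F] [Algebra (ZMod 2) F]
variable {S : Type*} [Group S] {κ : MulAut S} {om : S → F} {l : F}

/-- elements of order dividing `2 ^ i` -/
def Lv (i : ℕ) (x : S) : Prop := x ^ 2 ^ i = 1

/-- coordinate of the last power -/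
def sg (om : S → F) (i : ℕ) (x : S) : F := om (x ^ 2 ^ i)

theorem sq_pow (i : ℕ) (x : S) : (x * x) ^ 2 ^ i = x ^ 2 ^ (i + 1) := by
  rw [← pow_two, ← pow_mul, pow_succ']

theorem lv_sq {i : ℕ} {x : S} : Lv i (x * x) ↔ Lv (i + 1) x := by rw [Lv, Lv, sq_pow]

omit [Field F] [Fintype F] [Algebra (ZMod 2) F] in
theorem sg_sq (i : ℕ) (x : S) : sg om i (x * x) = sg om (i + 1) x := by rw [sg, sg, sq_pow]

theorem Lv.sq {i : ℕ} {x : S} (h : Lv (i + 1) x) : x ^ 2 ^ i * x ^ 2 ^ i = 1 := by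
  rw [← pow_add, ← two_mul, ← pow_succ']; exact h

theorem Lv.inv {i : ℕ} {x : S} (h : Lv i x) : Lv i x⁻¹ := by rw [Lv, inv_pow, h, inv_one]

theorem Lv.mono {i j : ℕ} {x : S} (h : Lv i x) (e : i ≤ j) : Lv j x := by
  obtain ⟨k, rfl⟩ := Nat.exists_eq_add_of_le e
  rw [Lv, pow_add, pow_mul, h, one_pow]

theorem Lv.mul {i : ℕ} {x y : S} (hc : x * y = y * x) (h : Lv i x) (h' : Lv i y) : Lv i (x * y) := by
  rw [Lv, Commute.mul_pow hc, h, h', one_mul]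

theorem Lv.conj {i : ℕ} {x : S} (h : Lv i x) (g : S) : Lv i (g * x * g⁻¹) := by
  rw [Lv, conj_pow, h, mul_one, mul_inv_cancel]

theorem Lv.map {i : ℕ} {x : S} (h : Lv i x) : Lv i (κ x) := by rw [Lv, ← map_pow, h, map_one]

theorem lv_zero {x : S} : Lv 0 x ↔ x = 1 := by simp [Lv]

theorem lv_one {x : S} : Lv 1 x ↔ x * x = 1 := by rw [← lv_sq, lv_zero]

theorem lv_two {x : S} : Lv 2 x ↔ x * x * (x * x) = 1 := by rw [← lv_sq, lv_one]

/-- an abelian normal invariant subgroup -/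
structure Ab (κ : MulAut S) (A : Subgroup S) : Prop where
  comm : ∀ a ∈ A, ∀ b ∈ A, a * b = b * a
  nm : A.Normal
  inv : ∀ a ∈ A, κ a ∈ A

/-- the layer of an abelian subgroup -/
def Ab.lay {A : Subgroup S} (h : Ab κ A) (i : ℕ) : Subgroup S where
  carrier := {a | a ∈ A ∧ Lv i a}
  one_mem' := ⟨A.one_mem, one_pow _⟩
  mul_mem' := fun ha hb => ⟨mul_mem ha.1 hb.1, ha.2.mul (h.comm _ ha.1 _ hb.1) hb.2⟩
  inv_mem' := fun ha => ⟨inv_mem ha.1, ha.2.inv⟩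

theorem Ab.comm_sq {A : Subgroup S} (h : Ab κ A) {b : S} (hb : b ∈ A) (g : S) :
    ⁅g, b * b⁆ = ⁅g, b⁆ * ⁅g, b⁆ := by
  rw [comm_mul_right, h.comm b hb ⁅g, b⁆ (mul_mem (h.nm.conj_mem b hb g) (inv_mem hb)),
    mul_inv_cancel_right]

namespace Hyp

omit [Algebra (ZMod 2) F] in
theorem sg_add (h : Hyp κ om l) {i : ℕ} {x y : S} (hc : x * y = y * x) (hx : Lv (i + 1) x)
    (hy : Lv (i + 1) y) : sg om i (x * y) = sg om i x + sg om i y := by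
  rw [sg, Commute.mul_pow hc, h.add _ _ hx.sq hy.sq, sg, sg]

omit [Algebra (ZMod 2) F] in
theorem lv_of_sg (h : Hyp κ om l) {i : ℕ} {x : S} (hx : Lv (i + 1) x) (e : sg om i x = 0) :
    Lv i x := h.inj _ hx.sq e

omit [Algebra (ZMod 2) F] in
theorem sg_of_lv (h : Hyp κ om l) {i : ℕ} {x : S} (hx : Lv i x) : sg om i x = 0 := by
  rw [sg, hx, h.one]

omit [Algebra (ZMod 2) F] in
theorem sg_conj (h : Hyp κ om l) {i : ℕ} {x : S} (hx : Lv (i + 1) x) (g : S) :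
    sg om i (g * x * g⁻¹) = sg om i x := by rw [sg, conj_pow, h.conj hx.sq, sg]

omit [Algebra (ZMod 2) F] in
theorem sg_eqv (h : Hyp κ om l) {i : ℕ} {x : S} (hx : Lv (i + 1) x) :
    sg om i (κ x) = l * sg om i x := by rw [sg, ← map_pow, h.eqv _ hx.sq, sg]

variable {A : Subgroup S}

omit [Algebra (ZMod 2) F] in
theorem lv_r (h : Hyp κ om l) (hA : Ab κ A) {i : ℕ} {a : S} (ha : a ∈ A) (hx : Lv (i + 1) a)
    (g : S) : Lv i ⁅g, a⁆ := by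
  rw [Lv, commutatorElement_def, Commute.mul_pow (hA.comm _ (hA.nm.conj_mem a ha g) _ (inv_mem ha)),
    conj_pow, h.conj hx.sq, inv_pow, mul_inv_cancel]

omit [Algebra (ZMod 2) F] in
theorem lv_l (h : Hyp κ om l) (hA : Ab κ A) {i : ℕ} {a : S} (ha : a ∈ A) (hx : Lv (i + 1) a)
    (g : S) : Lv i ⁅a, g⁆ := commutatorElement_inv g a ▸ (h.lv_r hA ha hx g).inv

omit [Algebra (ZMod 2) F] in
theorem eh_lay (h : Hyp κ om l) (hA : Ab κ A) {i m : ℕ} (e : i ≤ m) {a : S} (ha : a ∈ A)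
    (h1 : Lv (m + 1) a) (h2 : ¬ Lv m a) : EH κ (hA.lay (i + 1)) (sg om i) l := by
  obtain ⟨k, rfl⟩ := Nat.exists_eq_add_of_le' e
  have h3 : Lv (i + 1) (a ^ 2 ^ k) := by rw [Lv, ← pow_mul, ← pow_add]; exact h1
  refine EH.of_ne h.gen (fun x hx => ⟨hA.inv x hx.1, hx.2.map⟩)
    (fun x hx y hy => h.sg_add (hA.comm _ hx.1 _ hy.1) hx.2 hy.2) (fun x hx => h.sg_eqv hx.2)
    (g := a ^ 2 ^ k) ⟨pow_mem ha _, h3⟩ fun e => h2 ?_
  have := h.lv_of_sg h3 e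
  rwa [Lv, ← pow_mul, ← pow_add] at this

theorem sqrt (h : Hyp κ om l) (hA : Ab κ A) {m : ℕ} {a0 : S} (ha : a0 ∈ A)
    (h1 : Lv (m + 1) a0) (h2 : ¬ Lv m a0) (i : ℕ) (e : i ≤ m) :
    ∀ a ∈ A, Lv i a → ∃ b ∈ A, b * b = a := by
  induction i with
  | zero => exact fun a _ h => ⟨1, A.one_mem, by rw [lv_zero.1 h, one_mul]⟩
  | succ i ih =>
    intro a haA hl
    obtain ⟨b, hb, e1⟩ := (h.eh_lay hA e ha h1 h2).surj (sg om i a)
    have h3 := (h.eh_lay hA (Nat.le_of_succ_le e) ha h1 h2).div_mem (x := a) (y := b * b) ⟨haA, hl⟩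
      ⟨mul_mem hb.1 hb.1, lv_sq.2 hb.2⟩ (by rw [sg_sq, e1])
    obtain ⟨c, hc, e2⟩ := ih (Nat.le_of_succ_le e) _ h3.1.1 (h.lv_of_sg h3.1.2 h3.2)
    refine ⟨c * b, mul_mem hc hb.1, ?_⟩
    rw [mul_assoc, ← mul_assoc b, hA.comm b hb.1 c hc, mul_assoc c b b, ← mul_assoc, e2,
      inv_mul_cancel_right]

omit [Algebra (ZMod 2) F] in
theorem sg_left (h : Hyp κ om l) (hA : Ab κ A) {i : ℕ} {x x' y : S}
    (h1 : ⁅x, y⁆ ∈ hA.lay (i + 1)) (h2 : ⁅x', y⁆ ∈ hA.lay (i + 1)) :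
    sg om i ⁅x * x', y⁆ = sg om i ⁅x, y⁆ + sg om i ⁅x', y⁆ := by
  rw [comm_mul_left, h.sg_add (hA.comm _ (hA.nm.conj_mem _ h2.1 x) _ h1.1) (h2.2.conj x) h1.2,
    h.sg_conj h2.2, add_comm]

omit [Algebra (ZMod 2) F] in
theorem sg_right (h : Hyp κ om l) (hA : Ab κ A) {i : ℕ} {x y y' : S}
    (h1 : ⁅x, y⁆ ∈ hA.lay (i + 1)) (h2 : ⁅x, y'⁆ ∈ hA.lay (i + 1)) :
    sg om i ⁅x, y * y'⁆ = sg om i ⁅x, y⁆ + sg om i ⁅x, y'⁆ := by
  rw [comm_mul_right, h.sg_add (hA.comm _ h1.1 _ (hA.nm.conj_mem _ h2.1 y)) h1.2 (h2.2.conj y),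
    h.sg_conj h2.2]

theorem desc_comm (h : Hyp κ om l) (hA : Ab κ A) {X Y : Subgroup S} {π π' : S → F} {m m' : F}
    (hX : EH κ X π m) (hY : EH κ Y π' m') (i : ℕ) (hc : ∀ x ∈ X, ∀ y ∈ Y, ⁅x, y⁆ ∈ hA.lay (i + 1))
    (b3 : ∀ x ∈ X, ∀ y ∈ Y, π x = 0 → sg om i ⁅x, y⁆ = 0)
    (b4 : ∀ x ∈ X, ∀ y ∈ Y, π' y = 0 → sg om i ⁅x, y⁆ = 0) :
    ∃ B, Bi B m m' l ∧ ∀ x ∈ X, ∀ y ∈ Y, sg om i ⁅x, y⁆ = B (π x) (π' y) :=
  hX.desc hY (fun x y => sg om i ⁅x, y⁆)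
    (fun x hx x' hx' y hy => h.sg_left hA (hc x hx y hy) (hc x' hx' y hy))
    (fun x hx y hy y' hy' => h.sg_right hA (hc x hx y hy) (hc x hx y' hy')) b3 b4
    (fun x hx y hy => by rw [← map_commutatorElement, h.sg_eqv (hc x hx y hy).2])

omit [Algebra (ZMod 2) F] in
theorem exists_lv [Finite S] (h : Hyp κ om l) : ∃ N, ∀ x : S, Lv N x := by
  obtain ⟨k, hk⟩ := h.pg.exists_card_eq
  exact ⟨k, fun x => by rw [Lv, ← hk, pow_card_eq_one']⟩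

omit [Algebra (ZMod 2) F] in
/-- the basic identity for the commutator with a square -/
theorem sg_comm_sq (h : Hyp κ om l) (hA : Ab κ A) {i : ℕ} {g x : S} (hc : ⁅x, g⁆ ∈ hA.lay (i + 2)) :
    sg om i ⁅x, g * g⁆ = sg om i ⁅g, ⁅x, g⁆⁆ + sg om (i + 1) ⁅x, g⁆ := by
  have h1 : ⁅g, ⁅x, g⁆⁆ ∈ A := mul_mem (hA.nm.conj_mem _ hc.1 g) (inv_mem hc.1)
  rw [← sg_sq, ← h.sg_add (hA.comm _ h1 _ (mul_mem hc.1 hc.1)) (h.lv_r hA hc.1 hc.2 g)
    (lv_sq.2 hc.2), comm_mul_right, hA.comm _ hc.1 _ (hA.nm.conj_mem _ hc.1 g)]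
  congr 1
  rw [commutatorElement_def g]; group

theorem caseAb [Finite S] (h : Hyp κ om l) {π : S → F} {m : F} (hm : Gen m) (hπ : EH κ ⊤ π m)
    (hc : ∀ a ∈ hπ.ker, ∀ b ∈ hπ.ker, a * b = b * a) {x0 y0 : S} (hn : x0 * y0 ≠ y0 * x0) {x : S}
    (hx : ¬ Lv 2 x) : False := by
  classical
  have pa : ∀ x y, π (x * y) = π x + π y := fun x y => hπ.add x trivial y trivial
  have pi : ∀ x, π x⁻¹ = π x := fun x => add_inv hπ.add trivial
  have hA : Ab κ hπ.ker := ⟨hc, ⟨fun a ha g => ⟨trivial, by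
    rw [pa, pa, pi, ha.2, add_zero, aa]⟩⟩, hπ.ker_inv⟩
  have hs : ∀ g, g * g ∈ hπ.ker := fun g => ⟨trivial, hπ.sq trivial⟩
  have hcm : ∀ g g', ⁅g, g'⁆ ∈ hπ.ker := fun g g' =>
    comm_mem_of_sq (X := ⊤) (fun t _ => hs t) trivial trivial
  obtain ⟨k, hk, a0, ha0, hk'⟩ : ∃ k, (∀ a ∈ hπ.ker, Lv (k + 2) a) ∧ ∃ a ∈ hπ.ker, ¬ Lv (k + 1) a := by
    have hN : ∃ N, ∀ a ∈ hπ.ker, Lv N a := h.exists_lv.imp fun N hN a _ => hN a
    have h1 := Nat.find_spec hN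
    obtain ⟨k, e⟩ := Nat.exists_eq_add_of_le' (show 2 ≤ Nat.find hN by
      by_contra e
      exact hx (lv_sq.1 ((h1 _ (hs x)).mono (by omega))))
    have h2 := Nat.find_min hN (m := k + 1) (by omega)
    push Not at h2
    exact ⟨k, e ▸ h1, h2⟩
  have hL : ∀ a ∈ hπ.ker, a ∈ hA.lay (k + 2) := fun a ha => ⟨ha, hk a ha⟩
  have hρ := h.eh_lay hA le_rfl ha0 (hk _ ha0) hk'
  have hq := h.sqrt hA ha0 (hk _ ha0) hk'
  obtain ⟨E, hE, hE'⟩ := h.desc_comm hA hπ hρ k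
    (fun g _ a ha => ⟨hcm _ _, h.lv_r hA ha.1 ha.2 g⟩)
    (fun g _ a ha e => by
      rw [commutatorElement_eq_one_iff_mul_comm.2 (hc _ ⟨trivial, e⟩ _ ha.1), sg, one_pow, h.one])
    (fun g _ a ha e => h.sg_of_lv (h.lv_r hA ha.1 (h.lv_of_sg ha.2 e) g))
  obtain ⟨B, hB, hB'⟩ := h.desc_comm hA hπ hπ (k + 1) (fun g _ g' _ => hL _ (hcm _ _))
    (fun a _ g _ e => h.sg_of_lv (h.lv_l hA ⟨trivial, e⟩ (hk _ ⟨trivial, e⟩) g))
    (fun g _ a _ e => h.sg_of_lv (h.lv_r hA ⟨trivial, e⟩ (hk _ ⟨trivial, e⟩) g))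
  let Q : S → F := fun g => sg om (k + 1) (g * g)
  have q1 : ∀ g g', Q (g * g') = Q g + B (π g) (π g') + Q g' := fun g g' => by
    simp only [Q]
    rw [mul_sq, hρ.add _ (mul_mem (hL _ (hs _)) (hL _ (hcm _ _))) _ (hL _ (hs _)),
      hρ.add _ (hL _ (hs _)) _ (hL _ (hcm _ _)), hB' _ trivial _ trivial, pi]
  have q2 : ∀ g, π g = 0 → Q g = 0 := fun g e => h.sg_of_lv (lv_sq.2 (hk _ ⟨trivial, e⟩))
  have q3 : ∀ g g', π g = π g' → Q g = Q g' := fun g g' e => by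
    have h1 := (hπ.div_mem trivial trivial e).2
    have := q1 (g * g'⁻¹) g'
    rwa [inv_mul_cancel_right, q2 _ h1, h1, hB.zero_left, zero_add, zero_add] at this
  have q4 : ∀ g, Q (κ g) = l * Q g := fun g => by
    simp only [Q]; rw [← map_mul, h.sg_eqv (hk _ (hs g))]
  have alt : ∀ (i : ℕ) (C : F → F → F), (∀ x ∈ (⊤ : Subgroup S), ∀ y ∈ (⊤ : Subgroup S),
      sg om i ⁅x, y⁆ = C (π x) (π y)) → ∀ a, C a a = 0 := fun i C hC a => by
    obtain ⟨x, -, rfl⟩ := hπ.surj a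
    rw [← hC x trivial x trivial, commutatorElement_self, sg, one_pow, h.one]
  by_cases hB0 : ∃ a b, B a b ≠ 0
  · obtain ⟨a, b, hab⟩ := hB0
    obtain ⟨s, t, hst, e⟩ := hB.alt (alt _ B hB') hab
    obtain ⟨c, hc⟩ := quad_eq hm hπ q2 q3 q4 e
    have h1 : ∀ x y, B y x = c * (s x * t y + t x * s y) := fun x y => by
      obtain ⟨g, -, rfl⟩ := hπ.surj x
      obtain ⟨g', -, rfl⟩ := hπ.surj y
      have := q1 g' g
      rw [hc, hc, hc, pa, map_add, map_add] at this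
      linear_combination -this
    refine caseA hE.swap hm (c := c) (fun e => hab (by rw [h1, e, zero_mul])) hst fun x y => ?_
    rw [← h1]
    obtain ⟨g, -, rfl⟩ := hπ.surj x
    obtain ⟨g', -, rfl⟩ := hπ.surj y
    have := h.sg_comm_sq hA (hL _ (hcm g' g))
    rwa [hE' _ trivial _ (hL _ (hs g)), hE' _ trivial _ (hL _ (hcm g' g)), hB' _ trivial _ trivial,
      show sg om (k + 1) (g * g) = _ from hc g] at this
  push Not at hB0
  simp only [hB0, add_zero] at q1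
  by_cases hQ0 : ∃ g, Q g ≠ 0
  · obtain ⟨g0, hg0⟩ := hQ0
    have hQ : EH κ ⊤ Q l := EH.of_ne h.gen (fun _ _ => trivial) (fun x _ y _ => q1 x y)
      (fun x _ => q4 x) trivial hg0
    choose sec _ hsec using hπ.surj
    obtain ⟨s0, hs0⟩ := add_wt (f := fun a => Q (sec a)) (m := m) (l := l)
      (fun a b => by rw [← q1]; exact q3 _ _ (by rw [pa, hsec, hsec, hsec]))
      (fun a => by rw [← q4]; exact q3 _ _ (by rw [hπ.eqv _ trivial, hsec, hsec]))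
      (x := π g0) (by rwa [q3 _ g0 (hsec _)])
    have hN : ∃ N, ∀ g g' : S, Lv N ⁅g, g'⁆ := h.exists_lv.imp fun N hN _ _ => hN _
    have h1 := Nat.find_spec hN
    obtain ⟨i, e⟩ := Nat.exists_eq_add_of_le' (show 1 ≤ Nat.find hN by
      by_contra e
      exact hn (commutatorElement_eq_one_iff_mul_comm.1 (lv_zero.1 ((h1 x0 y0).mono (by omega)))))
    have h2 := Nat.find_min hN (m := i) (by omega)
    push Not at h2
    obtain ⟨g1, g2, h2⟩ := h2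
    rw [e] at h1
    have h3 : ∀ g g' : S, ⁅g, g'⁆ ∈ hA.lay (i + 1) := fun g g' => ⟨hcm _ _, h1 _ _⟩
    have h4 : ∀ a, π a = 0 → ∃ b g : S, a = b * b * (g * g) := fun a ha => by
      obtain ⟨g, -, e⟩ := hQ.surj (sg om (k + 1) a)
      have h5 := hρ.div_mem (hL a ⟨trivial, ha⟩) (hL _ (hs g)) e.symm
      obtain ⟨b, -, hb⟩ := hq _ le_rfl _ h5.1.1 (h.lv_of_sg h5.1.2 h5.2)
      exact ⟨b, g, by rw [hb, inv_mul_cancel_right]⟩
    obtain ⟨C, hC, hC'⟩ := h.desc_comm hA hπ hπ i (fun g _ g' _ => h3 g g')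
      (fun a _ y _ e => by
        obtain ⟨b, g, rfl⟩ := h4 a e
        simp only [h.sg_left hA (h3 _ _) (h3 _ _), aa, add_zero])
      (fun y _ a _ e => by
        obtain ⟨b, g, rfl⟩ := h4 a e
        simp only [h.sg_right hA (h3 _ _) (h3 _ _), aa, add_zero])
    obtain ⟨s, t, hst, e⟩ := hC.alt (alt _ C hC') (x := π g1) (y := π g2) (by
      rw [← hC' _ trivial _ trivial]; exact fun e => h2 (h.lv_of_sg (h1 _ _) e))
    exact hst (hm.mul_eq' (e.trans hs0.symm))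
  push Not at hQ0
  have h1 : ∀ g : S, Lv (k + 1) (g * g) := fun g => h.lv_of_sg (hk _ (hs g)) (hQ0 g)
  have h2 : 1 ≤ k := by
    by_contra e
    exact hx (lv_sq.1 ((h1 x).mono (by omega)))
  have h3 := hE.swap.idem hm h.gen fun z y => by
    obtain ⟨g, -, rfl⟩ := hπ.surj y
    obtain ⟨a, ha, rfl⟩ := hρ.surj z
    have h4 := h.lv_r hA ha.1 ha.2 g
    obtain ⟨b, hb, e⟩ := hq _ le_rfl _ (hcm g a) h4
    have h5 : ⁅g * g, a⁆ = 1 := commutatorElement_eq_one_iff_mul_comm.2 (hc _ (hs g) _ ha.1)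
    have h6 : ⁅g, b⁆ * ⁅g, a⁆ * (⁅g, b⁆ * ⁅g, a⁆) = 1 := by
      rw [mul_assoc, ← mul_assoc ⁅g, a⁆, hc _ (hcm g a) _ (hcm g b), mul_assoc, ← mul_assoc,
        ← hA.comm_sq hb, e, ← h5, comm_mul_left, commutatorElement_def g ⁅g, a⁆]
      group
    have h7 := h.sg_of_lv ((lv_one.2 h6).mono h2)
    rw [h.sg_add (hc _ (hcm _ _) _ (hcm _ _)) (h.lv_r hA hb (hk _ hb) g) h4,
      hE' _ trivial _ (hL _ hb), ← sg_sq, e] at h7
    simp only [← hE' _ trivial _ ha]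
    exact eq_of_add h7
  have h4 : ∀ d i, i + d = k → ∀ g : S, ∀ b ∈ hπ.ker, Lv (i + 2) b → Lv i ⁅g, b⁆ := by
    intro d
    induction d with
    | zero =>
      rintro i rfl g b hb hl
      exact h.lv_of_sg (h.lv_r hA hb hl g) ((hE' _ trivial _ (hL _ hb)).trans (h3 _ _))
    | succ d ih =>
      intro i e g b hb hl
      obtain ⟨c, hc, rfl⟩ := hq (i + 2) (by omega) b hb hl
      rw [hA.comm_sq hc, lv_sq]
      exact ih (i + 1) (by omega) g c hc (lv_sq.1 hl)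
  have h5 : ∀ i ≤ k + 1, ∀ g, g ∉ hπ.ker → ¬ Lv i (g * g) := by
    intro i
    induction i with
    | zero => exact fun _ g hg e => hg (h.om_le hA.inv ha0
        (fun e => hk' (by rw [e]; exact one_pow _)) (lv_zero.1 e))
    | succ i ih =>
      intro e g hg hl
      obtain ⟨b, hb, e1⟩ := hq _ e _ (hs g) hl
      refine ih (by omega) (g * b⁻¹) (fun e => hg (by simpa using mul_mem e hb)) ?_
      rw [mul_sq, hc _ (hs g) _ (hcm _ _), ← e1, ← mul_inv_rev, mul_inv_cancel_right]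
      exact h4 (k - i) i (by omega) _ _ (inv_mem hb) (lv_sq.1 (e1 ▸ hl)).inv
  obtain ⟨g, -, hg⟩ := hπ.surj 1
  exact h5 _ le_rfl g (fun e => one_ne_zero (hg.symm.trans e.2)) (h1 g)

end Hyp

end Cfsg.Agent.H8.EC
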