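import Cfsg.Agent.H8.LiftH
import Cfsg.Agent.L0.Schur

/-! Splitting central extensions of filtered groups with operators. -/

set_option autoImplicit false
set_option linter.unusedSectionVars false

namespace Cfsg.Agent.H8

open scoped commutatorElement

variable {E C K : Type*} [Group E] [CommGroup C] [Field K] {f : E → E → C} {A A' B B' T : Subgroup E}
  {α β χ ψ : E → K} {a a' b b' h : E}

/-- A coordinate on a section `A / A'`, on which `T` acts by scalars. -/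
structure Crd (A A' T : Subgroup E) (α χ : E → K) : Prop where
  le : A' ≤ A
  add : ∀ a ∈ A, ∀ a' ∈ A, α (a * a') = α a + α a'
  zero : ∀ a ∈ A, α a = 0 ↔ a ∈ A'
  mem : ∀ h ∈ T, ∀ a ∈ A, h * a * h⁻¹ ∈ A
  conj : ∀ h ∈ T, ∀ a ∈ A, α (h * a * h⁻¹) = χ h * α a

theorem Crd.inv (c : Crd A A' T α χ) (ha : a ∈ A) : α a⁻¹ = -α a := by
  have := c.add a ha _ (inv_mem ha)
  rw [mul_inv_cancel, (c.zero 1 (one_mem _)).2 (one_mem _)] at this
  exact (neg_eq_of_add_eq_zero_right this.symm).symm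

theorem Crd.comm_mem (c : Crd A A' T α χ) (hh : h ∈ T) (ha : a ∈ A) : ⁅h, a⁆ ∈ A :=
  mul_mem (c.mem h hh a ha) (inv_mem ha)

theorem Crd.comm (c : Crd A A' T α χ) (hh : h ∈ T) (ha : a ∈ A) : α ⁅h, a⁆ = (χ h - 1) * α a := by
  rw [commutatorElement_def, c.add _ (c.mem h hh a ha) _ (inv_mem ha), c.conj h hh a ha, c.inv ha]; ring

theorem Crd.eq (c : Crd A A' T α χ) (ha : a ∈ A) (ha' : a' ∈ A) (e : α a = α a') : a⁻¹ * a' ∈ A' :=
  (c.zero _ (mul_mem (inv_mem ha) ha')).1 (by rw [c.add _ (inv_mem ha) _ ha', c.inv ha, e, neg_add_cancel])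

theorem Crd.surj [Finite K] (c : Crd A A' T α χ) (hh : h ∈ T) (h1 : χ h ≠ 1) (ha : a ∈ A) :
    ∃ a' ∈ A, α ⁅h, a'⁆ = α a := by
  have h2 : Set.MapsTo (fun t => (χ h - 1) * t) (α '' A) (α '' A) := by
    rintro _ ⟨a, ha, rfl⟩; exact ⟨_, c.comm_mem hh ha, c.comm hh ha⟩
  obtain ⟨_, ⟨a', ha', rfl⟩, e⟩ := ((Set.toFinite _).injOn_iff_bijOn_of_mapsTo h2).1
    (mul_right_injective₀ (sub_ne_zero.2 h1)).injOn |>.surjOn ⟨a, ha, rfl⟩
  exact ⟨a', ha', (c.comm hh ha').trans e⟩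

/-- An invariant biadditive pairing of two sections. -/
structure PairD (f : E → E → C) (A A' B B' T : Subgroup E) : Prop where
  addl : ∀ a ∈ A, ∀ a' ∈ A, ∀ b ∈ B, f (a * a') b = f a b * f a' b
  addr : ∀ a ∈ A, ∀ b ∈ B, ∀ b' ∈ B, f a (b * b') = f a b * f a b'
  zl : ∀ a ∈ A', ∀ b ∈ B, f a b = 1
  zr : ∀ a ∈ A, ∀ b ∈ B', f a b = 1
  inv : ∀ h ∈ T, ∀ a ∈ A, ∀ b ∈ B, f (h * a * h⁻¹) (h * b * h⁻¹) = f a b

namespace PairD

theorem symm (p : PairD f A A' B B' T) : PairD (fun b a => f a b) B B' A A' T :=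
  ⟨fun b hb b' hb' a ha => p.addr a ha b hb b' hb', fun b hb a ha a' ha' => p.addl a ha a' ha' b hb,
    fun b hb a ha => p.zr a ha b hb, fun b hb a ha => p.zl a ha b hb, fun h hh b hb a ha => p.inv h hh a ha b hb⟩

theorem congr (p : PairD f A A' B B' T) (c : Crd A A' T α χ) (ha : a ∈ A) (ha' : a' ∈ A) (e : α a = α a') (hb : b ∈ B) :
    f a b = f a' b := by
  have := p.addl a ha _ (mul_mem (inv_mem ha) ha') b hb
  rw [mul_inv_cancel_left, p.zl _ (c.eq ha ha' e) b hb, mul_one] at this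
  exact this.symm

theorem inv_left (p : PairD f A A' B B' T) (ha : a ∈ A) (hb : b ∈ B) : f a⁻¹ b = (f a b)⁻¹ := by
  have := p.addl a ha _ (inv_mem ha) b hb
  rw [mul_inv_cancel, p.zl 1 (one_mem _) b hb] at this
  exact eq_inv_of_mul_eq_one_right this.symm

theorem sep [Finite K] (p : PairD f A A' B B' T) (c : Crd A A' T α χ) (d : Crd B B' T β ψ) (hh : h ∈ T) (h1 : χ h ≠ 1)
    (h2 : ψ h = 1) (ha : a ∈ A) (hb : b ∈ B) : f a b = 1 := by
  obtain ⟨a', ha', e⟩ := c.surj hh h1 ha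
  rw [← p.congr c (c.comm_mem hh ha') ha e hb, commutatorElement_def, p.addl _ (c.mem h hh _ ha') _ (inv_mem ha') b hb,
    p.inv_left ha' hb, ← p.inv h hh a' ha' b hb, mul_inv_eq_one]
  exact p.symm.congr d hb (d.mem h hh b hb) (by rw [d.conj h hh b hb, h2, one_mul]) (c.mem h hh _ ha')

theorem scal (p : PairD f A A' B B' T) (c : Crd A A' T α χ) (d : Crd B B' T β ψ) (hK : ∃ s : Finset K, 4 < s.card)
    (hs : ∀ v ≠ 0, ∃ h ∈ T, χ h = v ∧ ψ h = v) (ha : a ∈ A) (hb : b ∈ B) : f a b = 1 := by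
  open Polynomial in
  obtain ⟨v, hv⟩ := exists_not_root hK (X * (X - Polynomial.C 1) * (X ^ 2 - X + 1) : K[X])
    (mul_ne_zero (mul_ne_zero X_ne_zero (X_sub_C_ne_zero 1)) (fun h => by
      have := congrArg (eval 0) h; simp at this)) (by compute_degree)
  simp only [Polynomial.eval_mul, Polynomial.eval_X, Polynomial.eval_sub, Polynomial.eval_pow, Polynomial.eval_C,
    mul_ne_zero_iff, Polynomial.eval_add, Polynomial.eval_one] at hv
  obtain ⟨⟨h2, h3⟩, h4⟩ := hv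
  obtain ⟨g, hg, g1, g2⟩ := hs v h2
  obtain ⟨k, hk, k1, k2⟩ := hs (1 - v) fun h => h3 (by linear_combination -h)
  obtain ⟨l, hl, l1, -⟩ := hs _ (inv_ne_zero h4)
  have hb' := d.mem g hg b hb
  have key : ∀ a ∈ A, f a (g * b * g⁻¹) * f (g * a * g⁻¹) b = f a b := fun a ha => by
    have ha' := c.mem g hg a ha
    have e := p.inv k hk a ha b hb
    rw [p.congr c (c.mem k hk a ha) (mul_mem ha (inv_mem ha')) (by
        rw [c.conj k hk a ha, c.add _ ha _ (inv_mem ha'), c.inv ha', c.conj g hg a ha, g1, k1]; ring) (d.mem k hk b hb),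
      p.symm.congr d (d.mem k hk b hb) (mul_mem hb (inv_mem hb')) (by
        rw [d.conj k hk b hb, d.add _ hb _ (inv_mem hb'), d.inv hb', d.conj g hg b hb, g2, k2]; ring)
        (mul_mem ha (inv_mem ha'))] at e
    simp only [p.addl _ ha _ (inv_mem ha') _ (mul_mem hb (inv_mem hb')), p.inv_left ha' (mul_mem hb (inv_mem hb')),
      p.addr _ ha _ hb _ (inv_mem hb'), p.addr _ ha' _ hb _ (inv_mem hb'), p.symm.inv_left hb' ha,
      p.symm.inv_left hb' ha', p.inv g hg a ha b hb] at e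
    rw [mul_assoc, mul_eq_left, mul_inv, inv_inv, ← mul_assoc, ← mul_inv, inv_mul_eq_one] at e
    exact e
  have h5 := c.mem l hl a ha
  have h6 := c.mem g hg _ h5
  have h7 := c.mem g hg _ h6
  have e := key _ h6
  rw [p.inv g hg _ h5 b hb] at e
  rw [p.congr c ha (mul_mem (mul_mem h5 h7) (inv_mem h6)) (by
    rw [c.add _ (mul_mem h5 h7) _ (inv_mem h6), c.add _ h5 _ h7, c.inv h6, c.conj g hg _ h6, c.conj g hg _ h5,
      c.conj l hl a ha, g1, l1]
    linear_combination (-α a) * mul_inv_cancel₀ h4) hb, p.addl _ (mul_mem h5 h7) _ (inv_mem h6) b hb, p.addl _ h5 _ h7 b hb, e, p.inv_left h6 hb,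
    mul_inv_cancel]

end PairD

/-- A central extension of a group with a central series whose factors have coordinates. -/
structure Filt (Z T : Subgroup E) (P : ℕ → Subgroup E) (n : ℕ) (co χ : ℕ → E → K) : Prop where
  cen : Z ≤ Subgroup.center E
  le : ∀ k, Z ≤ P k
  last : P n ≤ Z
  crd : ∀ k < n, Crd (P k) (P (k + 1)) T (co k) (χ k)
  comm : ∀ k, ∀ a ∈ P 0, ∀ b ∈ P k, ⁅a, b⁆ ∈ P (k + 1)
  tcomm : ∀ h ∈ T, ∀ h' ∈ T, ⁅h, h'⁆ ∈ Z

/-- An invariant complement to `Z` in the `k`-th term. -/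
structure FInv (Z T : Subgroup E) (P : ℕ → Subgroup E) (k : ℕ) (N : Subgroup E) : Prop where
  le : N ≤ P k
  disj : ∀ z ∈ N, z ∈ Z → z = 1
  sup : ∀ a ∈ P k, ∃ z ∈ Z, a * z⁻¹ ∈ N
  norm : ∀ h ∈ T, ∀ a ∈ N, h * a * h⁻¹ ∈ N
  comm : ∀ a ∈ P 0, ∀ b ∈ P k, ⁅a, b⁆ ∈ N

/-- The conditions under which a pair of layers has no exotic commutators. -/
def PairC (T : Subgroup E) (P : ℕ → Subgroup E) (co χ : ℕ → E → K) (j k : ℕ) (N : Subgroup E) : Prop :=
  (∃ h ∈ T, χ j h ≠ 1 ∧ χ k h = 1 ∨ χ j h = 1 ∧ χ k h ≠ 1) ∨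
  ((∃ s : Finset K, 4 < s.card) ∧ ∀ v ≠ 0, ∃ h ∈ T, χ j h = v ∧ χ k h = v) ∨
  ∀ a ∈ P j, ∀ b ∈ P k, ∃ a' ∈ P j, ∃ b' ∈ P k, co j a' = co j a ∧ co k b' = co k b ∧ ⁅a', b'⁆ ∈ N

variable {Z N N' : Subgroup E} {P : ℕ → Subgroup E} {n j k : ℕ} {co ch : ℕ → E → K}

theorem PairC.mono (h : PairC T P co ch j k N) (hN : N ≤ N') : PairC T P co ch j k N' :=
  h.imp id (Or.imp id fun h a ha b hb => let ⟨a', h1, b', h2, h3, h4, h5⟩ := h a ha b hb; ⟨a', h1, b', h2, h3, h4, hN h5⟩)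

namespace Filt

variable (F : Filt Z T P n co ch)
include F

theorem anti (hk : k ≤ n) (h : j ≤ k) : P k ≤ P j := by
  induction k, h using Nat.le_induction with
  | base => exact le_rfl
  | succ k _ ih => exact (F.crd k hk).le.trans (ih (by omega))

theorem commute (hz : a ∈ Z) (b : E) : Commute a b := (Subgroup.mem_center_iff.1 (F.cen hz) b).symm

theorem inv_last : FInv Z T P n ⊥ :=
  ⟨bot_le, fun _ h _ => h, fun a ha => ⟨a, F.last ha, by simp⟩, fun _ _ _ ha => by simpa using ha, fun a _ b hb => by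
    rw [Subgroup.mem_bot, commutatorElement_eq_one_iff_commute]; exact (F.commute (F.last hb) a).symm⟩

omit F in
theorem _root_.Cfsg.Agent.H8.FInv.conj (I : FInv Z T P k N) (ha : a ∈ P 0) (hb : b ∈ N) : a * b * a⁻¹ ∈ N := by
  simpa [commutatorElement_def] using mul_mem (I.comm a ha b (I.le hb)) hb

theorem exists_dl (I : FInv Z T P k N) : ∃ δ : E → Subgroup.center E, (∀ a ∈ P k, ∀ b ∈ P k, δ (a * b) = δ a * δ b) ∧
    (∀ a ∈ P k, δ a = 1 ↔ a ∈ N) ∧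
    ∀ g, (∀ b ∈ N, g * b * g⁻¹ ∈ N) → ∀ a ∈ P k, g * a * g⁻¹ ∈ P k → δ (g * a * g⁻¹) = δ a := by
  choose! δ h1 h2 using I.sup
  have key : ∀ a ∈ P k, ∀ z ∈ Z, a * z⁻¹ ∈ N → δ a = z := fun a ha z hz h => by
    have := I.disj _ (mul_mem (inv_mem (h2 a ha)) h) (by simpa [mul_assoc] using mul_mem (h1 a ha) (inv_mem hz))
    simpa [mul_assoc, mul_inv_eq_one] using this
  classical
  refine ⟨fun a => if h : a ∈ P k then ⟨δ a, F.cen (h1 a h)⟩ else 1, fun a ha b hb => ?_, fun a ha => ?_,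
    fun g hg a ha ha' => ?_⟩
  · simp only [ha, hb, mul_mem ha hb, dif_pos]
    refine Subtype.ext (key _ (mul_mem ha hb) _ (mul_mem (h1 a ha) (h1 b hb)) ?_)
    have := mul_mem (h2 a ha) (h2 b hb)
    rwa [mul_assoc, (F.commute (inv_mem (h1 a ha)) _).eq, ← mul_assoc, ← mul_assoc, mul_assoc _ (δ b)⁻¹,
      ← _root_.mul_inv_rev] at this
  · simp only [ha, dif_pos, Subtype.ext_iff, OneMemClass.coe_one]
    exact ⟨fun h => by simpa [h] using h2 a ha, fun h => key a ha 1 (one_mem _) (by simpa using h)⟩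
  · simp only [ha, ha', dif_pos]
    refine Subtype.ext (key _ ha' _ (h1 a ha) ?_)
    have := hg _ (h2 a ha)
    rwa [← mul_assoc, mul_assoc _ (δ a)⁻¹, (F.commute (inv_mem (h1 a ha)) _).eq, ← mul_assoc] at this

theorem step1 [Finite K] (hk : k < n) (I : FInv Z T P (k + 1) N) (hp : ∀ j ≤ k, PairC T P co ch j k N) :
    ∀ a ∈ P 0, ∀ b ∈ P k, ⁅a, b⁆ ∈ N := by
  obtain ⟨δ, d1, d2, d3⟩ := F.exists_dl I
  let _ := L0.centerCG E
  have h0 : ∀ j ≤ k + 1, P j ≤ P 0 := fun j hj => F.anti (by omega) (Nat.zero_le j)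
  have hc : ∀ a ∈ P 0, ∀ c ∈ P (k + 1), a * c * a⁻¹ ∈ P (k + 1) := fun a ha c hc => by
    simpa [commutatorElement_def] using mul_mem (I.le (I.comm a ha c hc)) hc
  have key : ∀ m j, j + m = k + 1 → ∀ a ∈ P j, ∀ b ∈ P k, ⁅a, b⁆ ∈ N := by
    intro m
    induction m with
    | zero =>
      intro j hj a ha b hb
      obtain rfl : j = k + 1 := hj
      simpa using inv_mem (I.comm b (h0 k (by omega) hb) a ha)
    | succ m ih =>
      intro j hj
      have hj0 := h0 j (by omega)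
      have hm := fun a ha b hb => F.comm k a (hj0 ha) b hb
      have c := F.crd j (by omega)
      have d := F.crd k hk
      have p : PairD (fun a b => δ ⁅a, b⁆) (P j) (P (j + 1)) (P k) (P (k + 1)) T := by
        refine ⟨fun a ha a' ha' b hb => ?_, fun a ha b hb b' hb' => ?_, fun a ha b hb => ?_, fun a ha b hb => ?_,
          fun h hh a ha b hb => ?_⟩
        · rw [show ⁅a * a', b⁆ = a * ⁅a', b⁆ * a⁻¹ * ⁅a, b⁆ by simp [commutatorElement_def, mul_assoc],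
            d1 _ (hc a (hj0 ha) _ (hm a' ha' b hb)) _ (hm a ha b hb),
            d3 a (fun _ => I.conj (hj0 ha)) _ (hm a' ha' b hb) (hc a (hj0 ha) _ (hm a' ha' b hb)), mul_comm]
        · have hb0 := h0 k (by omega) hb
          rw [show ⁅a, b * b'⁆ = ⁅a, b⁆ * (b * ⁅a, b'⁆ * b⁻¹) by simp [commutatorElement_def, mul_assoc],
            d1 _ (hm a ha b hb) _ (hc b hb0 _ (hm a ha b' hb')),
            d3 b (fun _ => I.conj hb0) _ (hm a ha b' hb') (hc b hb0 _ (hm a ha b' hb'))]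
        · exact (d2 _ (hm a (c.le ha) b hb)).2 (ih (j + 1) (by omega) a ha b hb)
        · exact (d2 _ (hm a ha b (d.le hb))).2 (I.comm a (hj0 ha) b hb)
        · rw [← conj_comm]
          exact d3 h (I.norm h hh) _ (hm a ha b hb) (by rw [conj_comm]; exact hm _ (c.mem h hh a ha) _ (d.mem h hh b hb))
      intro a ha b hb
      rw [← d2 _ (hm a ha b hb)]
      obtain ⟨h, hh, ⟨h1, h2⟩ | ⟨h1, h2⟩⟩ | ⟨h1, h2⟩ | h1 := hp j (by omega)
      · exact p.sep c d hh h1 h2 ha hb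
      · exact p.symm.sep d c hh h2 h1 hb ha
      · exact p.scal c d h1 h2 ha hb
      · obtain ⟨a', ha', b', hb', e1, e2, e3⟩ := h1 a ha b hb
        rw [← p.congr c ha' ha e1 hb, ← show δ ⁅a', b'⁆ = δ ⁅a', b⁆ from p.symm.congr d hb' hb e2 ha']
        exact (d2 _ (hm a' ha' b' hb')).2 e3
  exact key (k + 1) 0 (by omega)

theorem step2 [Finite K] (hk : k < n) (I : FInv Z T P (k + 1) N) (hc : ∀ a ∈ P 0, ∀ b ∈ P k, ⁅a, b⁆ ∈ N) (hh : h ∈ T)
    (h1 : ch k h ≠ 1) : ∃ N', N ≤ N' ∧ FInv Z T P k N' := by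
  have c := F.crd k hk
  have h0 : P k ≤ P 0 := F.anti hk.le (Nat.zero_le k)
  have h2 : ∀ b ∈ P (k + 1), ⁅h, b⁆ ∈ N := fun b hb => by
    obtain ⟨z, hz, h3⟩ := I.sup b hb
    have := mul_mem (I.norm h hh _ h3) (inv_mem h3)
    rwa [_root_.mul_inv_rev, inv_inv, ← mul_assoc h, mul_assoc _ z⁻¹, (F.commute (inv_mem hz) _).eq, ← mul_assoc,
      ← mul_assoc, inv_mul_cancel_right] at this
  have h3 : ∀ a ∈ P k, ∀ b ∈ P k, a * b * a⁻¹ * b⁻¹ ∈ N := fun a ha b hb => hc a (h0 ha) b hb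
  have h4 : ∀ {g b}, b ∈ P k → g⁻¹ * ⁅h, b⁆ ∈ N → g ∈ P k := fun {g b} hb hg => by
    simpa [commutatorElement_def, mul_assoc] using mul_mem (c.comm_mem hh hb) (inv_mem (c.le (I.le hg)))
  let N' : Subgroup E :=
    { carrier := {g | ∃ b ∈ P k, g⁻¹ * ⁅h, b⁆ ∈ N}
      one_mem' := ⟨1, one_mem _, by simp⟩
      mul_mem' := by
        rintro g g' ⟨b, hb, e⟩ ⟨b', hb', e'⟩
        refine ⟨b * b', mul_mem hb hb', ?_⟩
        have := mul_mem (mul_mem (I.conj (inv_mem (h0 (h4 hb' e'))) e) e')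
          (I.conj (inv_mem (h0 (c.comm_mem hh hb'))) (h3 b hb _ (c.comm_mem hh hb')))
        simpa [commutatorElement_def, mul_assoc] using this
      inv_mem' := by
        rintro g ⟨b, hb, e⟩
        refine ⟨b⁻¹, inv_mem hb, ?_⟩
        have h5 := c.comm_mem hh hb
        have := mul_mem (I.conj (h0 h5) (inv_mem e)) (h3 _ h5 _ (inv_mem hb))
        have h6 := I.conj (inv_mem (h0 h5)) this
        simpa [commutatorElement_def, mul_assoc] using I.conj (h0 h5) h6 }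
  have h5 : N ≤ N' := fun g hg => ⟨1, one_mem _, by simpa using hg⟩
  refine ⟨N', h5, fun g ⟨b, hb, e⟩ => h4 hb e, fun z ⟨b, hb, e⟩ hz => ?_, fun a ha => ?_, fun g hg a ⟨b, hb, e⟩ => ?_,
    fun a ha b hb => h5 (hc a ha b hb)⟩
  · have h6 : ⁅h, b⁆ ∈ P (k + 1) := by simpa using mul_mem (F.le _ hz) (I.le e)
    rw [← c.zero _ (c.comm_mem hh hb), c.comm hh hb, mul_eq_zero, sub_eq_zero, c.zero b hb] at h6
    exact I.disj z (by simpa [commutatorElement_def, mul_assoc] using mul_mem (h2 b (h6.resolve_left h1)) (inv_mem e)) hz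
  · obtain ⟨b, hb, e⟩ := c.surj hh h1 ha
    obtain ⟨z, hz, h6⟩ := I.sup _ (c.eq ha (c.comm_mem hh hb) e.symm)
    refine ⟨z⁻¹, inv_mem hz, b, hb, ?_⟩
    rwa [inv_inv, _root_.mul_inv_rev, mul_assoc, (F.commute (inv_mem hz) _).eq]
  · refine ⟨g * b * g⁻¹, c.mem g hg b hb, ?_⟩
    have h6 := I.norm g hg _ e
    have h7 := (F.commute (F.tcomm g hg h hh) ⁅h, g * b * g⁻¹⁆).eq
    have h8 := commutatorElement_eq_one_iff_commute.2 (F.commute (F.tcomm g hg h hh) (g * b * g⁻¹))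
    have h9 : g * ⁅h, b⁆ * g⁻¹ = ⁅h, g * b * g⁻¹⁆ := by
      rw [conj_comm, show g * h * g⁻¹ = ⁅g, h⁆ * h by simp [commutatorElement_def]]
      generalize ⁅g, h⁆ = z at h7 h8
      calc ⁅z * h, g * b * g⁻¹⁆ = (z * ⁅h, g * b * g⁻¹⁆) * z⁻¹ * ⁅z, g * b * g⁻¹⁆ := by
            simp [commutatorElement_def, mul_assoc]
        _ = _ := by rw [h7, h8]; simp
    rw [← h9]; simpa [mul_assoc] using h6

theorem final [Finite K] {m : ℕ} (hm : m + 1 ≤ n) (I : FInv Z T P (m + 1) N) (hp : ∀ k ≤ m, ∀ j ≤ k, PairC T P co ch j k N)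
    (he : ∀ k ≤ m, k ≠ 0 → ∃ h ∈ T, ch k h ≠ 1) :
    ∃ N : Subgroup E, (∀ z ∈ N, z ∈ Z → z = 1) ∧ ∀ a ∈ P 0, ∀ b ∈ P 0, ⁅a, b⁆ ∈ N := by
  induction m generalizing N with
  | zero => exact ⟨N, I.disj, F.step1 hm I (hp 0 le_rfl)⟩
  | succ m ih =>
    obtain ⟨h, hh, h1⟩ := he (m + 1) le_rfl (by omega)
    obtain ⟨N', h2, I'⟩ := F.step2 hm I (F.step1 hm I (hp _ le_rfl)) hh h1
    exact ih (by omega) I' (fun k hk j hj => (hp k (by omega) j hj).mono h2) fun k hk => he k (by omega)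

end Filt

end Cfsg.Agent.H8
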