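import Cfsg.Agent.H6.OrthRank
import Mathlib.FieldTheory.ChevalleyWarning

/-! Bounds for the orders of the orthogonal groups. -/

set_option autoImplicit false
set_option linter.unusedSectionVars false

namespace Cfsg.Agent.H8

open Module Cfsg.Agent.H6 MulAction

theorem card_eq_orbit {G X : Type*} [Group G] [MulAction G X] (H : Subgroup G) (x : X) :
    Nat.card H = (orbit H x).ncard * Nat.card ↥(H ⊓ stabilizer G x) := by
  rw [← (stabilizer H x).index_mul_card, index_stabilizer, ← Subgroup.inf_subgroupOf_left _ H |>.trans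
    (show (stabilizer G x).subgroupOf H = stabilizer H x from rfl),
    Nat.card_congr (Subgroup.subgroupOfEquivOfLe inf_le_left).toEquiv]

variable {F V : Type*} [Field F] [AddCommGroup V] [Module F V] {Q : QuadraticForm F V} [Fintype F] [Finite V]
  {W : Submodule F V} {e f u : V}

variable (Q) in
/-- The isometries fixing the orthogonal complement. -/
def Fx (W : Submodule F V) : Subgroup (OG Q) where
  carrier := {g | ∀ x, (∀ y ∈ W, pb Q x y = 0) → g.1 x = x}
  mul_mem' ha hb x hx := by rw [OG_mul_apply, hb x hx, ha x hx]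
  one_mem' _ _ := rfl
  inv_mem' {g} ha x hx := by rw [← ha x hx, OG_inv_apply, ha x hx]

theorem mem_of_orth (hB : (pb Q).Nondegenerate) {x : V} (h : ∀ z, (∀ y ∈ W, pb Q z y = 0) → pb Q z x = 0) : x ∈ W := by
  rw [← LinearMap.BilinForm.orthogonal_orthogonal hB (pb_isRefl Q) W]
  exact fun z hz => h z fun y hy => (pb_comm ..).trans (hz y hy)

theorem Fx_apply_mem (hB : (pb Q).Nondegenerate) {g : OG Q} (hg : g ∈ Fx Q W) {x : V} (hx : x ∈ W) : g.1 x ∈ W :=
  mem_of_orth hB fun z hz => by rw [← hg z hz, OG_pb, hz x hx]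

theorem card_le_two (hB : (pb Q).Nondegenerate) (hu : Q u ≠ 0) {H : Subgroup (OG Q)}
    (hH : ∀ g ∈ H, ∀ x, pb Q x u = 0 → g.1 x = x) : Nat.card H ≤ 2 := by
  obtain ⟨x, -, hx⟩ := exists_dual hB ⊥ (u := u) (by rintro rfl; simp at hu)
  rw [pb_comm] at hx
  refine (Set.ncard_le_ncard (t := {1, refl Q u}) (fun g hg => ?_)).trans (by
    simpa using Set.ncard_insert_le 1 {refl Q u})
  obtain ⟨t, ht⟩ := Submodule.mem_span_singleton.1 (mem_of_orth (W := F ∙ u) (x := g.1 x - x) hB fun z hz => by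
    rw [map_sub, ← hH g hg z (hz u (Submodule.mem_span_singleton_self u)), OG_pb,
      hH g hg z (hz u (Submodule.mem_span_singleton_self u)), sub_self])
  have h1 : ∀ z, g.1 z = z + (pb Q z u * t) • u := fun z => by
    have := hH g hg (z - pb Q z u • x) (by simp [hx])
    rw [map_sub, map_smul, eq_add_of_sub_eq ht.symm] at this
    rw [eq_add_of_sub_eq this]; module
  have h2 := OG_Q g x
  rw [h1, Q_add, Q_smul, map_smul, hx, smul_eq_mul] at h2
  rcases mul_eq_zero.1 (show t * (t * Q u + 1) = 0 by linear_combination h2) with h | h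
  · exact Or.inl (OG_ext fun z => by simp [h1, h])
  · refine Or.inr (OG_ext fun z => ?_)
    rw [h1, refl_apply, show t = -(Q u)⁻¹ by field_simp; linear_combination h, div_eq_mul_inv]; module

theorem ncard_sphere (hu : u ∈ W) (h0 : Q u ≠ 0) (c : F) :
    {w | w ∈ W ∧ Q w = c}.ncard * Fintype.card F ≤ 2 * Nat.card W := by
  classical
  have := Fintype.ofFinite V
  rw [Set.ncard_eq_toFinset_card', ← Finset.card_univ, ← Finset.card_product, Nat.card_eq_fintype_card,
    Fintype.card_subtype]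
  refine Finset.card_le_mul_card_image_of_maps_to (f := fun p => p.1 + p.2 • u) (fun p hp => ?_) 2 fun z _ => ?_
  · simp only [Finset.mem_product, Set.mem_toFinset, Set.mem_ofPred_eq] at hp
    simpa using add_mem hp.1.1 (W.smul_mem _ hu)
  · by_contra h
    obtain ⟨a, ha, b, hb, d, hd, h1, h2, h3⟩ := Finset.two_lt_card.1 (not_le.1 h)
    simp only [Finset.mem_filter, Finset.mem_product, Set.mem_toFinset, Set.mem_ofPred_eq] at ha hb hd
    have key : ∀ {a b : V × F}, a.1 + a.2 • u = z → b.1 + b.2 • u = z → Q a.1 = c → Q b.1 = c → a ≠ b →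
        a.2 ≠ b.2 ∧ (a.2 + b.2) * Q u = pb Q z u := fun {a b} ha hb ha' hb' h => by
      have h4 : a.2 ≠ b.2 := fun h' => h (Prod.ext (add_right_cancel (ha.trans (h' ▸ hb).symm)) h')
      rw [← eq_sub_iff_add_eq] at ha hb
      rw [ha, Q_sub, Q_smul, map_smul, smul_eq_mul] at ha'
      rw [hb, Q_sub, Q_smul, map_smul, smul_eq_mul] at hb'
      exact ⟨h4, mul_left_cancel₀ (sub_ne_zero.2 h4) (by linear_combination ha' - hb')⟩
    exact (key hb.2 hd.2 hb.1.1.2 hd.1.1.2 h3).1 (add_left_cancel (mul_right_cancel₀ h0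
      ((key ha.2 hb.2 ha.1.1.2 hb.1.1.2 h1).2.trans (key ha.2 hd.2 ha.1.1.2 hd.1.1.2 h2).2.symm)))

theorem card_Fx_base (hB : (pb Q).Nondegenerate) (hW : NondegSub Q W) {d : ℕ} (hd : d ≤ 1) (h : finrank F W = d + 1) :
    Nat.card (Fx Q W) ≤ 2 ^ (d + 1) * Fintype.card F ^ d := by
  obtain ⟨u, hu, h0⟩ := hW.exists_Q_ne_zero (by rintro rfl; simp at h)
  have hu0 : u ≠ 0 := by rintro rfl; simp at h0
  obtain rfl | rfl : d = 0 ∨ d = 1 := by omega
  · refine (card_le_two hB h0 (H := Fx Q W) fun g hg x hx => hg x fun y hy => ?_).trans (by simp)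
    obtain ⟨c, hc⟩ := (finrank_eq_one_iff_of_nonzero' (⟨u, hu⟩ : W) (by simpa using hu0)).1 h ⟨y, hy⟩
    simp [← show c • u = y from congrArg Subtype.val hc, hx]
  have h1 : finrank F ↥(W ⊓ (pb Q).orthogonal (F ∙ u)) = 1 := by
    have h2 := Submodule.finrank_sup_add_finrank_inf_eq W ((pb Q).orthogonal (F ∙ u))
    have h3 := Submodule.finrank_le (W ⊔ (pb Q).orthogonal (F ∙ u))
    have h4 := Submodule.finrank_lt_finrank_of_lt (s := W ⊓ (pb Q).orthogonal (F ∙ u)) (t := W)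
      (inf_lt_left.2 fun h => hu0 (hW u hu fun y hy => (pb_comm ..).trans (mem_orth_span.1 (h hy))))
    have h5 := Submodule.finrank_le W
    rw [LinearMap.BilinForm.finrank_orthogonal hB, finrank_span_singleton hu0] at h2
    omega
  obtain ⟨v, -, hv⟩ := finrank_eq_one_iff'.1 h1
  have h2 : (orbit (Fx Q W) v.1).ncard ≤ 2 * Fintype.card F := by
    refine Nat.le_of_mul_le_mul_right (le_trans (Nat.mul_le_mul_right _ (Set.ncard_le_ncard ?_))
      ((ncard_sphere hu h0 (Q v)).trans ?_)) Fintype.card_pos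
    · rintro _ ⟨g, rfl⟩; exact ⟨Fx_apply_mem hB g.2 v.2.1, OG_Q _ _⟩
    · rw [Module.natCard_eq_pow_finrank (K := F), h, Nat.card_eq_fintype_card]; ring_nf; rfl
  rw [card_eq_orbit _ v.1]
  refine (Nat.mul_le_mul h2 (card_le_two hB h0 fun g hg x hx => ?_)).trans (by ring_nf; rfl)
  obtain ⟨w, hw, a, ha, rfl⟩ := Submodule.mem_sup.1 (((LinearMap.BilinForm.isCompl_orthogonal_iff_disjoint (W := W)
    (pb_isRefl Q)).2 (Submodule.disjoint_def.2 fun x hx hx' => hW x hx fun y hy =>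
      (pb_comm ..).trans (hx' y hy))).sup_eq_top.ge (Submodule.mem_top (x := x)))
  have ha' : ∀ y ∈ W, pb Q a y = 0 := fun y hy => (pb_comm ..).trans (ha y hy)
  obtain ⟨c, hc⟩ := hv ⟨w, hw, mem_orth_span.2 (by simpa [ha' u hu] using hx)⟩
  rw [map_add, hg.1 a ha', ← show c • v.1 = w from congrArg Subtype.val hc, map_smul, show g.1 v = v from hg.2]

theorem exists_sing (h : 3 ≤ finrank F W) : ∃ e ∈ W, e ≠ 0 ∧ Q e = 0 := by
  classical
  obtain ⟨b, hb⟩ := exists_linearIndependent_of_le_finrank h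
  obtain ⟨p, _, n, hp, -⟩ := FiniteField.card' F
  have h1 := char_dvd_card_solutions p (σ := Fin 3) (f := ∑ i, MvPolynomial.C (Q (b i)) * .X i * .X i +
    ∑ i, MvPolynomial.C (pb Q (b i) (b (i + 1))) * .X i * .X (i + 1)) (lt_of_le_of_lt (MvPolynomial.IsHomogeneous.totalDegree_le
      (n := 2) (.add (.sum _ _ _ fun i _ => ?_) (.sum _ _ _ fun i _ => ?_))) (by simp))
  · obtain ⟨⟨x, hx⟩, h2⟩ := Fintype.exists_ne_of_one_lt_card (hp.one_lt.trans_le (Nat.le_of_dvd
      (Fintype.card_pos_iff.2 ⟨⟨0, by simp⟩⟩) h1)) ⟨0, by simp⟩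
    refine ⟨_, (∑ i, x i • b i).2, fun h => h2 (Subtype.ext (funext (Fintype.linearIndependent_iff.1 hb x
      (Subtype.ext h)))), ?_⟩
    simp [Fin.sum_univ_three, Q_add, Q_smul, pb_comm Q (b 2).1] at hx ⊢
    linear_combination hx
  all_goals
    exact ((MvPolynomial.isHomogeneous_C _ _).mul (MvPolynomial.isHomogeneous_X _ _)).mul
      (MvPolynomial.isHomogeneous_X _ _)

variable (Q) in
/-- A hyperbolic pair. -/
structure HP (W : Submodule F V) (e f : V) : Prop where
  me : e ∈ W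
  mf : f ∈ W
  qe : Q e = 0
  qf : Q f = 0
  ef : pb Q e f = 1

theorem exists_HP (hW : NondegSub Q W) (h : 3 ≤ finrank F W) : ∃ e f, HP Q W e f := by
  obtain ⟨e, he, h0, h1⟩ := exists_sing (Q := Q) h
  obtain ⟨y, hy, h2⟩ : ∃ y ∈ W, pb Q e y ≠ 0 := by by_contra h; push Not at h; exact h0 (hW e he h)
  refine ⟨e, (pb Q e y)⁻¹ • y - Q ((pb Q e y)⁻¹ • y) • e, he, sub_mem (W.smul_mem _ hy) (W.smul_mem _ he), h1, ?_, ?_⟩
  · rw [Q_sub, Q_smul _ _ e]; simp [h1, pb_comm Q y, h2]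
  · simp [h2, pb_self, h1]

variable (Q) in
/-- The complement of a hyperbolic pair. -/
def red (W : Submodule F V) (e f : V) : Submodule F V :=
  W ⊓ (LinearMap.ker (pb Q e) ⊓ LinearMap.ker (pb Q f))

theorem mem_red {y : V} : y ∈ red Q W e f ↔ y ∈ W ∧ pb Q e y = 0 ∧ pb Q f y = 0 := Iff.rfl

namespace HP

variable (h : HP Q W e f)
include h

theorem fe : pb Q f e = 1 := (pb_comm ..).trans h.ef

theorem proj {x : V} (hx : x ∈ W) : x - pb Q f x • e - pb Q e x • f ∈ red Q W e f :=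
  ⟨sub_mem (sub_mem hx (W.smul_mem _ h.me)) (W.smul_mem _ h.mf), by simp [pb_self, h.qe, h.ef],
    by simp [pb_self, h.qf, h.fe]⟩

theorem orth {x : V} (h1 : pb Q x e = 0) (h2 : pb Q x f = 0) (h3 : ∀ y ∈ red Q W e f, pb Q x y = 0) :
    ∀ y ∈ W, pb Q x y = 0 := fun y hy => by simpa [h1, h2] using h3 _ (h.proj hy)

theorem nondeg (hW : NondegSub Q W) : NondegSub Q (red Q W e f) := fun x hx h' =>
  hW x hx.1 (h.orth ((pb_comm ..).trans hx.2.1) ((pb_comm ..).trans hx.2.2) h')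

theorem Fx_red : Fx Q (red Q W e f) = Fx Q W ⊓ stabilizer _ e ⊓ stabilizer _ f := by
  refine le_antisymm (fun g hg => ⟨⟨fun x hx => hg x fun y hy => hx y hy.1, hg e fun y hy => hy.2.1⟩,
    hg f fun y hy => hy.2.2⟩) fun g hg x hx => ?_
  have := hg.1.1 (x - pb Q f x • e - pb Q e x • f) (h.orth (by simp [pb_self, h.qe, h.fe, pb_comm Q x])
    (by simp [pb_self, h.qf, h.ef, pb_comm Q x]) fun y hy => by simp [hx y hy, (mem_red.1 hy).2])
  simpa [show g.1 e = e from hg.1.2, show g.1 f = f from hg.2] using this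

theorem finrank_red : finrank F W = finrank F (red Q W e f) + 2 := by
  have := (LinearEquiv.ofBijective (((Submodule.inclusion (p := red Q W e f) inf_le_left).coprod
    ((LinearMap.toSpanSingleton F W ⟨e, h.me⟩).coprod (LinearMap.toSpanSingleton F W ⟨f, h.mf⟩))))
    ⟨(injective_iff_map_eq_zero _).2 fun p hp => ?_, fun x => ⟨(⟨_, h.proj x.2⟩, pb Q f x, pb Q e x),
      Subtype.ext (show _ - _ - _ + (_ • e + _ • f) = _ by simp)⟩⟩).finrank_eq
  · simpa using this.symm
  · have h1 : p.1.1 + (p.2.1 • e + p.2.2 • f) = 0 := congrArg Subtype.val hp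
    have h2 := congrArg (pb Q e) h1
    have h3 := congrArg (pb Q f) h1
    simp only [map_add, map_smul, (mem_red.1 p.1.2).2, pb_self, h.qe, h.qf, h.ef, h.fe] at h2 h3
    simp only [smul_eq_mul, mul_zero, mul_one, zero_add, add_zero, map_zero] at h2 h3
    ext <;> simp_all

theorem ncard_sing (hW : NondegSub Q W) (h3 : 3 ≤ finrank F W) :
    {w | w ∈ W ∧ Q w = 0}.ncard ≤ (Fintype.card F + 1) * Nat.card (red Q W e f) := by
  classical
  obtain ⟨u, hu, h0⟩ := (h.nondeg hW).exists_Q_ne_zero (fun h' => by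
    rw [h.finrank_red, h'] at h3; simp at h3)
  have h1 := ncard_sphere hu h0 0
  refine (Set.ncard_le_ncard (t := Set.range (fun p : Fˣ × red Q W e f => p.2.1 + p.1.1 • e - (Q p.2 / p.1) • f) ∪
    Set.range fun p : {w | w ∈ red Q W e f ∧ Q w = 0} × F => p.1.1 + p.2 • f) fun x hx => ?_).trans
    ((Set.ncard_union_le _ _).trans ((Nat.add_le_add (Finite.card_range_le _) (Finite.card_range_le _)).trans ?_))
  · have h2 := h.proj hx.1
    have h4 : Q (x - pb Q f x • e - pb Q e x • f) = -(pb Q f x * pb Q e x) := by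
      simp [Q_sub, Q_smul, hx.2, h.qe, h.qf, h.ef, pb_comm Q x]
    by_cases h5 : pb Q f x = 0
    · exact Or.inr ⟨(⟨_, h2, by rw [h4, h5]; simp⟩, pb Q e x), by simp [h5]⟩
    · exact Or.inl ⟨(Units.mk0 _ h5, ⟨_, h2⟩), by simp [h4, neg_div, h5]; abel⟩
  · rw [Nat.card_prod, Nat.card_prod, Nat.card_units, Nat.card_coe_set_eq, Nat.card_eq_fintype_card (α := F)]
    obtain ⟨n, hn⟩ := Nat.exists_eq_add_one.2 (Fintype.card_pos (α := F))
    rw [hn] at h1 ⊢; simp only [add_tsub_cancel_right]; linarith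

theorem card_stab (hB : (pb Q).Nondegenerate) {H : Subgroup (OG Q)} (hH : ∀ y hy, eich hB e y h.qe hy ∈ H) :
    Nat.card ↥(H ⊓ Fx Q W ⊓ stabilizer _ e) = Nat.card (red Q W e f) * Nat.card ↥(H ⊓ Fx Q (red Q W e f)) := by
  rw [card_eq_orbit _ f, h.Fx_red, ← inf_assoc, ← inf_assoc]
  congr 1
  refine Eq.trans (congrArg _ (Set.ext fun x => ⟨?_, ?_⟩)) (Nat.card_range_of_injective
    (f := fun y : red Q W e f => f - y.1 - Q y • e) fun y z hyz => ?_)
  · rintro ⟨g, rfl⟩
    have h1 : pb Q e (g.1.1 f) = 1 := by rw [← h.ef, ← OG_pb g.1 e f, show g.1.1 e = e from g.2.2]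
    have h2 := h.proj (Fx_apply_mem hB g.2.1.2 h.mf)
    refine ⟨⟨_, neg_mem h2⟩, ?_⟩
    simp [Q_neg, Q_sub, Q_smul, OG_Q, h.qe, h.qf, h.fe, pb_comm Q (g.1.1 f), h1]
    rfl
  · rintro ⟨y, rfl⟩
    obtain ⟨h1, h2, h3⟩ := mem_red.1 y.2
    exact ⟨⟨eich hB e y h.qe h2, ⟨hH _ _, fun x hx => by simp [eich_apply, hx _ h1, hx _ h.me]⟩,
      show (eich hB e y h.qe h2).1 e = e by simp [eich_apply, h2, pb_self, h.qe]⟩,
      show (eich hB e y h.qe h2).1 f = _ by simp [eich_apply, h3, h.fe, sub_sub]⟩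
  · have := congrArg (pb Q f) hyz
    simp only [map_sub, map_smul, (mem_red.1 y.2).2, (mem_red.1 z.2).2, h.fe] at this
    simp_all

end HP

theorem card_Fx (hB : (pb Q).Nondegenerate) {H : Subgroup (OG Q)} (hH : ∀ e y he hy, eich hB e y he hy ∈ H) {d : ℕ}
    (hd : d ≤ 1) (k : ℕ) (hW : NondegSub Q W) (h : finrank F W = 2 * k + d + 1) :
    Fintype.card F ^ (k * (k + d)) ∣ Nat.card ↥(H ⊓ Fx Q W) ∧
    2 ^ k * Nat.card (Fx Q W) ≤ 3 ^ k * 2 ^ (d + 1) * Fintype.card F ^ ((k + d) * (2 * k + 1)) := by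
  induction k generalizing W with
  | zero => simpa using card_Fx_base hB hW hd (by simpa using h)
  | succ k ih =>
    obtain ⟨e, f, h1⟩ := exists_HP hW (by omega)
    have h2 := h1.finrank_red
    have h3 := ih (h1.nondeg hW) (by omega)
    have h4 : Nat.card (red Q W e f) = Fintype.card F ^ (2 * k + d + 1) := by
      rw [Module.natCard_eq_pow_finrank (K := F), Nat.card_eq_fintype_card]; congr 1; omega
    have h5 := h1.card_stab hB (H := ⊤) fun _ _ => trivial
    have h6 := (Set.ncard_le_ncard (s := orbit (Fx Q W) e) (by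
      rintro _ ⟨g, rfl⟩; exact ⟨Fx_apply_mem hB g.2 h1.me, (OG_Q _ _).trans h1.qe⟩)).trans (h1.ncard_sing hW (by omega))
    rw [top_inf_eq, top_inf_eq] at h5
    rw [card_eq_orbit _ e, h1.card_stab hB (hH e · _), card_eq_orbit (Fx Q W) e, h5]
    rw [h4] at h6 ⊢
    refine ⟨Dvd.dvd.mul_left (dvd_trans (dvd_of_eq (by ring)) (Nat.mul_dvd_mul_left _ h3.1)) _, ?_⟩
    have h7 : 2 * (Fintype.card F + 1) ≤ 3 * Fintype.card F := by have := Fintype.one_lt_card (α := F); omega
    calc _ ≤ 2 ^ (k + 1) * (((Fintype.card F + 1) * Fintype.card F ^ (2 * k + d + 1)) *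
          (Fintype.card F ^ (2 * k + d + 1) * Nat.card (Fx Q (red Q W e f)))) := by gcongr
      _ = 2 * (Fintype.card F + 1) * Fintype.card F ^ (2 * (2 * k + d + 1)) *
          (2 ^ k * Nat.card (Fx Q (red Q W e f))) := by ring
      _ ≤ 3 * Fintype.card F * Fintype.card F ^ (2 * (2 * k + d + 1)) * _ :=
        Nat.mul_le_mul (Nat.mul_le_mul_right _ h7) h3.2
      _ = _ := by ring

theorem eich_mem (hB : (pb Q).Nondegenerate) (h5 : 5 ≤ finrank F V) (e y : V) (he : Q e = 0) (hy : pb Q e y = 0) :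
    eich hB e y he hy ∈ commutator (OG Q) := by
  have h1 : ∀ y hy, Q y ≠ 0 → eich hB e y he hy ∈ commutator (OG Q) := fun v hv h0 => by
    obtain ⟨z, h2, h3⟩ := exists_dual hB (F ∙ e) (u := v) fun h => by
      obtain ⟨c, rfl⟩ := Submodule.mem_span_singleton.1 h
      simp [Q_smul, he] at h0
    replace h2 := h2 e (Submodule.mem_span_singleton_self e)
    refine (congrArg (· ∈ _) ?_).mpr (Subgroup.commutator_mem_commutator
      (Subgroup.mem_top (eich hB e (Q v • z) he (by simp [h2]))) (Subgroup.mem_top (refl Q v)))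
    rw [commutatorElement_def, eq_mul_inv_iff_mul_eq, eq_mul_inv_iff_mul_eq]
    refine OG_ext fun x => ?_
    simp only [OG_mul_apply, eich_apply, refl_apply, map_add, map_sub, map_smul, LinearMap.add_apply,
      LinearMap.sub_apply, LinearMap.smul_apply, smul_eq_mul, pb_self, he, h2, h3, hv, pb_comm Q v e, pb_comm Q z e,
      pb_comm Q z v, Q_smul]
    match_scalars <;> field_simp <;> ring
  by_cases h0 : Q y = 0
  swap; · exact h1 y hy h0
  obtain ⟨v, hv, h2⟩ : ∃ v ∈ (pb Q).orthogonal ((F ∙ e) ⊔ F ∙ y), Q v ≠ 0 := by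
    by_contra h; push Not at h
    have h3 := TotSing.two_mul_finrank_le hB h
    have h4 := Submodule.finrank_add_le_finrank_add_finrank (F ∙ e) (F ∙ y)
    have h6 : ∀ x : V, finrank F (F ∙ x) ≤ 1 := fun x => by simpa using finrank_span_le_card (R := F) {x}
    have := h6 e; have := h6 y
    rw [LinearMap.BilinForm.finrank_orthogonal hB] at h3; omega
  rw [orth_sup, Submodule.mem_inf, mem_orth_span, mem_orth_span] at hv
  have h3 : pb Q e v = 0 := (pb_comm ..).trans hv.1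
  have h4 : pb Q y v = 0 := (pb_comm ..).trans hv.2
  convert mul_mem (h1 (y + v) (by simp [hy, h3]) (by simpa [Q_add, h0, h4])) (inv_mem (h1 v h3 h2)) using 1
  rw [eq_mul_inv_iff_mul_eq]
  refine OG_ext fun x => ?_
  simp only [OG_mul_apply, eich_apply, map_add, map_sub, map_smul, LinearMap.add_apply,
    LinearMap.sub_apply, LinearMap.smul_apply, smul_eq_mul, pb_self, he, hy, h3, h4, hv.1, hv.2, Q_add, h0]
  module

/-- The bounds for the order of `PΩ`. -/
theorem card_pOmega (hB : (pb Q).Nondegenerate) {d k : ℕ} (hd : d ≤ 1) (hk : 2 ≤ k) (h : finrank F V = 2 * k + d + 1) :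
    Fintype.card F ^ (k * (k + d)) ∣ Nat.card (commutator (OG Q) ⧸ Subgroup.center (commutator (OG Q))) ∧
    2 ^ k * Nat.card (OG Q) ≤ 3 ^ k * 2 ^ (d + 1) * Fintype.card F ^ ((k + d) * (2 * k + 1)) := by
  have hE := eich_mem hB (by omega)
  have hT := nondegSub_top hB
  have hF : Fx Q ⊤ = ⊤ := eq_top_iff.2 fun g _ x hx => by simp [hB.1 x fun y => hx y trivial]
  refine ⟨?_, by simpa [hF] using (card_Fx hB hE hd k hT (by simpa)).2⟩
  obtain ⟨k, rfl⟩ := Nat.exists_eq_add_one.2 (show 0 < k by omega)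
  obtain ⟨e, f, h1⟩ := exists_HP hT (by simp; omega)
  have h2 := h1.finrank_red
  have h3 := h1.card_stab hB (hE e · _)
  rw [finrank_top] at h2
  rw [hF, inf_top_eq, Module.natCard_eq_pow_finrank (K := F) (V := red Q ⊤ e f), Nat.card_eq_fintype_card (α := F),
    show finrank F (red Q ⊤ e f) = 2 * k + d + 1 by omega] at h3
  refine (dvd_trans (dvd_of_eq (by ring)) (Nat.mul_dvd_mul_left _
    (card_Fx hB hE hd k (h1.nondeg hT) (by omega)).1)).trans (h3 ▸ Subgroup.card_dvd_of_injective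
      ((QuotientGroup.mk' _).comp (Subgroup.inclusion inf_le_left)) ((injective_iff_map_eq_one _).2 fun g hg => ?_))
  have hc := Subgroup.mem_center_iff.1 ((QuotientGroup.eq_one_iff _).1 hg)
  have he : g.1.1 e = e := g.2.2
  have h4 : ∀ y ∈ red Q ⊤ e f, g.1.1 (y + Q y • f) = y + Q y • f := fun y hy => by
    have := congrArg (fun z : commutator (OG Q) => z.1.1 e) (hc ⟨_, hE f y h1.qf (mem_red.1 hy).2.2⟩)
    simpa [eich_apply, he, (mem_red.1 hy).2, h1.ef] using this.symm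
  obtain ⟨u, hu, h5⟩ := (Submodule.ne_bot_iff _).1 (show red Q ⊤ e f ≠ ⊥ by intro h; rw [h] at h2; simp at h2; omega)
  obtain ⟨v, hv, h6⟩ : ∃ v ∈ red Q ⊤ e f, pb Q u v ≠ 0 := by
    by_contra h; push Not at h; exact h5 (h1.nondeg hT u hu h)
  have hf : g.1.1 f = f := by
    have h7 := h4 _ (add_mem hu hv)
    rw [show u + v + Q (u + v) • f = (u + Q u • f) + (v + Q v • f) + pb Q u v • f by rw [Q_add]; module, map_add,
      map_add, h4 u hu, h4 v hv, map_smul, add_right_inj] at h7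
    exact smul_right_injective V h6 h7
  refine Subtype.ext (OG_ext fun x => ?_)
  simpa [he, hf] using h4 _ (h1.proj (Submodule.mem_top (x := x)))

end Cfsg.Agent.H8
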