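import Cfsg.Agent.H8.TwCard
import Cfsg.Agent.H8.OrthCard
import Cfsg.Agent.H5.Uni
import Cfsg.Agent.H5.GLCard
import Cfsg.Agent.H4.GLOrd
import Cfsg.Agent.H2.SzGen
import Cfsg.Agent.H2.ReeStruct

/-! The order of a group of Lie type compared with the order of a Sylow subgroup. -/

set_option autoImplicit false
set_option linter.unusedSectionVars false

namespace Cfsg.Agent.H8

open Cfsg.Lie Cfsg.Agent.H7 Finset Subgroup

variable {p : ℕ} [hp : Fact p.Prime] {F : Type} [Field F] [Fintype F] [CharP F p]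

variable (F) in
theorem bd_of {q c N E n : ℕ} (hq : Fintype.card F = q ^ c) (hc : c ≠ 0) (h1 : q ^ N ∣ n) (h2 : n ^ 3 < q ^ E)
    (h3 : E ≤ 8 * N) : Bd p n := by
  obtain ⟨k, -, hk⟩ := FiniteField.card F p
  obtain ⟨j, -, rfl⟩ := (Nat.dvd_prime_pow hp.out).1 (hk ▸ hq ▸ dvd_pow_self q hc)
  exact ⟨j * N, pow_mul p j N ▸ h1, h2.trans_le (by
    rw [← pow_mul, ← pow_mul]; exact Nat.pow_le_pow_right hp.out.pos (by nlinarith))⟩

theorem cube_lt {n q E : ℕ} (h : n < q ^ E) : n ^ 3 < q ^ (E * 3) := pow_mul q E 3 ▸ Nat.pow_lt_pow_left h three_ne_zero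

theorem dvd_card_quot {S ι : Type*} [Group S] [Finite S] [Fintype ι] [DecidableEq ι] [Nonempty ι] (φ : S →* Matrix ι ι F)
    (hφ : Function.Injective φ) (h : ∀ z ∈ center S, ∃ c : F, φ z = c • 1) {q c N : ℕ} (hq : Fintype.card F = q ^ c)
    (hc : c ≠ 0) (h1 : q ^ N ∣ Nat.card S) : q ^ N ∣ Nat.card (S ⧸ center S) := by
  obtain ⟨p, _, k, hp', hk⟩ := FiniteField.card' F
  have hp := Fact.mk hp'
  obtain ⟨j, -, rfl⟩ := (Nat.dvd_prime_pow hp.out).1 (hk ▸ hq ▸ dvd_pow_self q hc)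
  rw [card_eq_card_quotient_mul_card_subgroup (center S)] at h1
  refine Nat.Coprime.dvd_of_dvd_mul_right (Nat.Coprime.pow_left _ (Nat.Coprime.pow_left _
    ((Nat.Prime.coprime_iff_not_dvd hp.out).2 fun h2 => ?_))) h1
  obtain ⟨z, hz⟩ := exists_prime_orderOf_dvd_card' p h2
  obtain ⟨c, h3⟩ := h z z.2
  have h4 := congrArg (fun z : center S => φ z (Classical.arbitrary ι) (Classical.arbitrary ι)) (pow_orderOf_eq_one z)
  simp only [hz, SubmonoidClass.coe_pow, map_pow, h3, smul_pow, one_pow, OneMemClass.coe_one, map_one,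
    Matrix.smul_apply, Matrix.one_apply_eq, smul_eq_mul, mul_one] at h4
  obtain rfl : c = 1 := frobenius_inj F p (by simpa [frobenius_def] using h4)
  rw [show z = 1 from Subtype.ext (hφ (by simpa using h3)), orderOf_one] at hz
  exact hp.out.one_lt.ne hz

theorem card_quot_le {S : Type*} [Group S] [Finite S] (N : Subgroup S) : Nat.card (S ⧸ N) ≤ Nat.card S :=
  Nat.card_le_card_of_surjective _ QuotientGroup.mk_surjective

theorem prod_uq_lt {q : ℕ} (hq : 2 ≤ q) {k : ℕ} (hk : k ≠ 0) :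
    ∏ i ∈ range k, (q ^ (i + 1) * H5.uq q (i + 2)) < q ^ (k * (k + 2)) := by
  have h1 : ∀ j, H5.uq q (2 * j + 2) < q ^ (2 * j + 2) ∧
      H5.uq q (2 * j + 2) * H5.uq q (2 * j + 1 + 2) < q ^ (4 * j + 5) := fun j => by
    rw [H5.uq, H5.uq, if_pos (by grind), if_neg (by grind), show 4 * j + 5 = (2 * j + 2) + (2 * j + 2) + 1 by ring,
      show 2 * j + 1 + 2 = 2 * j + 2 + 1 by ring, pow_succ q (2 * j + 2), pow_succ q (2 * j + 2 + _),
      pow_add q (_ + 2)]
    obtain ⟨n, hn⟩ := Nat.exists_eq_add_one.2 (show 0 < q ^ (2 * j + 2) by positivity)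
    rw [hn, add_tsub_cancel_right]; constructor <;> nlinarith
  have h2 : ∀ j, ∏ i ∈ range (2 * j), (q ^ (i + 1) * H5.uq q (i + 2)) ≤ q ^ (2 * j * (2 * j + 2)) →
      ∏ i ∈ range (2 * j + 1 + 1), (q ^ (i + 1) * H5.uq q (i + 2)) < q ^ ((2 * j + 2) * (2 * j + 2 + 2)) := fun j h => by
    rw [prod_range_succ, prod_range_succ]
    calc _ ≤ q ^ (2 * j * (2 * j + 2)) * (q ^ (2 * j + 1) * H5.uq q (2 * j + 2)) * _ := by gcongr
      _ = q ^ (2 * j * (2 * j + 2) + 4 * j + 3) * (H5.uq q (2 * j + 2) * H5.uq q (2 * j + 1 + 2)) := by ring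
      _ < q ^ (2 * j * (2 * j + 2) + 4 * j + 3) * q ^ (4 * j + 5) := by gcongr; exact (h1 j).2
      _ = _ := by ring
  have h3 : ∀ j, ∏ i ∈ range (2 * j), (q ^ (i + 1) * H5.uq q (i + 2)) ≤ q ^ (2 * j * (2 * j + 2)) := fun j => by
    induction j with
    | zero => simp
    | succ j ih => exact (h2 j ih).le
  obtain ⟨j, rfl | rfl⟩ := Nat.even_or_odd' k
  · obtain ⟨j, rfl⟩ := Nat.exists_eq_add_one.2 (show 0 < j by omega)
    exact h2 j (h3 j)
  · rw [prod_range_succ]
    calc _ ≤ q ^ (2 * j * (2 * j + 2)) * (q ^ (2 * j + 1) * H5.uq q (2 * j + 2)) := by gcongr; exact h3 j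
      _ < q ^ (2 * j * (2 * j + 2)) * (q ^ (2 * j + 1) * q ^ (2 * j + 2)) := by gcongr; exact (h1 j).1
      _ = _ := by ring

theorem two_mul_sum (k : ℕ) : 2 * ∑ i ∈ range k, (i + 1) = k * (k + 1) := by
  induction k with
  | zero => simp
  | succ k ih => rw [sum_range_succ, mul_add, ih]; ring

theorem card_SL_eq (k : ℕ) : Nat.card (Matrix.SpecialLinearGroup (Fin (k + 1)) F) =
    Fintype.card F ^ (∑ i ∈ range k, (i + 1)) * ∏ i ∈ range k, (Fintype.card F ^ (i + 2) - 1) := by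
  have h := H4.card_SL_mul (F := F) (ι := Fin (k + 1))
  rw [H5.card_GL_prod, prod_range_succ', prod_range_succ', prod_pow_eq_pow_sum] at h
  exact Nat.eq_of_mul_eq_mul_right (Nat.sub_pos_of_lt Fintype.one_lt_card) (h.trans (by simp [mul_assoc]))

theorem psl_bound {k : ℕ} (hk : k ≠ 0) :
    Fintype.card F ^ (∑ i ∈ range k, (i + 1)) ∣ Nat.card (Matrix.ProjectiveSpecialLinearGroup (Fin (k + 1)) F) ∧
    Nat.card (Matrix.ProjectiveSpecialLinearGroup (Fin (k + 1)) F) < Fintype.card F ^ (k * (k + 2)) := by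
  refine ⟨dvd_card_quot (Matrix.SpecialLinearGroup.coeMonoidHom) Subtype.val_injective (fun z hz => ?_)
    (pow_one _).symm one_ne_zero (card_SL_eq (F := F) k ▸ dvd_mul_right _ _),
    (card_quot_le _).trans_lt (lt_of_le_of_lt ?_ (prod_uq_lt Fintype.one_lt_card hk))⟩
  · obtain ⟨c, -, h⟩ := Matrix.SpecialLinearGroup.mem_center_iff.1 hz
    exact ⟨c, by rw [Matrix.smul_one_eq_diagonal]; exact h.symm⟩
  · rw [card_SL_eq, prod_mul_distrib, prod_pow_eq_pow_sum]
    gcongr; unfold H5.uq; split_ifs <;> omega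

theorem bd_psl {k : ℕ} (hk : 2 ≤ k) : Bd p (Nat.card (Matrix.ProjectiveSpecialLinearGroup (Fin (k + 1)) F)) :=
  have h := psl_bound (F := F) (k := k) (by omega)
  bd_of F (pow_one _).symm one_ne_zero h.1 (cube_lt h.2)
    (by have := two_mul_sum k; nlinarith)

theorem bd_psu {k q : ℕ} (hF : Fintype.card F = q ^ 2) (hk : 2 ≤ k) : Bd p (Nat.card (PSU (k + 1) F q)) := by
  have h := H5.uf_frob hF
  refine bd_of F hF two_ne_zero (N := ∑ i ∈ range k, (i + 1)) (dvd_card_quot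
    (Matrix.SpecialLinearGroup.coeMonoidHom.comp (SU (k + 1) F q).subtype)
    (Subtype.val_injective.comp Subtype.val_injective) (fun z hz => h.mem_center_SU.1 hz) hF two_ne_zero ?_)
    (cube_lt ((card_quot_le _).trans_lt (h.card_SU k ▸ prod_uq_lt h.two_le (k := k) (by omega))))
    (by have := two_mul_sum k; nlinarith)
  rw [h.card_SU, prod_mul_distrib, prod_pow_eq_pow_sum]; exact dvd_mul_right _ _

theorem bd_psp {m : ℕ} (hm : 2 ≤ m) : Bd p (Nat.card (PSp m F)) := by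
  have : Nonempty (Fin m) := ⟨⟨0, by omega⟩⟩
  refine bd_of F (pow_one _).symm one_ne_zero (N := m ^ 2) (E := (m ^ 2 + 2 * ∑ i ∈ range m, (i + 1)) * 3)
    (dvd_card_quot (Matrix.symplecticGroup (Fin m) F).subtype Subtype.val_injective
      (fun z hz => H5.mem_center_sp_iff.1 hz) (pow_one _).symm one_ne_zero (H5.card_sp (F := F) m ▸ dvd_mul_right _ _))
    (cube_lt ((card_quot_le _).trans_lt ?_)) (by rw [two_mul_sum]; nlinarith)
  rw [H5.card_sp, pow_add, mul_sum, ← prod_pow_eq_pow_sum]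
  have := Fintype.one_lt_card (α := F)
  exact mul_lt_mul_of_pos_left (prod_lt_prod_of_nonempty (fun i _ => Nat.sub_pos_of_lt (Nat.one_lt_pow (by omega) this))
    (fun i _ => Nat.sub_lt (by positivity) one_pos) (by simp; omega)) (by positivity)

theorem bd_pOmega {ι : Type} [Fintype ι] [DecidableEq ι] (Q : QuadraticForm F (ι → F)) (hB : (H6.pb Q).Nondegenerate)
    {d k : ℕ} (hd : d ≤ 1) (hk : 3 ≤ k) (h : Fintype.card ι = 2 * k + d + 1) : Bd p (Nat.card (POmega F Q)) := by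
  have h1 := card_pOmega hB hd (k := k) (by omega) (by simpa using h)
  have e := H6.commutatorEquiv (H6.ogEquiv Q)
  have h2 := Fintype.one_lt_card (α := F)
  have : Finite (H6.OG Q) := Finite.of_injective (fun g : H6.OG Q => (g.1 : (ι → F) → ι → F))
    fun _ _ h => H6.OG_ext (congrFun h)
  rw [Nat.card_congr (QuotientGroup.congr (center _) (center _) e (by
    ext g; obtain ⟨g, rfl⟩ := e.surjective g
    refine (mem_map_iff_mem (f := e.toMonoidHom) e.injective).trans ?_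
    simp only [mem_center_iff, e.surjective.forall, ← map_mul, e.injective.eq_iff])).toEquiv]
  refine bd_of F (pow_one _).symm one_ne_zero h1.1 (E := 2 * k + 3 * (d + 1) + (k + d) * (2 * k + 1) * 3)
    (lt_of_mul_lt_mul_left (a := 8 ^ k) ?_ (Nat.zero_le _)) (by interval_cases d <;> nlinarith)
  calc _ = (2 ^ k * Nat.card (commutator (H6.OG Q) ⧸ center (commutator (H6.OG Q)))) ^ 3 := by
        rw [mul_pow, ← pow_mul, pow_mul']; rfl
    _ ≤ _ := Nat.pow_le_pow_left ((Nat.mul_le_mul_left _ ((card_quot_le _).trans (card_le_card_group _))).trans h1.2) 3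
    _ = 27 ^ k * (2 ^ (3 * (d + 1)) * Fintype.card F ^ ((k + d) * (2 * k + 1) * 3)) := by
        rw [show 27 = 3 ^ 3 from rfl, ← pow_mul 3]; ring
    _ < (8 * 2 ^ 2) ^ k * (2 ^ (3 * (d + 1)) * Fintype.card F ^ ((k + d) * (2 * k + 1) * 3)) := by
        gcongr; norm_num
    _ ≤ (8 * Fintype.card F ^ 2) ^ k * (Fintype.card F ^ (3 * (d + 1)) * Fintype.card F ^ ((k + d) * (2 * k + 1) * 3)) := by
        gcongr <;> exact h2
    _ = _ := by ring

theorem bd_chev {D : ChevalleyDatum} [RootFacts D] [NFacts D] [MatFacts D] [ChainFacts D] {d : ℕ} {ds : List ℕ}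
    (h : (Nat.card (D.group F) : ℤ) * Nat.card (zker D F) =
      Nat.card F ^ (D.nroots / 2) * ((d :: ds).map fun d : ℕ => (Nat.card F : ℤ) ^ d - 1).prod)
    (h' : (D.nroots / 2 + (d :: ds).sum) * 3 ≤ 8 * (D.nroots / 2)) : Bd p (Nat.card (D.group F)) :=
  bd_of F (pow_one _).symm one_ne_zero (by
    rw [← Nat.card_eq_fintype_card, ← (isChev_xg (D := D) (K := F)).card_UU]; exact card_subgroup_dvd_card _)
    (cube_lt (Nat.card_eq_fintype_card (α := F) ▸ lt_pow_of_mul_eq Nat.card_pos Nat.card_pos h)) h'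

theorem bd_rank_one {a q n : ℕ} (hq : Fintype.card F = q) (ha : 2 ≤ a) (h : n = q ^ a * (q - 1) * (q ^ a + 1)) : Bd p n := by
  have h1 : 1 < q := hq ▸ Fintype.one_lt_card
  refine bd_of F (hq.trans (pow_one _).symm) one_ne_zero (N := a) (E := (a + a + 1) * 3)
    (h ▸ (dvd_mul_right _ _).mul_right _) (cube_lt ?_) (by omega)
  have h2 := Nat.pow_le_pow_right h1.le (show 1 ≤ a by omega)
  obtain ⟨r, rfl⟩ := Nat.exists_eq_add_one.2 h1.le
  rw [h, pow_succ, pow_add, mul_assoc, mul_assoc, add_tsub_cancel_right]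
  exact mul_lt_mul_of_pos_left (by nlinarith) (by positivity)

end Cfsg.Agent.H8
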