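import Cfsg.Agent.H8.TwX
import Cfsg.Agent.H7.TwOutD4

/-! The Schur multiplier of the twisted group of type `D4`. -/

set_option autoImplicit false
set_option linter.unusedSectionVars false

namespace Cfsg.Agent.H8

open Cfsg.Lie Matrix Cfsg.Agent.H7
open scoped commutatorElement

universe u

variable {K : Type*} [Field K] {G : Type u} [Group G] {x : ℕ → K → G} {q : ℕ} {φ : K →+* K} {σ : G →* G}

local notation "𝐧 " k:max => (⟨k, by decide⟩ : Fin chevD4.rank)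

theorem zker_D4 (hφ : ∀ t, φ t = t ^ q) {a : Fin 4 → Kˣ} (ha : a ∈ TS K pfD4 fun _ => q) (hz : a ∈ zker chevD4 K) : a = 1 := by
  have h3 : torChar a _ = 1 := zker_list hz [1, 2, 1, 1] [0, 1] (by decide +kernel)
  have h4 : torChar a _ = 1 := zker_list hz [2, 2, 1, 1] [2] (by decide +kernel)
  have h5 : torChar a _ = 1 := zker_list hz [2, 3, 2, 2] [1, 0, 1, 1] (by decide +kernel)
  have h7 : a 2 = a 0 ^ q := ha (0 : Fin 4)
  have h8 : a 3 = a 2 ^ q := ha (2 : Fin 4)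
  simp [torChar, Fin.prod_univ_four, zpow_ofNat] at h3 h4 h5
  have h10 : a 0 ^ q = a 0 := Units.ext (by
    rcases sq_eq_one_iff.1 (show (a 0 : K) ^ 2 = 1 by rw [← Units.val_pow_eq_pow_val, h4]; rfl) with h | h <;>
      simp [← hφ, h])
  rw [h8, h7, h10, h10, ← pow_two, h4, one_mul] at h5
  refine funext fun i : Fin 4 => show a i = 1 from ?_
  fin_cases i <;> simp [h7, h8, h3, h5]

theorem hProd_D4 (hx : IsSt chevD4 x) (h3 : R3 chevD4 x) (a : Fin chevD4.rank → Kˣ) : hProd chevD4 x a =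
    hE chevD4 x 18 (a (𝐧 0)) * (hE chevD4 x 13 (a (𝐧 2)) * hE chevD4 x 12 (a (𝐧 3))) * hE chevD4 x 14 (a (𝐧 1)) := by
  rw [hProd_perm hx h3 a (l := [𝐧 0, 𝐧 2, 𝐧 3, 𝐧 1]) (by decide +kernel)]
  simp only [List.map, List.prod_cons, List.prod_nil, mul_one, mul_assoc]; rfl

/-- Layers. -/
def layD4 (r : ℕ) : ℕ := [1, 1, 0, 2, 2, 3, 1, 2, 3, 3, 4, 5].getD (r - 12) 0

/-- Base roots of the layers. -/
def bD4 (k : ℕ) : ℕ := [14, 18, 19, 17, 22, 23].getD k 0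

/-- Exponents of the torus elements. -/
def mD4 (m : ℤ × ℤ × ℤ × ℤ) (i : Fin chevD4.rank) : ℤ × ℤ × ℤ :=
  [(m.1, m.2.1, m.2.2.1), (m.2.2.2, m.2.2.2, m.2.2.2), (m.2.2.1, m.1, m.2.1), (m.2.1, m.2.2.1, m.1)].getD i 0

/-- Coordinates of the base roots. -/
def rcD4 (k : ℕ) (i : Fin chevD4.rank) : ℤ :=
  (([[0, 1, 0, 0], [1, 0, 0, 0], [1, 1, 0, 0], [0, 1, 1, 1], [1, 1, 1, 1], [1, 2, 1, 1]] : List (List ℤ)).getD k []).getD i 0

/-- Separating torus elements. -/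
def tabD4 (k j : ℕ) : ℤ × ℤ × ℤ × ℤ := ([[], [(1, 0, 0, 0), (1, 0, 0, 0)], [(1, 0, 0, 0), (1, 0, 0, 0), (1, 0, 0, 0)],
  [(1, -1, 0, 0), (0, 0, 0, 1), (-1, -1, -1, 1), (-1, 0, 0, 1)], [(1, 0, 0, 0), (1, 0, 0, -1), (1, -1, 0, 0), (-1, 0, 0, 1), (1, 0, 0, 0)],
  [(1, 0, 0, 0), (1, -1, 0, 0), (1, -1, 0, 0), (1, -1, 0, 0), (-1, 0, 0, 1), (1, 0, 0, 0)]].getD k []).getD j 0

set_option synthInstance.maxSize 4000 in
theorem layOK_D4 : LayOK chevD4 K rhoD4 layD4 bD4 6 := layOK_of agrD4 (p := 0) (by simp) (by decide +kernel)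

/-- Separation certificates. -/
def CertD4 (good : List (ℤ × ℤ × ℤ)) (k j : ℕ) : Prop :=
  exv (mD4 (tabD4 k j)) (rcD4 j) = 0 ∧ exv (mD4 (tabD4 k j)) (rcD4 k) ∈ good ∨
    exv (mD4 (tabD4 k j)) (rcD4 k) = 0 ∧ exv (mD4 (tabD4 k j)) (rcD4 j) ∈ good ∨
    exv (mD4 (tabD4 k j)) (rcD4 j) = (1, 0, 0) ∧ exv (mD4 (tabD4 k j)) (rcD4 k) = (1, 0, 0)

instance decCertD4 (good : List (ℤ × ℤ × ℤ)) (k j : ℕ) : Decidable (CertD4 good k j) := by unfold CertD4; infer_instance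

variable [Fintype K] (hq : 1 < q) (hF : Fintype.card K = q ^ 3) (hφ : ∀ t, φ t = t ^ q)
  (h : TwD chevD4 x σ rhoD4 pfD4 (twF triD4 φ) (twS x (d4Words K q)) (fun i => {j | j ∈ oLD4 i}) (fun _ => q) (zD4 x q))
include hF hφ

theorem cube_D4 (t : K) : φ (φ (φ t)) = t := by
  rw [hφ, hφ, hφ, ← pow_mul, ← pow_mul, ← pow_three, ← hF, FiniteField.pow_card]

include h

set_option synthInstance.maxSize 2000 in
theorem chS_D4 : chS chevD4 x h.st (twS x (d4Words K q)) = TS K pfD4 fun _ => q := by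
  have hx := h.st
  obtain ⟨ξ, η, a1⟩ := h.exists_abO_one (i := ⟨1, by decide⟩) hφ rfl
  obtain ⟨ξ', η', a0⟩ := h.exists_abO (i := ⟨0, by decide⟩) (RingHom.id K) [(18, RingHom.id K), (13, φ), (12, φ.comp φ)]
    (by simp only [List.map]; decide +kernel) (by simp only [Set.mem_ofPred_eq]; decide +kernel) (by simp only [List.map]; decide +kernel)
    (fun t => by simpa [hφ] using mem_d4b (r := 18) (s := 13) (k := 12) (by simp) t)
    (fun t => by simpa [hφ, show chevD4.neg 18 = 5 from rfl, show chevD4.neg 13 = 10 from rfl,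
      show chevD4.neg 12 = 11 from rfl] using mem_d4b (r := 5) (s := 10) (k := 11) (by simp) t)
    (fun t => by simpa using co_d4 hx t _ _ ⟨0, by decide⟩) (fun _ _ t _ => ⟨t, rfl⟩)
    (nrep_wJ _ (R := [18, 13, 12]) [0, 2, 3] (by decide +kernel))
  have := h.card_chS (fun a ha => ?_) (Or.inl fun a => zker_D4 hφ)
  · rw [show zker chevD4 K ⊓ _ = ⊥ from eq_bot_iff.2 fun a ha => zker_D4 hφ ha.2 ha.1, Subgroup.card_bot, mul_one] at this
    exact Subgroup.eq_of_le_of_card_ge h.chS_le this.ge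
  refine psi_mem [[(0 : Fin 4), (2 : Fin 4), (3 : Fin 4)], [(1 : Fin 4)]] (by decide +kernel)
    (List.forall_mem_cons.2 ⟨a0.pl_mem hx (a (0 : Fin 4)).ne_zero _ fun s => ?_, List.forall_mem_singleton.2 (a1.pl_mem hx
      (t := ⟨a (1 : Fin 4), by rw [RingHom.mem_eqLocusField, hφ]; exact (congrArg Units.val (ha (1 : Fin 4))).symm⟩)
      (fun e => (a _).ne_zero (congrArg Subtype.val e)) _ fun s => (mul_one _).symm)⟩)
  have h7 : a (2 : Fin 4) = a (0 : Fin 4) ^ q := ha (0 : Fin 4)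
  have h8 : a (3 : Fin 4) = a (2 : Fin 4) ^ q := ha (2 : Fin 4)
  simp only [List.map, h8, h7, RingHom.comp_apply, hφ]; rfl

variable {Γ : Type*} [Group Γ] {θ : Γ →* G} {co χ : ℕ → Γ → K} (F : Lf chevD4 x layD4 bD4 6 θ (twS x (d4Words K q)) co χ)
include F

theorem tor_D4 (m : ℤ × ℤ × ℤ × ℤ) (y : Kˣ) : ∃ g ∈ (HH chevD4 x).comap θ, ∀ k < 6, χ k g = mono φ y (exv (mD4 m) (rcD4 k)) := by
  have h2 : ∀ y : Kˣ, Units.map φ.toMonoidHom y = y ^ q := fun y => Units.ext (by simp [hφ])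
  have h3 : ∀ y : Kˣ, Units.map φ.toMonoidHom (Units.map φ.toMonoidHom (Units.map φ.toMonoidHom y)) = y := fun y =>
    Units.ext (cube_D4 hF hφ _)
  obtain ⟨g, h4, h5⟩ := F.tor h.faith (c := fun i => mono φ y (mD4 m i)) (by
    rw [chS_D4 hF hφ h]
    intro i
    have h4 : mD4 m (pfD4 i) = ((mD4 m i).2.2, (mD4 m i).1, (mD4 m i).2.1) := by fin_cases i <;> rfl
    simp only [← h2, h4, mono, map_mul, map_zpow, h3]
    rw [mul_assoc, mul_comm])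
  exact ⟨g, h4, fun k hk => by
    rw [h5 k hk, ← torChar_mono, rc_eq (c := rcD4 k) (by revert k; decide +kernel)]⟩

theorem long_D4 {N : Subgroup Γ} {k : ℕ} (hk : k ∈ [0, 4, 5]) :
    PairC ((HH chevD4 x).comap θ) (fun k => (XS x (FL chevD4 layD4 k)).comap θ) co χ k k N := by
  obtain ⟨h3, a, -, h4, h5⟩ := (by decide +kernel : ∀ k ∈ [0, 4, 5], k < 6 ∧ ∃ a ∈ [(1, 23, 1), (1, 23, -1), (9, 23, 1), (9, 23, -1),
    (14, 22, 1), (14, 22, (-1 : ℤ))], (∀ s ∈ [bD4 k, a.1, a.2.1], twT triD4 s = (s, 1, 1)) ∧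
      a.1 < chevD4.nroots ∧ a.2.1 < chevD4.nroots ∧ a.2.1 ≠ a.1 ∧ a.2.1 ≠ chevD4.neg a.1 ∧
      chevD4.commTerms a.1 a.2.1 = [(bD4 k, a.2.2, 1, 1)] ∧ a.2.2 * a.2.2 = 1 ∧
      ∀ s ∈ [a.1, a.2.1], s ≠ chevD4.neg (bD4 k) ∧ chevD4.commTerms (bD4 k) s = []) k hk
  exact F.long (φ := φ) layOK_D4 h h3 (fun s hs => ⟨congrArg Prod.fst (h4 s hs), by simp [twF, h4 s hs]⟩) h5

include hq

theorem cert_D4 {N : Subgroup Γ} {good : List (ℤ × ℤ × ℤ)} (hg : ∀ e ∈ good, ∃ y, mono φ y e ≠ 1) {k j : ℕ} (hk : k < 6) (hj : j < 6)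
    (hc : CertD4 good k j) : PairC ((HH chevD4 x).comap θ) (fun k => (XS x (FL chevD4 layD4 k)).comap θ) co χ j k N :=
  pairC_cert (ex := fun i => exv (mD4 (tabD4 k j)) (rcD4 i)) (fun y => let ⟨g, h1, h2⟩ := tor_D4 hF hφ h F _ y; ⟨g, h1, h2 j hj, h2 k hk⟩)
    ⟨Finset.univ, by rw [Finset.card_univ, hF]; exact lt_of_lt_of_le (by norm_num) (Nat.pow_le_pow_left hq 3)⟩ hg hc

omit h F in
theorem good_D4 : ∀ e ∈ [((1 : ℤ), (0 : ℤ), (0 : ℤ)), (1, -1, 0), (-1, 1, 0)], ∃ y, mono φ y e ≠ 1 := by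
  simp only [List.forall_mem_cons]
  obtain ⟨k, rfl⟩ := Nat.exists_eq_add_of_lt hq
  have : 1 + k + 1 < (1 + k + 1) ^ 3 := lt_self_pow₀ hq (by decide)
  exact ⟨exists_mono_ne hφ (m := 1) (by simp) (by simp) (by omega), exists_mono_ne hφ (m := 1 + k)
    (Or.inr (by push_cast; ring)) (by simp) (by omega), exists_mono_ne hφ (m := 1 + k) (Or.inl (by push_cast; ring))
    (by simp) (by omega), by simp⟩

theorem split_D4 (h2 : 2 < q) : ∃ N : Subgroup Γ, (∀ z ∈ N, z ∈ θ.ker → z = 1) ∧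
    ∀ a ∈ (XS x (FL chevD4 layD4 0)).comap θ, ∀ b ∈ (XS x (FL chevD4 layD4 0)).comap θ, ⁅a, b⁆ ∈ N := by
  have h3 : 1 + q + q ^ 2 + 1 < q ^ 3 := by nlinarith
  have hg : ∀ e ∈ [((1 : ℤ), (1 : ℤ), (1 : ℤ)), (-1, -1, -1), (1, 0, 0), (1, -1, 0), (-1, 1, 0)], ∃ y, mono φ y e ≠ 1 :=
    List.forall_mem_cons.2 ⟨exists_mono_ne hφ (m := 1 + q + q ^ 2) (Or.inl (by push_cast; ring)) (by simp) (by omega),
      List.forall_mem_cons.2 ⟨exists_mono_ne hφ (m := 1 + q + q ^ 2) (Or.inr (by push_cast; ring)) (by simp) (by omega),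
      good_D4 hq hF hφ⟩⟩
  refine F.filt.final (m := 5) le_rfl F.filt.inv_last (fun k hk j hj => ?_) fun k hk h0 => ?_
  · obtain h4 | ⟨rfl, h4⟩ := (by decide +kernel : ∀ k ≤ 5, ∀ j ≤ k, CertD4 [((1 : ℤ), (1 : ℤ), (1 : ℤ)), (-1, -1, -1), (1, 0, 0),
      (1, -1, 0), (-1, 1, 0)] k j ∨ j = k ∧ k ∈ [0, 4, 5]) k hk j hj
    · exact cert_D4 hq hF hφ h F hg (by omega) (by omega) h4
    · exact long_D4 hF hφ h F h4
  · obtain ⟨y, hy⟩ := hg (exv (mD4 (tabD4 k k)) (rcD4 k)) (by revert k; decide +kernel)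
    obtain ⟨g, h1, h2⟩ := tor_D4 hF hφ h F (tabD4 k k) y
    exact ⟨g, h1, by simpa [h2 k (by omega)] using hy⟩

omit hq F in
theorem xi_D4 (h2 : (2 : K) = 0) {r s k : ℕ} (hr : (r, s, k) ∈ [(19, 16, 15), (17, 20, 21)]) (t : K) :
    x r t * (x s (φ t) * x k (φ (φ t))) ∈ twS x (d4Words K q) := by
  obtain ⟨h1, h3, h4, h5, h6, h7, h8, h9⟩ := (by decide +kernel : ∀ r ∈ [(19, 16, 15), (17, 20, 21)],
    (∀ s ∈ [r.1, r.2.1, r.2.2], chevD4.IsPosRoot s ∧ (twT triD4 s).2 ∈ [(1, 1), (1, -1)]) ∧ rhoD4 r.1 = r.2.1 ∧ rhoD4 r.2.1 = r.2.2 ∧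
    rhoD4 r.2.2 = r.1 ∧ chevD4.commTerms r.1 r.2.1 = [] ∧ r.2.1 ≠ chevD4.neg r.1 ∧
    chevD4.commTerms r.1 r.2.2 = [] ∧ r.2.2 ≠ chevD4.neg r.1) _ hr
  have h10 : ∀ a ∈ [r, s, k], ∀ t, σ (x a t) = x (rhoD4 a) (φ t) := fun a ha t => by
    have := (h1 a ha).2
    simp only [List.mem_cons, List.not_mem_nil, or_false] at this
    rcases this with e | e <;> simp [h.tw.map, twF, e, show -φ t = φ t by linear_combination -h2 * φ t]
  refine h.sub.mem_of_UU h.tw h.faith (mul_mem (x_mem_UU x (h1 _ (by simp)).1 _) (mul_mem (x_mem_UU x (h1 _ (by simp)).1 _)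
    (x_mem_UU x (h1 _ (by simp)).1 _))) ?_
  simp only [map_mul, h10 r (by simp), h10 s (by simp), h10 k (by simp), cube_D4 hF hφ] at h3 h4 h5 ⊢
  rw [h3, h4, h5, ((h.st.commute h7 h6 _ _).mul_right (h.st.commute h9 h8 _ _)).eq, mul_assoc]

set_option synthInstance.maxSize 4000 in
theorem split_D4_two (h2 : q = 2) : ∃ N : Subgroup Γ, (∀ z ∈ N, z ∈ θ.ker → z = 1) ∧
    ∀ a ∈ (XS x (FL chevD4 layD4 0)).comap θ, ∀ b ∈ (XS x (FL chevD4 layD4 0)).comap θ, ⁅a, b⁆ ∈ N := by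
  subst h2
  have hx := h.st
  have two : (2 : K) = 0 := pow_eq_zero_iff (n := 3) (by decide) |>.1 (by
    have := FiniteField.cast_card_eq_zero K; rw [hF] at this; exact_mod_cast this)
  have L := layOK_D4 (K := K)
  have Fi := F.filt
  have cen := Fi.cen
  have cc : ∀ k < 6, ∀ g t w, θ g = x (bD4 k) t * w → w ∈ XS x (FL chevD4 layD4 k \ {bD4 k}) →
      g ∈ (XS x (FL chevD4 layD4 k)).comap θ ∧ co k g = t := fun k hk g t w e hw => by
    obtain ⟨h1, h2⟩ := L.base k hk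
    have h3 : CoL chevD4 x layD4 (bD4 k) (θ g) t := e ▸ CoL.of_mul (h2.symm ▸ hw) t
    exact ⟨h2 ▸ h3.mem h1, F.co k hk g t h3⟩
  have h01 : ∀ k ∈ [0, 4, 5], ∀ g ∈ (XS x (FL chevD4 layD4 k)).comap θ, co k g = 0 ∨ co k g = 1 := fun k hk g hg => by
    obtain ⟨h1, h2⟩ := (by decide +kernel : ∀ k ∈ [0, 4, 5], k < 6 ∧ twT triD4 (bD4 k) = (bD4 k, 1, 1)) k hk
    obtain ⟨h3, h4⟩ := L.base k h1
    obtain ⟨t, ht⟩ := L.exists_coL hx h3 (h4.symm ▸ hg)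
    have h5 := L.coL_map h.tw h3 ht
    rw [h.sub.fix _ (F.range ▸ ⟨g, rfl⟩), show rhoD4 (bD4 k) = bD4 k from congrArg Prod.fst h2] at h5
    have h6 := L.coL_unique h.faith h3 h5 ht
    simp only [twF, h2, hφ] at h6
    rw [F.co k h1 g t ht]; grind
  choose a ha using fun t => show _ ∈ θ.range from F.range ▸ xi_D4 hF hφ h two (r := 19) (s := 16) (k := 15) (by simp) t
  choose b hb using fun t => show _ ∈ θ.range from F.range ▸ xi_D4 hF hφ h two (r := 17) (s := 20) (k := 21) (by simp) t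
  have hm := fun t ht => mem_d4a (x := x) (q := 2) (r := 14) (by simp) (t := t) ht
  obtain ⟨l, hl⟩ : x 14 1 ∈ θ.range := F.range ▸ hm 1 (by simp)
  obtain ⟨n, hn⟩ : nE chevD4 x 14 1 ∈ θ.range := F.range ▸ mul_mem (mul_mem (hm 1 (by simp))
    (mem_d4a (r := 9) (by simp) (by grind))) (hm 1 (by simp))
  have hn' : ∀ r ∈ [(19, 18), (16, 13), (15, 12), (17, 17), (20, 20), (21, 21), (23, 22)], ∀ u,
      θ n * x r.1 u * (θ n)⁻¹ = x r.2 u := fun r hr => hn ▸ hx.nE_conj_two two (by revert r; decide +kernel)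
  simp only [List.forall_mem_cons] at hn'
  obtain ⟨n1, n2, n3, n4, n5, n6, n7, -⟩ := hn'
  have na : ∀ t, θ (n * a t * n⁻¹) = x 18 t * (x 13 (φ t) * x 12 (φ (φ t))) := fun t => by
    rw [← n1, ← n2, ← n3]; simp [ha, mul_assoc]
  have nb : ∀ t, θ (n * b t * n⁻¹) = θ (b t) := fun t => by
    conv_rhs => rw [hb, ← n4, ← n5, ← n6]
    simp [hb, mul_assoc]
  have mm : ∀ k, ∀ r ∈ (List.range 24).filter fun r => chevD4.IsPosRoot r ∧ k ≤ layD4 r ∧ r ≠ bD4 k, ∀ t,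
      x r t ∈ XS x (FL chevD4 layD4 k \ {bD4 k}) := fun k r hr t => by
    simp only [List.mem_filter, decide_eq_true_eq] at hr
    exact x_mem_XS (And.intro (And.intro hr.2.1 hr.2.2.1) hr.2.2.2) t
  have ca := fun t => cc 2 (by decide) _ t _ (ha t) (mul_mem (mm _ _ (by decide +kernel) _) (mm _ _ (by decide +kernel) _))
  have cb := fun t => cc 3 (by decide) _ t _ (hb t) (mul_mem (mm _ _ (by decide +kernel) _) (mm _ _ (by decide +kernel) _))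
  have cs := fun t => cc 1 (by decide) _ t _ (na t) (mul_mem (mm _ _ (by decide +kernel) _) (mm _ _ (by decide +kernel) _))
  have cl := cc 0 (by decide) _ 1 _ (hl.trans (mul_one _).symm) (one_mem _)
  have r1 : θ ⁅a 1, b 1⁆ = x 23 1 := by
    rw [map_commutatorElement, commutatorElement_def, mul_inv_eq_iff_eq_mul, mul_inv_eq_iff_eq_mul]
    simpa [ha, hb, mev, mul_assoc] using hx.eq_of_weq agrD4 (p := 2) two (fun _ => 0) (key := id)
        (w := [(19, [(1, [])]), (16, [(1, [])]), (15, [(1, [])]), (17, [(1, [])]), (20, [(1, [])]), (21, [(1, [])])])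
        (w' := [(23, [(1, [])]), (17, [(1, [])]), (20, [(1, [])]), (21, [(1, [])]), (19, [(1, [])]), (16, [(1, [])]), (15, [(1, [])])])
        (by decide +kernel)
  have r2 : θ (n * ⁅a 1, b 1⁆ * n⁻¹) = x 22 1 := by simp [r1, n7]
  have c5 := cc 5 (by decide) _ 1 _ (r1.trans (mul_one _).symm) (one_mem _)
  have c4 := cc 4 (by decide) _ 1 _ (r2.trans (mul_one _).symm) (one_mem _)
  have k1 : ∀ r ∈ [14, 22], ∀ g, θ g = x r 1 → Commute (θ g) (θ (a 1)) ∧ Commute (θ g) (θ (b 1)) := fun r hr g e => by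
    have := (by decide +kernel : ∀ r ∈ [14, 22], ∀ s ∈ [19, 16, 15, 17, 20, 21], s ≠ chevD4.neg r ∧ chevD4.commTerms r s = []) r hr
    have h1 := fun s hs => hx.commute (this s hs).1 (this s hs).2 1
    rw [e, ha, hb]
    exact ⟨(h1 _ (by simp) _).mul_right ((h1 _ (by simp) _).mul_right (h1 _ (by simp) _)),
      (h1 _ (by simp) _).mul_right ((h1 _ (by simp) _).mul_right (h1 _ (by simp) _))⟩
  have k2 : ∀ r ∈ [14, 22], ∀ g, θ g = x r 1 → ∀ N : Subgroup Γ, ⁅g, ⁅a 1, b 1⁆⁆ ∈ N := fun r hr g e N => by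
    rw [commutatorElement_eq_one_iff_commute.2 (commute_comm cen (k1 r hr g e).1 (k1 r hr g e).2)]; exact one_mem _
  have pc : ∀ N, ∀ k < 6, ∀ j ≤ k, (j, k) ∉ [(1, 3), (2, 3), (0, 4)] →
      PairC ((HH chevD4 x).comap θ) (fun k => (XS x (FL chevD4 layD4 k)).comap θ) co χ j k N := fun N k hk j hj h0 => by
    obtain h4 | ⟨rfl, h4⟩ | ⟨rfl, rfl⟩ | ⟨rfl, rfl⟩ := (by decide +kernel : ∀ k < 6, ∀ j ≤ k, (j, k) ∉ [(1, 3), (2, 3), (0, 4)] →
      CertD4 [((1 : ℤ), (0 : ℤ), (0 : ℤ)), (1, -1, 0), (-1, 1, 0)] k j ∨ j = k ∧ k ∈ [0, 4, 5] ∨ j = 0 ∧ k = 5 ∨ j = 4 ∧ k = 5) k hk j hj h0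
    · exact cert_D4 hq hF hφ h F (good_D4 hq hF hφ) hk (by omega) h4
    · exact long_D4 hF hφ h F h4
    · exact Fi.pairC_two (by decide) hk (h01 _ (by simp)) (h01 _ (by simp)) cl c5 (k2 14 (by simp) _ hl _)
    · exact Fi.pairC_two (by decide) hk (h01 _ (by simp)) (h01 _ (by simp)) c4 c5 (k2 22 (by simp) _ r2 _)
  have ab : ∀ m ∈ [(3, 3), (2, 4)], ∀ g ∈ (XS x (FL chevD4 layD4 m.1)).comap θ, ∀ g' ∈ (XS x (FL chevD4 layD4 m.2)).comap θ,
      Commute g g' := fun m hm => Fi.abel (by revert m; decide) (by revert m; decide) (fun g hg g' hg' => Fi.last (by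
        rw [Subgroup.mem_comap, map_commutatorElement]; exact L.comm_mem' hx (by clear hg hg'; revert m; decide +kernel) hg hg'))
      fun j hj k hk h1 h2 => (le_total j k).elim (fun e => pc _ k hk j e (by revert m j k; decide))
        fun e => (pc _ j hj k e (by revert m j k; decide)).symm
  have a33 := ab (3, 3) (by simp)
  have a24 := ab (2, 4) (by simp)
  have m5 : ∀ g ∈ (XS x (FL chevD4 layD4 2)).comap θ, ∀ g' ∈ (XS x (FL chevD4 layD4 2)).comap θ,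
      ⁅g, g'⁆ ∈ (XS x (FL chevD4 layD4 5)).comap θ := fun g hg g' hg' => by
    rw [Subgroup.mem_comap, map_commutatorElement]; exact L.comm_mem' hx (by decide +kernel) hg hg'
  have s5 := Fi.step1 (by decide : 5 < 6) Fi.inv_last fun j hj => pc _ 5 (by decide) j hj (by simp)
  have s5' := fun g hg g' hg' => commutatorElement_eq_one_iff_commute.1 (Subgroup.mem_bot.1 (s5 g hg g' hg'))
  have t7 : ∀ g ∈ (HH chevD4 x).comap θ, ∀ y, Commute (g ^ 7) y := fun g hg =>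
    central_of_one cen (by simpa [hF] using hx.pow_HH hg)
  have d2 := Fi.crd 2 (by decide)
  have d3 := Fi.crd 3 (by decide)
  have d5 := Fi.crd 5 (by decide)
  have t5 : ∀ g ∈ (HH chevD4 x).comap θ, ∀ y ∈ (XS x (FL chevD4 layD4 5)).comap θ, Commute g y := fun g hg y hy =>
    commute_of_coprime (m := 2) (cen (Fi.last ((d5.zero _ (d5.comm_mem hg hy)).1 (by
      rw [d5.comm hg hy, Fi.chi_one (by decide) c5.1 c5.2 (h01 _ (by simp)) hg]; simp))))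
      (Fi.commute (Fi.last ((d5.zero _ (pow_mem hy 2)).1 (by rw [pow_two, d5.add _ hy _ hy]; grind))) g).symm (t7 g hg y)
      (by decide)
  have g0 : ⁅a 0, b 1⁆ = 1 := commutatorElement_eq_one_iff_commute.2 (a33 _ ((d2.zero _ (ca 0).1).1 (ca 0).2) _ (cb 1).1)
  have g1 : ∀ y ∈ (XS x (FL chevD4 layD4 2)).comap θ, ∀ y' ∈ (XS x (FL chevD4 layD4 3)).comap θ,
      ⁅y, y'⁆ = ⁅a (co 2 y * co 3 y'), b 1⁆ := fun y hy y' hy' => by
    by_cases h0 : co 3 y' = 0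
    · rw [h0, mul_zero, g0]; exact commutatorElement_eq_one_iff_commute.2 (a24 _ hy _ ((d3.zero _ hy').1 h0))
    obtain ⟨g, hg, h1⟩ := tor_D4 hF hφ h F (1, 0, 0, 0) (.mk0 _ h0)
    have h2 := h1 2 (by decide)
    have h3 := h1 3 (by decide)
    rw [show exv _ _ = (1, 0, 0) by decide +kernel] at h2
    rw [show exv _ _ = (0, 1, 1) by decide +kernel] at h3
    have h4 := d2.eq (d2.mem g hg y hy) (ca (co 2 y * co 3 y')).1 (by rw [d2.conj g hg y hy, (ca _).2, h2]; simp [mono, mul_comm])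
    have h5 := d3.eq (d3.mem g hg y' hy') (cb 1).1 (by
      rw [d3.conj g hg y' hy', (cb _).2, h3, ← FiniteField.pow_card_sub_one_eq_one _ h0, hF]; simp [mono, hφ]; ring)
    rw [← mul_inv_cancel_right ⁅y, y'⁆ g, ← (t5 g hg _ (m5 y hy y' (d2.le hy'))).eq, conj_comm]
    exact comm_congr' (a33 _ h4 _ (d3.mem g hg y' hy')) (a24 _ (ca _).1 _ h5)
  have p20 := Fi.anti (by decide : 2 ≤ 6) (Nat.zero_le 2)
  have p10 := Fi.anti (by decide : 1 ≤ 6) (Nat.zero_le 1)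
  have g2 : ∀ t t', ⁅a (t + t'), b 1⁆ = ⁅a t', b 1⁆ * ⁅a t, b 1⁆ := fun t t' => by
    have h1 := g1 _ (mul_mem (ca t).1 (ca t').1) _ (cb 1).1
    rw [d2.add _ (ca t).1 _ (ca t').1, (ca t).2, (ca t').2, (cb 1).2, mul_one] at h1
    rw [← h1, show ⁅a t * a t', b 1⁆ = a t * ⁅a t', b 1⁆ * (a t)⁻¹ * ⁅a t, b 1⁆ by group,
      (s5' _ (p20 (ca t).1) _ (m5 _ (ca t').1 _ (d2.le (cb 1).1))).eq, mul_inv_cancel_right]
  have g3 : ∀ t, ⁅n * a 1 * n⁻¹, a t⁆ ∈ (XS x (FL chevD4 layD4 3)).comap θ ∧ co 3 ⁅n * a 1 * n⁻¹, a t⁆ = φ t + φ (φ t) :=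
    fun t => cc 3 (by decide) _ _ (evS x (fun i => [t, φ t, φ (φ t)].getD i 0) [(20, [(1, [0, 0, 1]), (1, [1, 0, 0])]),
      (21, [(1, [0, 1, 0]), (1, [1, 0, 0])]), (22, [(1, [0, 0, 1]), (1, [0, 1, 0]), (1, [1, 0, 0])]),
      (23, [(1, [0, 1, 1]), (1, [1, 0, 1]), (1, [1, 1, 0])])]) (by
        rw [map_commutatorElement, commutatorElement_def, mul_inv_eq_iff_eq_mul, mul_inv_eq_iff_eq_mul, na]
        simpa [ha, mev, mul_assoc, bD4] using hx.eq_of_weq agrD4 (p := 2) two (fun i => [t, φ t, φ (φ t)].getD i 0) (key := id)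
          (w := [(18, [(1, [0, 0, 0])]), (13, [(1, [0, 0, 0])]), (12, [(1, [0, 0, 0])]), (19, [(1, [1, 0, 0])]),
            (16, [(1, [0, 1, 0])]), (15, [(1, [0, 0, 1])])])
          (w' := [(17, [(1, [0, 1, 0]), (1, [0, 0, 1])]), (20, [(1, [0, 0, 1]), (1, [1, 0, 0])]),
            (21, [(1, [0, 1, 0]), (1, [1, 0, 0])]), (22, [(1, [0, 0, 1]), (1, [0, 1, 0]), (1, [1, 0, 0])]),
            (23, [(1, [0, 1, 1]), (1, [1, 0, 1]), (1, [1, 1, 0])]), (19, [(1, [1, 0, 0])]), (16, [(1, [0, 1, 0])]),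
            (15, [(1, [0, 0, 1])]), (18, [(1, [0, 0, 0])]), (13, [(1, [0, 0, 0])]), (12, [(1, [0, 0, 0])])]) (by decide +kernel))
      (evS_mem (by simp only [FL, Set.mem_sdiff, Set.mem_ofPred_eq, Set.mem_singleton_iff]; decide +kernel))
  have g4 : ∀ t, ⁅a (φ t + φ (φ t)), b 1⁆ = 1 := fun t => by
    have h1 := g1 _ (ca t).1 _ (g3 1).1
    have h2 := g1 _ (ca 1).1 _ (g3 t).1
    rw [(g3 _).2, map_one, map_one, one_add_one_eq_two, two, mul_zero, g0] at h1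
    rw [(g3 _).2, (ca 1).2, one_mul] at h2
    have h3 := (s5' _ (p10 (cs 1).1) _ (m5 _ (inv_mem (ca t).1) _ (inv_mem (ca 1).1))).eq
    have h4 := (a33 _ (g3 1).1 _ (g3 t).1).eq
    have h5 := (s5' _ (p20 (d2.le (g3 1).1)) _ (m5 _ (ca 1).1 _ (d2.le (g3 t).1))).eq
    rw [← h2]
    generalize n * a 1 * n⁻¹ = s at h1 h3 h4 h5 ⊢
    generalize a t = y, a 1 = y' at h1 h3 h4 h5 ⊢
    have h6 : ⁅s, y * y'⁆ = ⁅s, y' * y⁆ := by
      calc ⁅s, y * y'⁆ = s * y' * y * s⁻¹ * (s * ⁅y⁻¹, y'⁻¹⁆) * s⁻¹ * y'⁻¹ * y⁻¹ := by group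
        _ = _ := by rw [h3]; group
    rw [show ⁅s, y * y'⁆ = ⁅s, y⁆ * ⁅y, ⁅s, y'⁆⁆ * ⁅s, y'⁆ by group, show ⁅s, y' * y⁆ = ⁅s, y'⁆ * ⁅y', ⁅s, y⁆⁆ * ⁅s, y⁆ by group,
      h1, h5, mul_one, ← h4, mul_assoc, right_eq_mul] at h6
    exact h6
  have g5 : ∀ y ∈ (XS x (FL chevD4 layD4 2)).comap θ, ∀ y' ∈ (XS x (FL chevD4 layD4 3)).comap θ,
      ⁅y, y'⁆ = 1 ∨ ⁅y, y'⁆ = ⁅a 1, b 1⁆ := fun y hy y' hy' => by
    rw [g1 y hy y' hy']
    generalize co 2 y * co 3 y' = t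
    have h1 := cube_D4 hF hφ t
    rw [show t = φ t + φ (φ t) + (t + φ t + φ (φ t)) by grind, g2, g4, mul_one]
    simp only [hφ] at h1 ⊢
    exact (show t + t ^ 2 + (t ^ 2) ^ 2 = 0 ∨ t + t ^ 2 + (t ^ 2) ^ 2 = 1 by grind).imp (fun e => by rw [e, g0]) fun e => by rw [e]
  have g6 : ⁅a 1, b 1⁆ * ⁅a 1, b 1⁆ = 1 := by rw [← g2, one_add_one_eq_two, two, g0]
  obtain ⟨N5, -, u5, I5⟩ := Fi.step3 (by decide) Fi.inv_last s5 c5.1 c5.2 g6
    (fun g hg => commutatorElement_eq_one_iff_commute.2 (t5 g hg _ c5.1)) (h01 _ (by simp))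
  have g7 : ∀ y ∈ (XS x (FL chevD4 layD4 2)).comap θ, ∀ y' ∈ (XS x (FL chevD4 layD4 3)).comap θ, ⁅y, y'⁆ ∈ N5 :=
    fun y hy y' hy' => (g5 y hy y' hy').elim (fun e => e ▸ one_mem _) fun e => e ▸ u5
  have g8 : ∀ t u, n * ⁅a t, b u⁆ * n⁻¹ = ⁅n * a t * n⁻¹, b u⁆ := fun t u => (conj_comm _ _ _).trans (comm_congr cen rfl (nb u))
  obtain ⟨N4, u4, v4, I4⟩ := Fi.step3 (by decide) I5 (Fi.step1 (by decide : 4 < 6) I5 fun j hj => by
      by_cases h0 : j = 0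
      · refine h0 ▸ Fi.pairC_two (by decide) (by decide) (h01 _ (by simp)) (h01 _ (by simp)) cl c4 ?_
        have h1 := Fi.comm 1 l cl.1 _ (cs 1).1
        have h2 := (a24 _ h1 _ c4.1).eq
        have h3 := I5.conj (Fi.anti (by decide) (Nat.zero_le 4) c4.1) (g7 _ h1 _ (cb 1).1)
        rw [commutatorElement_def, g8, conj_comm, comm_congr cen rfl (show θ (l * b 1 * l⁻¹) = θ (b 1) by
          simp [(k1 14 (by simp) l hl).2.eq])]
        rw [g8] at h2 h3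
        generalize n * a 1 * n⁻¹ = s at h2 h3 ⊢
        rwa [show ⁅l * s * l⁻¹, b 1⁆ = ⁅l, s⁆ * ⁅s, b 1⁆ * ⁅l, s⁆⁻¹ * ⁅⁅l, s⁆, b 1⁆ by group, h2, mul_inv_cancel_right]
      · exact pc _ 4 (by decide) j hj (by simp [h0])) c4.1 c4.2 (by simp [mul_assoc, ← mul_assoc ⁅a 1, b 1⁆, g6])
    (fun g hg => by
      obtain ⟨c, hc⟩ := hx.acts_of_mem_HH hg
      have h1 := (F.ch 4 (by decide) g _ hc).symm.trans (Fi.chi_one (by decide) c4.1 c4.2 (h01 _ (by simp)) hg)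
      rw [commutatorElement_eq_one_iff_commute.2 (commute_of_coprime (m := 2) (cen (by
        rw [MonoidHom.mem_ker, map_commutatorElement, commutatorElement_def, r2, hc]; simp [show (torChar c (wt chevD4 22) : K) = 1 from h1]))
        (by simp [pow_two, mul_assoc, ← mul_assoc ⁅a 1, b 1⁆, g6]) (t7 g hg _) (by decide))]
      exact one_mem _) (h01 _ (by simp))
  refine Fi.final (m := 3) (by decide) I4 (fun k hk j hj => ?_) fun k hk h0 => ?_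
  · by_cases h1 : (j, k) = (1, 3)
    · obtain ⟨rfl, rfl⟩ := Prod.ext_iff.1 h1
      exact Or.inr (Or.inr fun y _ y' _ => ⟨_, (cs _).1, _, (cb _).1, (cs _).2, (cb _).2, by
        rw [← g8]; exact (g5 _ (ca _).1 _ (cb _).1).elim (fun e => by simp [e]) fun e => e ▸ v4⟩)
    by_cases h2 : (j, k) = (2, 3)
    · obtain ⟨rfl, rfl⟩ := Prod.ext_iff.1 h2
      exact Or.inr (Or.inr fun y hy y' hy' => ⟨y, hy, y', hy', rfl, rfl, u4 (g7 y hy y' hy')⟩)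
    · exact pc _ k (by omega) j hj (by simp only [List.mem_cons, h1, h2, Prod.mk.injEq]; simp; omega)
  · obtain ⟨y, hy⟩ := good_D4 hq hF hφ (exv (mD4 (tabD4 k k)) (rcD4 k)) (by revert k; decide +kernel)
    obtain ⟨g, h1, h2⟩ := tor_D4 hF hφ h F (tabD4 k k) y
    exact ⟨g, h1, by simpa [h2 k (by omega)] using hy⟩

omit F in
set_option synthInstance.maxSize 2000 in
theorem upper_D4 : L0.UpperMult (twS x (d4Words K q)) (Multiplicative (ZMod 1)) := by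
  intro Γ _ _ τ hτ
  obtain ⟨p, _, -, hp, -⟩ := FiniteField.card' K
  have := Fact.mk hp
  have hx := h.st
  obtain ⟨h1, h2, h3⟩ := pk_of_pmult (pmult_of layOK_D4 h p fun Γ _ θ co χ F => (Nat.lt_or_ge 2 q).elim
    (split_D4 hq hF hφ h F) fun e => split_D4_two hq hF hφ h F (by omega)) hτ
  obtain ⟨H1, m1, e1, s1⟩ := exists_tor_one h h1 h2 (i := 𝐧 1) hφ rfl
  obtain ⟨H0, m0, e0, s0⟩ := exists_tor h h1 h2 (i := 𝐧 0) (RingHom.id K) [(18, RingHom.id K), (13, φ), (12, φ.comp φ)]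
    (by simp only [List.map]; decide +kernel) (by simp only [Set.mem_ofPred_eq]; decide +kernel) (by simp only [List.map]; decide +kernel)
    (fun t => by simpa [hφ] using mem_d4b (r := 18) (s := 13) (k := 12) (by simp) t)
    (fun t => by simpa [hφ, show chevD4.neg 18 = 5 from rfl, show chevD4.neg 13 = 10 from rfl,
      show chevD4.neg 12 = 11 from rfl] using mem_d4b (r := 5) (s := 10) (k := 11) (by simp) t)
    (fun t => by simpa using co_d4 hx t _ _ ⟨0, by decide⟩) (fun _ _ t _ => ⟨t, rfl⟩)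
    (nrep_wJ _ (R := [18, 13, 12]) [0, 2, 3] (by decide +kernel))
  refine ⟨1, fun ⟨z, hz⟩ => ⟨1, Subtype.ext (Eq.symm ?_)⟩⟩
  obtain ⟨_, _ | ⟨a0, _ | ⟨a1, _ | _⟩⟩, rfl⟩ := exists_prod h h1 h2 (h3 ▸ hτ.2.2)
    [𝐧 0, 𝐧 1] (fun i => let ⟨j, hj, e⟩ := (by decide +kernel : ∀ i : Fin chevD4.rank,
      ∃ j ∈ [𝐧 0, 𝐧 1], oLD4 i = oLD4 j) i; ⟨j, hj, by rw [e]⟩) (h3.ge hz)
  obtain ⟨t0, n0, rfl⟩ := s0 _ a0
  obtain ⟨t1, n1, rfl⟩ := s1 _ a1
  let a : Fin 4 → Kˣ := ![.mk0 t0 n0, .mk0 t1 (by simpa using n1), .mk0 (φ t0) (by simpa using n0),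
    .mk0 (φ (φ t0)) (by simpa using n0)]
  have h4 := zker_D4 hφ (a := a) (fun i => Units.ext (by
      fin_cases i
      exacts [hφ _, t1.2.symm.trans (hφ _), hφ _, (cube_D4 hF hφ _).symm.trans (hφ _)])) (mem_zker_of h (a := a) (by
    have : (twS x (d4Words K q)).subtype.comp τ _ = 1 := h3.ge hz
    refine (hProd_D4 hx hx.R3_of_finite a).trans (Eq.trans ?_ this)
    simp only [List.prod_cons, List.prod_nil, map_mul, e0, e1, List.map, mul_one]; rfl))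
  obtain rfl : t0 = 1 := congrArg Units.val (congrFun h4 0)
  obtain rfl : t1 = 1 := Subtype.ext (congrArg Units.val (congrFun h4 1))
  have c0 : H0 1 = 1 := by simpa using m0 1 one_ne_zero 1 one_ne_zero
  have c1 : H1 1 = 1 := by simpa using m1 1 one_ne_zero 1 one_ne_zero
  simp [c0, c1]

omit hφ h F in
theorem hasSchur_twD4 : HasCyclicSchurMultiplier (twistedD4 K q) 1 := by
  obtain ⟨φ, hφ⟩ := exists_frob hF three_ne_zero
  obtain ⟨σ, hσ⟩ := exists_twistD4 (isChev_xg (K := K)) GG_xg φ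
  have h := twD_D4 isChev_xg GG_xg hφ (cube_D4 hF hφ) hσ
  have := h.chev.finite_G h.top
  exact L0.hasSchur_congr (L0.hasSchur_of (L0.lowerMult_one _) (upper_D4 hq hF hφ h)) (twEquiv (d4Words K q))

end Cfsg.Agent.H8
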