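import Cfsg.Agent.H8.Filt
import Cfsg.Agent.H8.Expo
import Cfsg.Agent.H7.TwAut4

/-! Filtrations of the unipotent subgroups of twisted groups. -/

set_option autoImplicit false
set_option linter.unusedSectionVars false

namespace Cfsg.Agent.H8

open Cfsg.Lie Matrix Cfsg.Agent.H7
open scoped commutatorElement

variable {D : ChevalleyDatum} {K : Type*} [Field K] {G : Type*} [Group G] {x : ℕ → K → G}
  [hD : RootFacts D] [hN : NFacts D] {lay b : ℕ → ℕ} {n k r s : ℕ} {ρ : Equiv.Perm ℕ} {A B : Set ℕ} {g g' : G} {t t' : K}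

variable (D K) in
/-- A partition of the positive roots into orbits, compatible with commutators. -/
structure LayOK (ρ lay b : ℕ → ℕ) (n : ℕ) : Prop where
  lt : ∀ r, D.IsPosRoot r → lay r < n
  comm : ∀ r s, D.IsPosRoot r → D.IsPosRoot s → s ≠ r → ∀ c ∈ D.commTerms r s,
    (c.2.1 : K) = 0 ∨ lay r < lay c.1 ∧ lay s < lay c.1
  rho : ∀ r, D.IsPosRoot r → lay (ρ r) = lay r
  base : ∀ k < n, D.IsPosRoot (b k) ∧ lay (b k) = k
  orb : ∀ r, D.IsPosRoot r → r = b (lay r) ∨ r = ρ (b (lay r)) ∨ r = ρ (ρ (b (lay r)))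

variable (D) in
/-- Sets of positive roots closed upwards. -/
def UpL (lay : ℕ → ℕ) (A : Set ℕ) : Prop := ∀ r ∈ A, D.IsPosRoot r ∧ ∀ s, D.IsPosRoot s → lay r < lay s → s ∈ A

variable (D) in
/-- The roots of layer at least `k`. -/
def FL (lay : ℕ → ℕ) (k : ℕ) : Set ℕ := {r | D.IsPosRoot r ∧ k ≤ lay r}

variable (D x) in
/-- `t` is the coefficient of `r` in `g`. -/
def CoL (lay : ℕ → ℕ) (r : ℕ) (g : G) (t : K) : Prop := (x r t)⁻¹ * g ∈ XS x (FL D lay (lay r) \ {r})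

omit hD hN in
theorem upL_FL : UpL D lay (FL D lay k) := fun _ hr => ⟨hr.1, fun _ hs h => ⟨hs, hr.2.trans h.le⟩⟩

omit hD hN in
theorem upL_FL' : UpL D lay (FL D lay (lay r) \ {r}) := fun _ hs =>
  ⟨hs.1.1, fun _ hk h => ⟨⟨hk, hs.1.2.trans h.le⟩, fun e => by subst e; exact absurd hs.1.2 (not_le.2 h)⟩⟩

omit hD hN in
theorem UpL.inter (hA : UpL D lay A) (hB : UpL D lay B) : UpL D lay (A ∩ B) := fun r hr =>
  ⟨(hA r hr.1).1, fun s hs h => ⟨(hA r hr.1).2 s hs h, (hB r hr.2).2 s hs h⟩⟩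

omit hD hN in
theorem XS_FL_le (k : ℕ) : XS x (FL D lay k) ≤ UU D x := XS_mono x fun _ hr => hr.1

omit hD hN in
theorem XS_FL_zero : XS x (FL D lay 0) = UU D x := congrArg (XS x) (Set.ext fun _ => and_iff_left (Nat.zero_le _))

omit hD hN in
theorem CoL.mem (h : CoL D x lay r g t) (hr : D.IsPosRoot r) : g ∈ XS x (FL D lay (lay r)) := by
  simpa using mul_mem (x_mem_XS (S := FL D lay (lay r)) ⟨hr, le_rfl⟩ t) (XS_mono x Set.sdiff_subset h)

omit hD hN in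
theorem CoL.acts {a : G} {c : ℕ → K} (ha : Acts x a 1 c) (h : CoL D x lay r g t) : CoL D x lay r (a * g * a⁻¹) (c r * t) := by
  have := ha.conj_mem_XS (fun _ hs => hs) h
  rw [CoL, ← show _ = x r (c r * t) from ha r t]
  simpa [mul_assoc] using this

omit hD hN in
theorem CoL.of_mul (h : g ∈ XS x (FL D lay (lay r) \ {r})) (t : K) : CoL D x lay r (x r t * g) t := by simpa [CoL] using h

omit hD hN in
theorem layOK_of {T : Fast} (hT : Agree D T) {p : ℤ} (hp : (p : K) = 0)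
    (h : (∀ r < D.nroots, D.IsPosRoot r → lay r < n ∧ lay (ρ r) = lay r ∧
      (r = b (lay r) ∨ r = ρ (b (lay r)) ∨ r = ρ (ρ (b (lay r)))) ∧ ∀ s < D.nroots, D.IsPosRoot s →
        ∀ c ∈ ctOf T.ch r s, p ∣ c.2.1 ∨ lay r < lay c.1 ∧ lay s < lay c.1) ∧ ∀ k < n, D.IsPosRoot (b k) ∧ lay (b k) = k) :
    LayOK D K ρ lay b n :=
  ⟨fun r hr => (h.1 r hr.1 hr).1, fun r s hr hs _ c hc => ((h.1 r hr.1 hr).2.2.2 s hs.1 hs c
    (hT.commTerms_ct hr.1 hs.1 ▸ hc)).imp_left fun ⟨d, e⟩ => by simp [e, hp], fun r hr => (h.1 r hr.1 hr).2.1, h.2,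
    fun r hr => (h.1 r hr.1 hr).2.2.1⟩

namespace LayOK

variable (L : LayOK D K ρ lay b n) (hx : IsSt D x)
include L hx

omit hN in
theorem comm_x (hr : D.IsPosRoot r) (hs : D.IsPosRoot s) (t u : K) : (x s u)⁻¹ * (x r t)⁻¹ * x s u * x r t ∈
    XS x {k | D.IsPosRoot k ∧ lay r < lay k ∧ lay s < lay k} := by
  by_cases h : s = r
  · rw [h, mul_assoc, mul_assoc, (hx.commute_self r u t).eq]; simp
  rw [hx.comm' h (ne_neg_of_pos (one_mem _) hr hs)]
  refine ev_mem fun p hp => ?_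
  obtain ⟨c, hc, rfl⟩ := mem_commWord hp
  obtain ⟨-, -, -, h1, h2, h3⟩ := commTerms_spec hc
  obtain h4 | h4 := L.comm r s hr hs h c hc
  · simp [h4, hx.zero]
  · exact x_mem_XS (And.intro (pos_comb hr hs h1 h2 h3).1 h4) _

omit hN in
theorem conj (hA : UpL D lay A) (hg : g ∈ UU D x) (hy : g' ∈ XS x A) : g * g' * g⁻¹ ∈ XS x A := by
  have key : ∀ r, D.IsPosRoot r → ∀ t, ∀ y ∈ XS x A, x r t * y * (x r t)⁻¹ ∈ XS x A := fun r hr t y hy =>
    conj_mem_of_XS (fun s hs u => by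
      simpa [mul_assoc, hx.neg] using mul_mem (x_mem_XS hs u) (XS_mono x (fun k hk => (hA s hs).2 k hk.1 hk.2.2)
        (L.comm_x hx hr (hA s hs).1 (-t) u))) hy
  have : UU D x ≤ Subgroup.normalizer (XS x A : Set G) := XS_le.2 fun r hr t =>
    Subgroup.mem_normalizer_iff.2 fun y => ⟨key r hr t y, fun hy => by simpa [mul_assoc, hx.neg] using key r hr (-t) _ hy⟩
  exact (Subgroup.mem_normalizer_iff.1 (this hg) _).1 hy

omit hN in
theorem comm_mem (hg : g ∈ UU D x) (hy : g' ∈ XS x (FL D lay k)) : ⁅g, g'⁆ ∈ XS x (FL D lay (k + 1)) := by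
  refine comm_mem_closure (fun g hg _ => L.conj hx upL_FL hg) ?_ hg
  rintro _ ⟨r, hr, t, rfl⟩
  rw [← inv_mem_iff]
  simp only [_root_.mul_inv_rev, inv_inv, ← mul_assoc]
  refine comm_mem_closure (fun g hg _ => L.conj hx upL_FL (XS_FL_le k hg)) ?_ hy
  rintro _ ⟨s, hs, u, rfl⟩
  simpa [hx.neg] using XS_mono x (T := FL D lay (k + 1)) (fun k hk => ⟨hk.1, lt_of_le_of_lt hs.2 hk.2.2⟩)
    (L.comm_x hx hr hs.1 (-t) (-u))

omit hN in
theorem nil (hA : UpL D lay A) : NilFam x A (fun r => lay r * D.nroots + r) (n * D.nroots) where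
  add r _ := hx.add r
  inj r hr s hs e := by
    have := congrArg (· % D.nroots) e
    simpa [Nat.mod_eq_of_lt (hA r hr).1.1, Nat.mod_eq_of_lt (hA s hs).1.1] using this
  bound r hr := by have := L.lt r (hA r hr).1; have := (hA r hr).1.1; nlinarith
  comm r hr s hs _ t u := XS_mono x (fun k hk => And.intro ((hA r hr).2 k hk.1 hk.2.1) ⟨by
    have := hk.2.1; have := (hA r hr).1.1; nlinarith, by have := hk.2.2; have := (hA s hs).1.1; nlinarith⟩)
    (L.comm_x hx (hA r hr).1 (hA s hs).1 t u)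

omit hN in
open Classical in
theorem exists_oprod (hA : UpL D lay A) (hg : g ∈ XS x A) :
    ∃ f : ℕ → K, g = oprod x D.posRoots fun k => if k ∈ A then f k else 0 := by
  obtain ⟨f, rfl⟩ := (L.nil hx hA).exists_oprod (L := D.posRoots.filter fun k => decide (k ∈ A))
    (fun k => by simpa [mem_posRoots] using fun h => (hA k h).1) (nodup_posRoots.filter _) hg
  exact ⟨f, IsFaith.oprod_filter hx _ _ _⟩

omit hN in
theorem exists_coL (hr : D.IsPosRoot r) (hg : g ∈ XS x (FL D lay (lay r))) : ∃ t, CoL D x lay r g t := by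
  induction hg using Subgroup.closure_induction with
  | mem y hy =>
    obtain ⟨s, hs, u, rfl⟩ := hy
    by_cases h : s = r
    · exact ⟨u, by simp [CoL, h]⟩
    · exact ⟨0, by simpa [CoL, hx.zero] using x_mem_XS (S := FL D lay (lay r) \ {r}) ⟨hs, h⟩ u⟩
  | one => exact ⟨0, by simp [CoL, hx.zero]⟩
  | mul a b _ _ ha hb =>
    obtain ⟨t, ht⟩ := ha
    obtain ⟨u, hu⟩ := hb
    exact ⟨t + u, by simpa [CoL, hx.add, mul_assoc] using mul_mem (L.conj hx upL_FL' (inv_mem (x_mem_UU x hr u)) ht) hu⟩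
  | inv a _ ha =>
    obtain ⟨t, ht⟩ := ha
    exact ⟨-t, by simpa [CoL, hx.neg, mul_assoc] using L.conj hx upL_FL' (x_mem_UU x hr t) (inv_mem ht)⟩

omit hN in
theorem coL_mul (hr : D.IsPosRoot r) (h : CoL D x lay r g t) (h' : CoL D x lay r g' t') : CoL D x lay r (g * g') (t + t') := by
  simpa [CoL, hx.add, mul_assoc] using mul_mem (L.conj hx upL_FL' (inv_mem (x_mem_UU x hr t')) h) h'

omit hx hN in
theorem mem_inter (hx : IsFaith D x) (hA : UpL D lay A) (hB : UpL D lay B) (h1 : g ∈ XS x A) (h2 : g ∈ XS x B) :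
    g ∈ XS x (A ∩ B) := by
  classical
  obtain ⟨f, e⟩ := L.exists_oprod hx.toIsSt hA h1
  obtain ⟨f', e'⟩ := L.exists_oprod hx.toIsSt hB h2
  have := oprod_inj_pos hx (fun k => mem_posRoots.1) nodup_posRoots (e.symm.trans e')
  rw [e]
  refine oprod_mem fun k hk => ?_
  by_cases h3 : k ∈ A ∩ B
  · exact x_mem_XS h3 _
  · rw [show (if k ∈ A then f k else 0) = 0 by
      by_cases h4 : k ∈ A
      · rw [this k hk, if_neg fun h5 => h3 ⟨h4, h5⟩]
      · rw [if_neg h4], hx.toIsSt.zero]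
    exact one_mem _

omit hx hN in
theorem coL_unique (hx : IsFaith D x) (hr : D.IsPosRoot r) (h : CoL D x lay r g t) (h' : CoL D x lay r g t') : t = t' := by
  obtain ⟨f, e⟩ := L.exists_oprod hx.toIsSt upL_FL' (mul_mem h (inv_mem h'))
  have h1 : oprod x D.posRoots (fun k => if k = r then -t + t' else 0) = x r (-t + t') := by
    rw [← IsFaith.oprod_filter hx.toIsSt _ (· = r) fun _ => -t + t', List.filter_eq,
      List.count_eq_one_of_mem nodup_posRoots (mem_posRoots.2 hr)]; simp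
  rw [show (x r t)⁻¹ * g * ((x r t')⁻¹ * g)⁻¹ = x r (-t + t') by simp [hx.add, hx.toIsSt.neg], ← h1] at e
  simpa [neg_add_eq_zero] using oprod_inj_pos hx (fun k => mem_posRoots.1) nodup_posRoots e r (mem_posRoots.2 hr)

variable {σ : G →* G} {π : Fin D.rank → Fin D.rank} {f : ℕ → K → K}

omit hx in
theorem coL_map (hσ : Twist D x σ ρ π f) (hr : D.IsPosRoot r) (h : CoL D x lay r g t) : CoL D x lay (ρ r) (σ g) (f r t) := by
  rw [CoL, ← hσ.map, ← map_inv, ← map_mul]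
  exact hσ.map_XS (fun s hs => ⟨⟨(hσ.pos s).2 hs.1.1, by rw [L.rho r hr, L.rho s hs.1.1]; exact hs.1.2⟩,
    fun e => hs.2 (ρ.injective e)⟩) h

omit hx in
theorem exists_filt (hx : IsChev D x) (hσ : Twist D x σ ρ π f) {Γ : Type*} [Group Γ] {θ : Γ →* G}
    (hc : θ.ker ≤ Subgroup.center Γ) (hf : ∀ g, σ (θ g) = θ g) : ∃ co χ : ℕ → Γ → K,
      Filt θ.ker ((HH D x).comap θ) (fun k => (XS x (FL D lay k)).comap θ) n co χ ∧
      (∀ k < n, ∀ g t, CoL D x lay (b k) (θ g) t → co k g = t) ∧ ∀ k < n, ∀ g c, Acts x (θ g) 1 c → χ k g = c (b k) := by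
  have hs := hx.toIsSt
  have hF := hx.toIsFaith
  have h1 : ∀ k < n, ∀ g t, CoL D x lay (b k) (θ g) t → Classical.epsilon (CoL D x lay (b k) (θ g)) = t :=
    fun k hk g t h => L.coL_unique hF (L.base k hk).1 (Classical.epsilon_spec ⟨t, h⟩) h
  have h2 : ∀ k < n, ∀ g c, Acts x (θ g) 1 c → Classical.epsilon (Acts x (θ g) 1) (b k) = c (b k) := fun k hk g c h => by
    simpa using x_inj hF (L.base k hk).1.1 ((Classical.epsilon_spec ⟨c, h⟩ (b k) 1).symm.trans (h (b k) 1))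
  have h3 : ∀ k < n, ∀ g, θ g ∈ XS x (FL D lay k) → ∃ t, CoL D x lay (b k) (θ g) t := fun k hk g hg =>
    L.exists_coL hs (L.base k hk).1 ((L.base k hk).2.symm ▸ hg)
  have h4 : ∀ r, D.IsPosRoot r → ∀ g, CoL D x lay r (θ g) 0 → CoL D x lay (ρ r) (θ g) 0 := fun r hr g h => by
    have := L.coL_map hσ hr h
    rwa [hf, x_inj hF ((hσ.pos r).2 hr).1 ((hσ.map r 0).symm.trans (by rw [hs.zero, hs.zero, map_one]) : _ = x _ 0)] at this
  refine ⟨fun k g => Classical.epsilon (CoL D x lay (b k) (θ g)), fun k g => Classical.epsilon (Acts x (θ g) 1) (b k),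
    ⟨hc, fun k g hg => by simp [MonoidHom.mem_ker.1 hg], fun g hg => Subgroup.mem_bot.1 ((XS_le (H := ⊥)).2
      (fun r hr => absurd (L.lt r hr.1) (not_lt.2 hr.2)) hg), fun k hk => ⟨Subgroup.comap_mono (XS_mono x fun r hr =>
        ⟨hr.1, le_of_lt hr.2⟩), fun a ha a' ha' => ?_, fun a ha => ⟨fun h => ?_, fun h => h1 k hk _ _ ?_⟩,
        fun h hh a ha => by simpa using hs.HH_conj_XS hh ha, fun h hh a ha => ?_⟩, fun k a ha c hc => ?_,
      fun h hh h' hh' => ?_⟩, h1, h2⟩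
  · obtain ⟨t, ht⟩ := h3 k hk a ha
    obtain ⟨t', ht'⟩ := h3 k hk a' ha'
    rw [h1 k hk _ _ ht, h1 k hk _ _ ht', h1 k hk _ _ (map_mul θ a a' ▸ L.coL_mul hs (L.base k hk).1 ht ht')]
  · obtain ⟨t, ht⟩ := h3 k hk a ha
    obtain ⟨h5, h6⟩ := L.base k hk
    have h7 := (hσ.pos _).2 h5
    rw [(h1 k hk _ _ ht).symm.trans h] at ht
    have h8 := h4 _ h5 _ ht
    have h9 := h4 _ h7 _ h8
    simp only [CoL, hs.zero, inv_one, one_mul] at ht h8 h9
    refine XS_mono x (T := FL D lay (k + 1)) (fun r hr => And.intro hr.1.1.1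
      (lt_of_le_of_ne (h6.ge.trans hr.1.1.2) fun e => ?_)) (L.mem_inter hF upL_FL' (upL_FL'.inter upL_FL') ht (L.mem_inter hF upL_FL' upL_FL' h8 h9))
    have h10 := L.orb r hr.1.1.1
    rw [← e] at h10
    obtain h | h | h := h10
    exacts [hr.1.2 h, hr.2.1.2 h, hr.2.2.2 h]
  · simp only [CoL, hs.zero, inv_one, one_mul]
    exact XS_mono x (S := FL D lay (k + 1)) (fun r hr => And.intro (And.intro hr.1 ((L.base k hk).2.le.trans (le_of_lt hr.2)))
      fun e : r = b k => by have := hr.2; rw [e, (L.base k hk).2] at this; omega) h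
  · obtain ⟨t, ht⟩ := h3 k hk a ha
    obtain ⟨c, hc⟩ := hs.acts_of_mem_HH hh
    rw [h1 k hk _ _ ht, h2 k hk _ _ hc, h1 k hk _ _ (by simpa using ht.acts hc)]
  · simpa [map_commutatorElement] using L.comm_mem hs (XS_FL_le 0 ha) hc
  · rw [MonoidHom.mem_ker, map_commutatorElement, commutatorElement_eq_one_iff_commute]; exact hx.HH_commute hh hh'

omit hN in
theorem coL_root (hs : s ∈ FL D lay (lay r)) (t : K) : CoL D x lay r (x s t) (if s = r then t else 0) := by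
  split_ifs with h
  · simp [CoL, h]
  · simpa [CoL, hx.zero] using x_mem_XS (S := FL D lay (lay r) \ {r}) ⟨hs, h⟩ t

end LayOK

/-- A monomial in the conjugates of `y`. -/
def mono (φ : K →+* K) (y : Kˣ) (e : ℤ × ℤ × ℤ) : Kˣ :=
  y ^ e.1 * Units.map φ.toMonoidHom y ^ e.2.1 * Units.map φ.toMonoidHom (Units.map φ.toMonoidHom y) ^ e.2.2

/-- Exponents of a character. -/
def exv {l : ℕ} (M : Fin l → ℤ × ℤ × ℤ) (v : Fin l → ℤ) : ℤ × ℤ × ℤ :=
  ((fun i => (M i).1) ⬝ᵥ v, (fun i => (M i).2.1) ⬝ᵥ v, (fun i => (M i).2.2) ⬝ᵥ v)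

omit hD hN in
theorem torChar_mono {l : ℕ} (φ : K →+* K) (y : Kˣ) (M : Fin l → ℤ × ℤ × ℤ) (v : Fin l → ℤ) :
    torChar (fun i => mono φ y (M i)) v = mono φ y (exv M v) := by
  simp only [mono, exv, ← torChar_pow, ← torChar_mul]; rfl

omit hD hN in
theorem exists_mono_ne [Fintype K] {φ : K →+* K} {q : ℕ} (hφ : ∀ t, φ t = t ^ q) {e : ℤ × ℤ × ℤ} {m : ℕ}
    (h : e.1 + e.2.1 * q + e.2.2 * q ^ 2 = m ∨ e.1 + e.2.1 * q + e.2.2 * q ^ 2 = -m) (h0 : m ≠ 0) (h1 : m + 1 < Fintype.card K) :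
    ∃ y, mono φ y e ≠ 1 := by
  obtain ⟨t, ht⟩ := exists_pow_ne (K := K) (q := m + 1) (by omega) h1
  have h2 : ∀ y : Kˣ, Units.map φ.toMonoidHom y = y ^ (q : ℤ) := fun y => Units.ext (by simp [hφ])
  refine ⟨Units.mk0 t fun e => ht (by simp [e]), fun h3 => ht ?_⟩
  simp only [mono, h2, ← _root_.zpow_mul, ← _root_.zpow_add] at h3
  rw [show e.1 + q * e.2.1 + q * q * e.2.2 = e.1 + e.2.1 * q + e.2.2 * q ^ 2 by ring] at h3
  rcases h with h | h <;> rw [h] at h3 <;> simp [Units.ext_iff] at h3 <;> simp [pow_succ, h3]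

variable {Γ : Type*} [Group Γ] {θ : Γ →* G} {S : Subgroup G} {co χ : ℕ → Γ → K} {N : Subgroup Γ} {j : ℕ} {φ : K →+* K}

omit hD hN in
theorem pairC_cert {T : Subgroup Γ} {P : ℕ → Subgroup Γ} {ex : ℕ → ℤ × ℤ × ℤ}
    (hT : ∀ y, ∃ g ∈ T, χ j g = mono φ y (ex j) ∧ χ k g = mono φ y (ex k)) (hK : ∃ s : Finset K, 4 < s.card)
    {good : List (ℤ × ℤ × ℤ)} (hg : ∀ e ∈ good, ∃ y, mono φ y e ≠ 1)
    (h : ex j = 0 ∧ ex k ∈ good ∨ ex k = 0 ∧ ex j ∈ good ∨ ex j = (1, 0, 0) ∧ ex k = (1, 0, 0)) : PairC T P co χ j k N := by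
  obtain ⟨h1, h2⟩ | ⟨h1, h2⟩ | ⟨h1, h2⟩ := h
  · obtain ⟨y, hy⟩ := hg _ h2
    obtain ⟨g, hg, h3, h4⟩ := hT y
    exact Or.inl ⟨g, hg, Or.inr ⟨by simp [h3, h1, mono], by simpa [h4] using hy⟩⟩
  · obtain ⟨y, hy⟩ := hg _ h2
    obtain ⟨g, hg, h3, h4⟩ := hT y
    exact Or.inl ⟨g, hg, Or.inl ⟨by simpa [h3] using hy, by simp [h4, h1, mono]⟩⟩
  · refine Or.inr (Or.inl ⟨hK, fun v hv => ?_⟩)
    obtain ⟨g, hg, h3, h4⟩ := hT (Units.mk0 v hv)
    exact ⟨g, hg, by simp [h3, h1, mono], by simp [h4, h2, mono]⟩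

/-- All lifts of `g` and `g'` have their commutator in `N`. -/
def LCN (θ : Γ →* G) (N : Subgroup Γ) (g g' : G) : Prop := ∀ a a', θ a = g → θ a' = g' → ⁅a, a'⁆ ∈ N

variable (D x) in
/-- A central extension of a twisted group with its filtration. -/
structure Lf (lay b : ℕ → ℕ) (n : ℕ) (θ : Γ →* G) (S : Subgroup G) (co χ : ℕ → Γ → K) : Prop where
  filt : Filt θ.ker ((HH D x).comap θ) (fun k => (XS x (FL D lay k)).comap θ) n co χ
  range : θ.range = S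
  co : ∀ k < n, ∀ g t, CoL D x lay (b k) (θ g) t → co k g = t
  ch : ∀ k < n, ∀ g c, Acts x (θ g) 1 c → χ k g = c (b k)

omit hD hN in
theorem LCN.of_comm (hc : θ.ker ≤ Subgroup.center Γ) {h y : G} (h1 : Commute g h) (h2 : Commute g y) (hh : h ∈ θ.range)
    (hy : y ∈ θ.range) : LCN θ N g ⁅h, y⁆ := by
  obtain ⟨h, rfl⟩ := hh
  obtain ⟨y, rfl⟩ := hy
  rintro a a' rfl e
  rw [comm_congr hc rfl (e.trans (map_commutatorElement θ h y).symm),
    commutatorElement_eq_one_iff_commute.2 (commute_comm hc h1 h2)]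
  exact one_mem _

omit hD hN in
theorem LCN.symm (h : LCN θ N g g') : LCN θ N g' g := fun a a' h1 h2 => by simpa using inv_mem (h a' a h2 h1)

variable {σ : G →* G} {π : Fin D.rank → Fin D.rank} {f : ℕ → K → K} {O : Fin D.rank → Set ℕ} {e : Fin D.rank → ℕ}
  {z : Fin D.rank → S}

theorem _root_.Cfsg.Agent.H7.TwD.x_mem (h : TwD D x σ ρ π f S O e z) (hr : r < D.nroots) (hf : σ (x r t) = x r t) : x r t ∈ S :=
  (pos_or_neg hr).elim (fun h1 => h.sub.mem_of_UU h.tw h.faith (x_mem_UU x h1 t) hf)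
    fun h1 => h.sub.mem_of_VV h.tw h.faith (x_mem_VV x h1 t) hf

theorem exists_acts_of_chS (hx : IsFaith D x) {c : Fin D.rank → Kˣ} (hc : c ∈ chS D x hx.toIsSt S) :
    ∃ g ∈ S, g ∈ HH D x ∧ Acts x g 1 fun r => torChar c (rc D r) := by
  obtain ⟨g, h1, h2, h3⟩ := hc
  obtain ⟨a, ha⟩ := hx.toIsSt.acts_of_mem_HH h2
  obtain rfl : (fun j : Fin D.rank => torChar a (wt D (D.simple j))) = c := funext fun j => Units.ext (by
    simpa using x_inj hx (simple_lt j) ((ha (D.simple j) 1).symm.trans (h3 j 1)))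
  exact ⟨g, h1, h2, by simpa only [← torChar_wt] using ha⟩

theorem hProd_perm (hx : IsSt D x) (h3 : R3 D x) (a : Fin D.rank → Kˣ) {l : List (Fin D.rank)}
    (hl : (List.finRange D.rank).Perm l) : hProd D x a = (l.map fun i : Fin D.rank => hE D x (D.simple i) (a i)).prod :=
  (hl.map _).prod_eq' (List.pairwise_map.2 (List.pairwise_of_forall fun i j =>
    hx.hE_commute h3 (simple_lt j) (simple_lt i) (a i).ne_zero (a j).ne_zero))

namespace Lf

variable (F : Lf D x lay b n θ S co χ)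
include F

theorem tor (hx : IsFaith D x) {c : Fin D.rank → Kˣ} (hc : c ∈ chS D x hx.toIsSt S) :
    ∃ g ∈ (HH D x).comap θ, ∀ k < n, χ k g = torChar c (rc D (b k)) := by
  obtain ⟨g, h1, h2, h3⟩ := exists_acts_of_chS hx hc
  obtain ⟨g, rfl⟩ : g ∈ θ.range := F.range ▸ h1
  exact ⟨g, h2, fun k hk => F.ch k hk g _ h3⟩

theorem tor' (hx : IsSt D x) {a : Fin D.rank → Kˣ} (ha : hProd D x a ∈ S) :
    ∃ g ∈ (HH D x).comap θ, ∀ k < n, χ k g = torChar a (wt D (b k)) := by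
  obtain ⟨g, hg⟩ : _ ∈ θ.range := F.range ▸ ha
  exact ⟨g, by rw [Subgroup.mem_comap, hg]; exact hProd_mem_HH x a, fun k hk => F.ch k hk g _ (hg ▸ hx.acts_hProd a)⟩

theorem expl (L : LayOK D K ρ lay b n) (hx : IsSt D x) (hj : j < n) (hk : k < n)
    (h : ∀ g ∈ S, ∀ g' ∈ S, ∀ t u, CoL D x lay (b j) g t → CoL D x lay (b k) g' u → ∃ y ∈ S, ∃ y' ∈ S,
      CoL D x lay (b j) y t ∧ CoL D x lay (b k) y' u ∧ LCN θ N y y') :
    PairC ((HH D x).comap θ) (fun k => (XS x (FL D lay k)).comap θ) co χ j k N := by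
  refine Or.inr (Or.inr fun a ha a' ha' => ?_)
  obtain ⟨h1, h2⟩ := L.base j hj
  obtain ⟨h3, h4⟩ := L.base k hk
  obtain ⟨t, ht⟩ := L.exists_coL hx h1 (h2.symm ▸ ha)
  obtain ⟨u, hu⟩ := L.exists_coL hx h3 (h4.symm ▸ ha')
  obtain ⟨y, hy, y', hy', h5, h6, h7⟩ := h _ (F.range ▸ ⟨a, rfl⟩) _ (F.range ▸ ⟨a', rfl⟩) t u ht hu
  obtain ⟨y, rfl⟩ : y ∈ θ.range := F.range ▸ hy
  obtain ⟨y', rfl⟩ : y' ∈ θ.range := F.range ▸ hy'
  exact ⟨y, h2 ▸ h5.mem h1, y', h4 ▸ h6.mem h3, (F.co j hj _ _ h5).trans (F.co j hj _ _ ht).symm,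
    (F.co k hk _ _ h6).trans (F.co k hk _ _ hu).symm, h7 _ _ rfl rfl⟩

theorem long (L : LayOK D K ρ lay b n) (h : TwD D x σ ρ π f S O e z) (hk : k < n) {a a' : ℕ} {c : ℤ}
    (hs : ∀ s ∈ [b k, a, a'], ρ s = s ∧ ∀ t, f s t = φ t) (h1 : a < D.nroots ∧ a' < D.nroots ∧ a' ≠ a ∧ a' ≠ D.neg a ∧
      D.commTerms a a' = [(b k, c, 1, 1)] ∧ c * c = 1 ∧ ∀ s ∈ [a, a'], s ≠ D.neg (b k) ∧ D.commTerms (b k) s = []) :
    PairC ((HH D x).comap θ) (fun k => (XS x (FL D lay k)).comap θ) co χ k k N := by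
  obtain ⟨ha, ha', h2, h3, h4, h5, h6⟩ := h1
  simp only [List.forall_mem_cons, List.not_mem_nil, IsEmpty.forall_iff, implies_true, and_true] at hs h6
  have hb := (L.base k hk).1
  have h7 : ∀ g ∈ S, ∀ t, CoL D x lay (b k) g t → φ t = t := fun g hg t ht => by
    have := L.coL_map h.tw hb ht
    rw [h.sub.fix g hg, hs.1.1, hs.1.2] at this
    exact L.coL_unique h.faith hb this ht
  have h8 : ∀ {s t}, s < D.nroots → (ρ s = s ∧ ∀ t, f s t = φ t) → φ t = t → x s t ∈ S := fun h1 h2 h3 =>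
    h.x_mem h1 (by rw [h.tw.map, h2.1, h2.2, h3])
  refine F.expl L h.st hk hk fun g hg g' hg' t u ht hu => ⟨_, h8 hb.1 hs.1 (h7 _ hg _ ht), _, h8 hb.1 hs.1 (h7 _ hg' _ hu),
    by simp [CoL], by simp [CoL], ?_⟩
  have h9 := h.st.comm a a' ha ha' h2 h3 (-c) u
  rw [ChevalleyDatum.commWord, h4] at h9
  simp only [List.map, ev_cons, ev_nil, neg_neg, pow_one, mul_one, ← Int.cast_mul, h5, Int.cast_one, one_mul] at h9
  rw [← h9]
  simpa [commutatorElement_def] using LCN.of_comm (N := N) F.filt.cen (h.st.commute h6.2.1 h6.2.2 t u).inv_right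
    (h.st.commute h6.1.1 h6.1.2 t (-c)).inv_right (F.range ▸ inv_mem (h8 ha' hs.2.2 (h7 _ hg' _ hu)))
    (F.range ▸ inv_mem (h8 ha hs.2.1 (by simp)))

end Lf

universe u in
theorem pmult_of {G : Type u} [Group G] {x : ℕ → K → G} {σ : G →* G} {S : Subgroup G} {z : Fin D.rank → S}
    (L : LayOK D K ρ lay b n) (h : TwD D x σ ρ π f S O e z) (p : ℕ) [Fact p.Prime] [CharP K p] [Finite K]
    (H : ∀ (Γ : Type u) [Group Γ] (θ : Γ →* G) co χ, Lf D x lay b n θ S co χ → ∃ N : Subgroup Γ, (∀ z ∈ N, z ∈ θ.ker → z = 1) ∧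
      ∀ a ∈ (XS x (FL D lay 0)).comap θ, ∀ b ∈ (XS x (FL D lay 0)).comap θ, ⁅a, b⁆ ∈ N) : L0.PMult S p 0 0 := by
  intro Γ _ _ τ hτ hm
  have := h.chev.finite_G h.top
  have h1 : (S.subtype.comp τ).ker = τ.ker := by ext; simp
  obtain ⟨co, χ, h2, h3, h4⟩ := L.exists_filt h.chev h.tw (θ := S.subtype.comp τ) (h1 ▸ hτ.2.1)
    fun g => h.sub.fix _ (τ g).2
  obtain ⟨N, h5, h6⟩ := H Γ _ co χ ⟨h2, by
    rw [MonoidHom.range_comp, MonoidHom.range_eq_top.2 hτ.1, ← MonoidHom.range_eq_map, S.range_subtype], h3, h4⟩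
  obtain ⟨P, hP⟩ := h.exists_sylow p
  have := L0.ker_eq_bot_of_transfer hτ hm P
    (Nat.Coprime.pow_right _ ((Nat.Prime.coprime_iff_not_dvd Fact.out).mpr P.not_dvd_index).symm)
    Abelianization.of (fun a ha h7 => by
      rw [← MonoidHom.mem_ker, Abelianization.ker_of] at h7
      refine Subtype.ext (h5 _ ((Subgroup.commutator_le (H₃ := N.subgroupOf _)).2 (fun a _ b _ => ?_) h7) (h1 ▸ ha))
      rw [XS_FL_zero] at h6
      exact h6 _ (hP.le a.2) _ (hP.le b.2))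
  exact ⟨fun _ => 1, fun _ => ⟨one_mem _, one_pow _⟩, by rw [this]; exact bot_le⟩

end Cfsg.Agent.H8
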