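import Cfsg.Agent.H8.TwP
import Cfsg.Agent.H7.TwOutE6

/-! The `p`-part of the Schur multiplier of the twisted group of type `E6`. -/

set_option autoImplicit false
set_option linter.unusedSectionVars false

namespace Cfsg.Agent.H8

open Cfsg.Lie Matrix Cfsg.Agent.H7

universe u

variable {K : Type*} [Field K] {G : Type u} [Group G] {x : ℕ → K → G} {q : ℕ} {φ : K →+* K} {σ : G →* G}

local notation "𝐧 " k:max => (⟨k, by decide⟩ : Fin chevE6.rank)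

theorem hProd_E6 (hx : IsSt chevE6 x) (h3 : R3 chevE6 x) (a : Fin chevE6.rank → Kˣ) : hProd chevE6 x a =
    hE chevE6 x 56 (a (𝐧 0)) * hE chevE6 x 36 (a (𝐧 5)) * (hE chevE6 x 42 (a (𝐧 2)) * hE chevE6 x 37 (a (𝐧 4)) *
      (hE chevE6 x 46 (a (𝐧 1)) * hE chevE6 x 39 (a (𝐧 3)))) := by
  rw [hProd_perm hx h3 a (l := [𝐧 0, 𝐧 5, 𝐧 2, 𝐧 4, 𝐧 1, 𝐧 3]) (by decide +kernel)]
  simp only [List.map, List.prod_cons, List.prod_nil, mul_one, mul_assoc]; rfl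

theorem hProd_mem_E6 (hx : IsSt chevE6 x) (h3 : R3 chevE6 x) (hφ : ∀ t, φ t = t ^ q) {a : Fin chevE6.rank → Kˣ}
    (ha : a ∈ TS K pfE6 fun _ => q) : hProd chevE6 x a ∈ twS x (e6Words K q) := by
  have h : ∀ i, (a (pfE6 i) : K) = a i ^ q := fun i => congrArg Units.val (ha i)
  have hm : (-1 : K) ^ q = -1 := by rw [← hφ]; simp
  rw [hProd_E6 hx h3, show (a (𝐧 5) : K) = φ (a (𝐧 0)) from (h (𝐧 0)).trans (hφ _).symm,
    show (a (𝐧 4) : K) = φ (a (𝐧 2)) from (h (𝐧 2)).trans (hφ _).symm]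
  exact mul_mem (hE_e6b hx hφ (by simp) _) (mul_mem (hE_e6b hx hφ (by simp) _)
    (mul_mem (hE_e6a hm (by simp) (h (𝐧 1)).symm) (hE_e6a hm (by simp) (h (𝐧 3)).symm)))

/-- Layers. -/
def layE6 (r : ℕ) : ℕ := [2, 3, 5, 0, 6, 8, 3, 6, 7, 11, 1, 4, 9, 12, 9, 10, 15, 13, 17, 19, 2, 5, 8, 11, 14, 12, 15, 16, 17, 18, 20, 19, 20, 21, 22, 23].getD (r - 36) 0

/-- Base roots of the layers. -/
def bE6 (k : ℕ) : ℕ := [39, 46, 36, 37, 47, 38, 40, 44, 41, 48, 51, 45, 49, 53, 60, 52, 63, 54, 65, 55, 66, 69, 70, 71].getD k 0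

/-- Separating coroots. -/
def tabE6 (k j : ℕ) : ℕ := ([[2], [2, 1], [2, 1, 4], [3, 1, 18, 10], [8, 1, 2, 3, 2], [4, 1, 20, 6, 4, 7], [2, 3, 20, 6, 2, 24, 10], [9, 6, 7, 3, 8, 6, 3, 6], [2, 4, 18, 24, 2, 18, 8, 8, 9], [2, 1, 27, 6, 2, 32, 8, 3, 39, 13], [8, 1, 7, 3, 12, 6, 3, 8, 10, 3, 6], [8, 7, 18, 6, 9, 18, 8, 6, 20, 44, 6, 10], [2, 1, 18, 32, 2, 18, 39, 13, 20, 11, 11, 60, 12], [2, 12, 9, 3, 2, 10, 3, 6, 8, 3, 6, 8, 11, 8], [9, 18, 4, 10, 20, 4, 10, 10, 4, 28, 24, 7, 4, 25, 18], [12, 1, 18, 6, 11, 18, 44, 6, 60, 11, 6, 24, 27, 11, 7, 13], [20, 1, 4, 13, 12, 4, 21, 24, 4, 13, 13, 7, 4, 46, 20, 7, 18], [2, 11, 20, 44, 2, 60, 8, 8, 20, 11, 11, 25, 27, 8, 9, 46, 12, 14], [2, 12, 4, 21, 2, 4, 14, 25, 4, 14, 46, 9, 4, 14, 18, 12, 18, 9, 20], [8, 11, 60, 6, 11, 24, 8, 6, 25, 11, 6, 24, 46, 8, 10, 32, 13, 39, 14, 15], [20, 27, 18, 24, 27, 18,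 25, 21, 20, 46, 28, 24, 27, 29, 18, 32, 18, 39, 20, 44, 38], [25, 13, 7, 6, 46, 7, 10, 6, 10, 13, 6, 7, 13, 15, 18, 7, 18, 15, 36, 10, 21, 24], [8, 47, 9, 10, 14, 10, 8, 8, 9, 14, 15, 9, 14, 8, 20, 15, 36, 9, 20, 10, 21, 24, 25], [14, 11, 12, 13, 11, 13, 14, 15, 14, 11, 11, 15, 12, 11, 36, 12, 27, 12, 27, 13, 28, 32, 39, 46]].getD k []).getD j 0

/-- Exponents of the torus elements. -/
def exE6 (m k : ℕ) : ℤ × ℤ × ℤ := exv (fun i => (cor chevE6 m i, cor chevE6 m (pfE6 i), 0)) (wt chevE6 (bE6 k))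

set_option synthInstance.maxSize 4000 in
theorem layOK_E6 : LayOK chevE6 K rhoE6 layE6 bE6 24 := layOK_of agrE6 (p := 0) (by simp) (by decide +kernel)

set_option synthInstance.maxSize 4000 in
theorem certE6 : ∀ k < 24, exE6 (tabE6 k k) k ∈ [(1, 0, 0), (1, 1, 0), (1, -1, 0)] ∧ ∀ j ≤ k,
    (exE6 (tabE6 k j) j = 0 ∧ exE6 (tabE6 k j) k ∈ [(1, 0, 0), (1, 1, 0), (1, -1, 0)] ∨
      exE6 (tabE6 k j) k = 0 ∧ exE6 (tabE6 k j) j ∈ [(1, 0, 0), (1, 1, 0), (1, -1, 0)] ∨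
      exE6 (tabE6 k j) j = (1, 0, 0) ∧ exE6 (tabE6 k j) k = (1, 0, 0)) ∨ j = k ∧
    ∃ a ∈ [(2, 70, -1), (1, 71, -1), (2, 71, 1), (6, 70, 1), (6, 71, 1), (8, 71, -1), (18, 70, 1), (18, 71, 1),
      (20, 71, -1), (24, 71, -1), (25, 71, 1), (46, 70, (1 : ℤ))], (∀ s ∈ [bE6 k, a.1, a.2.1], twT H7.twE6 s = (s, 1, 1)) ∧
      a.1 < chevE6.nroots ∧ a.2.1 < chevE6.nroots ∧ a.2.1 ≠ a.1 ∧ a.2.1 ≠ chevE6.neg a.1 ∧
      chevE6.commTerms a.1 a.2.1 = [(bE6 k, a.2.2, 1, 1)] ∧ a.2.2 * a.2.2 = 1 ∧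
      ∀ s ∈ [a.1, a.2.1], s ≠ chevE6.neg (bE6 k) ∧ chevE6.commTerms (bE6 k) s = [] := by decide +kernel

theorem pmult_E6 [Fintype K] (p : ℕ) [Fact p.Prime] [CharP K p] (hq : 2 < q) (hF : Fintype.card K = q ^ 2) (hφ : ∀ t, φ t = t ^ q)
    (h : TwD chevE6 x σ rhoE6 pfE6 (twF H7.twE6 φ) (twS x (e6Words K q)) (fun i => {j | j ∈ oLE6 i}) (fun _ => q) (zE6 x q)) :
    L0.PMult (twS x (e6Words K q)) p 0 0 := by
  refine pmult_of layOK_E6 h p fun Γ _ θ co χ F => ?_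
  have h2 : ∀ y : Kˣ, Units.map φ.toMonoidHom y = y ^ q := fun y => Units.ext (by simp [hφ])
  have h3 : ∀ y : Kˣ, Units.map φ.toMonoidHom (Units.map φ.toMonoidHom y) = y := fun y => Units.ext (by
    rw [h2, h2, ← pow_mul, ← pow_two, ← hF]; exact FiniteField.pow_card _)
  have hT : ∀ m y, ∃ g ∈ (HH chevE6 x).comap θ, ∀ k < 24, χ k g = mono φ y (exE6 m k) := fun m y => by
    simp only [exE6, ← torChar_mono]
    refine F.tor' h.st (hProd_mem_E6 h.st h.st.R3_of_finite hφ fun i => ?_)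
    simp only [← h2, mono, map_mul, map_zpow, h3, (by decide +kernel : ∀ i, pfE6 (pfE6 i) = i), _root_.zpow_zero, map_one,
      mul_comm]
  have hg : ∀ e ∈ [((1 : ℤ), (0 : ℤ), (0 : ℤ)), (1, 1, 0), (1, -1, 0)], ∃ y, mono φ y e ≠ 1 := by
    simp only [List.forall_mem_cons]
    obtain ⟨k, rfl⟩ := Nat.exists_eq_add_of_lt hq
    exact ⟨exists_mono_ne hφ (m := 1) (by simp) (by simp) (by nlinarith), exists_mono_ne hφ (m := 2 + k + 2)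
      (Or.inl (by push_cast; ring)) (by simp) (by nlinarith), exists_mono_ne hφ (m := 2 + k) (Or.inr (by push_cast; ring))
      (by simp) (by nlinarith), by simp⟩
  refine F.filt.final (m := 23) le_rfl F.filt.inv_last (fun k hk j hj => ?_) fun k hk _ => ?_
  · obtain h4 | ⟨rfl, a, -, h4, h5⟩ := (certE6 k (by omega)).2 j hj
    · exact pairC_cert (fun y => let ⟨g, h1, h2⟩ := hT _ y; ⟨g, h1, h2 j (by omega), h2 k (by omega)⟩)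
        ⟨Finset.univ, by rw [Finset.card_univ]; nlinarith⟩ hg h4
    · exact F.long (φ := φ) layOK_E6 h (by omega) (fun s hs => ⟨congrArg Prod.fst (h4 s hs), by simp [twF, h4 s hs]⟩) h5
  · obtain ⟨y, hy⟩ := hg _ (certE6 k (by omega)).1
    obtain ⟨g, h1, h2⟩ := hT (tabE6 k k) y
    exact ⟨g, h1, by simpa [h2 k (by omega)] using hy⟩

end Cfsg.Agent.H8
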