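import Cfsg.Agent.H8.TwP
import Cfsg.Agent.H6.StR1

/-! Central extensions of twisted groups whose kernel has order prime to the characteristic. -/

set_option autoImplicit false
set_option linter.unusedSectionVars false

namespace Cfsg.Agent.H8

open Cfsg.Lie Matrix Cfsg.Agent.H7
open scoped commutatorElement

section PE

variable {Γ G : Type*} [Group Γ] [Group G] {θ : Γ →* G} {p : ℕ} {a b : Γ}

/-- Elements whose order is a power of `p`. -/
def PE (p : ℕ) (a : Γ) : Prop := ∃ k, a ^ p ^ k = 1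

theorem PE.one : PE p (1 : Γ) := ⟨0, one_pow _⟩

theorem PE.inv (h : PE p a) : PE p a⁻¹ := h.imp fun _ h => by rw [inv_pow, h, inv_one]

theorem PE.conj (h : PE p a) (g : Γ) : PE p (g * a * g⁻¹) := h.imp fun _ h => by simp [h]

theorem PE.conj' (h : PE p a) (g : Γ) : PE p (g⁻¹ * a * g) := by simpa using h.conj g⁻¹

theorem PE.of_isPGroup {Q : Subgroup Γ} (hQ : IsPGroup p Q) (h : a ∈ Q) : PE p a :=
  (hQ ⟨a, h⟩).imp fun _ h => congrArg Subtype.val h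

/-- A central extension whose kernel has no `p`-torsion. -/
structure PK (p : ℕ) (θ : Γ →* G) : Prop where
  cen : θ.ker ≤ Subgroup.center Γ
  tor : ∀ z, θ z = 1 → z ^ p = 1 → z = 1

namespace PK

variable (H : PK p θ)
include H

theorem eq_one (h : θ a = 1) (ha : PE p a) : a = 1 := by
  obtain ⟨k, hk⟩ := ha
  induction k with
  | zero => simpa using hk
  | succ k ih => exact ih (H.tor _ (by simp [h]) (by rw [← pow_mul, ← pow_succ, hk]))

theorem unique (h : θ a = θ b) (ha : PE p a) (hb : PE p b) : a = b := by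
  have h1 : θ (a * b⁻¹) = 1 := by simp [h]
  have h2 : Commute a b⁻¹ := by
    have := Subgroup.mem_center_iff.1 (H.cen h1) b
    rw [inv_mul_cancel_right, ← mul_assoc, mul_inv_eq_iff_eq_mul] at this
    exact Commute.inv_right this.symm
  obtain ⟨k, hk⟩ := ha
  obtain ⟨l, hl⟩ := hb.inv
  refine mul_inv_eq_one.1 (H.eq_one h1 ⟨k + l, ?_⟩)
  rw [h2.mul_pow, pow_add, pow_mul, hk, mul_comm (p ^ k), pow_mul, hl]; simp

variable [hp : Fact p.Prime] [Finite Γ]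

theorem lift {g : G} (hg : g ∈ θ.range) (h : PE p g) : ∃ a, θ a = g ∧ PE p a := by
  obtain ⟨e, rfl⟩ := hg
  obtain ⟨k, hk⟩ := h
  have h4 : θ (e ^ p ^ k) = 1 := by rw [map_pow, hk]
  have h5 : p.Coprime (orderOf (e ^ p ^ k)) := by
    rw [Nat.Prime.coprime_iff_not_dvd hp.out]
    rintro ⟨m, hm⟩
    have h6 := H.tor ((e ^ p ^ k) ^ m) (by rw [map_pow, h4, one_pow]) (by rw [← pow_mul _ m, mul_comm, ← hm, pow_orderOf_eq_one])
    have h8 := orderOf_pos (e ^ p ^ k)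
    rw [hm] at h8
    have h9 : 0 < m := Nat.pos_of_mul_pos_left h8
    have h7 := Nat.le_of_dvd h9 (orderOf_dvd_of_pow_eq_one h6)
    have := hp.out.two_le
    nlinarith
  obtain ⟨m, hm⟩ := exists_pow_eq_self_of_coprime (h5.pow_left k)
  refine ⟨e * ((e ^ p ^ k) ^ m)⁻¹, by rw [map_mul, map_inv, map_pow, h4]; simp, k, ?_⟩
  rw [(((Commute.refl e).pow_right _).pow_right m).inv_right.mul_pow, inv_pow, ← pow_mul _ m, mul_comm m, pow_mul, hm,
    mul_inv_cancel]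

theorem mul [Finite G] {Q : Subgroup G} (hQ : IsPGroup p Q) (h1 : θ a ∈ Q) (h2 : θ b ∈ Q) (ha : PE p a) (hb : PE p b) :
    PE p (a * b) := by
  have := hQ.isNilpotent
  have : Group.IsNilpotent (Q.comap θ) := Subgroup.isNilpotent_of_ker_le_center (θ.subgroupComap Q) fun z hz =>
    Subgroup.mem_center_iff.2 fun g => Subtype.ext (Subgroup.mem_center_iff.1 (H.cen (congrArg Subtype.val hz :)) g.1)
  obtain ⟨P⟩ : Nonempty (Sylow p (Q.comap θ)) := inferInstance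
  have := Sylow.unique_of_normal P (Sylow.normal_of_normalizerCondition Group.normalizerCondition_of_isNilpotent P)
  have key : ∀ c : Q.comap θ, PE p c.1 → c ∈ P := fun c ⟨k, hk⟩ => by
    obtain ⟨P', h⟩ := IsPGroup.exists_le_sylow (p := p) (P := Subgroup.zpowers c) (by
      rintro ⟨_, n, rfl⟩
      exact ⟨k, Subtype.ext (Subtype.ext (by
        change (c.1 ^ n) ^ p ^ k = 1
        rw [← zpow_natCast, ← _root_.zpow_mul, mul_comm, _root_.zpow_mul, zpow_natCast, hk, _root_.one_zpow]))⟩)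
    exact Subsingleton.elim P' P ▸ h (Subgroup.mem_zpowers c)
  exact (P.isPGroup' ⟨_, mul_mem (key ⟨a, h1⟩ ha) (key ⟨b, h2⟩ hb)⟩).imp fun _ h => congrArg (fun y : P => y.1.1) h

end PK

end PE

variable {D : ChevalleyDatum} {K : Type*} [Field K] {G : Type*} [Group G] {x : ℕ → K → G}
  [hD : RootFacts D] [hN : NFacts D] {Γ : Type*} [Group Γ] {θ : Γ →* G} {p : ℕ} {J J' : Set ℕ} {a m n v : Γ}
  {w : Equiv.Perm ℕ} {i : Fin D.rank} {k : ℕ}

variable (D x) in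
/-- The lift of a rank one subgroup. -/
def RJ (p : ℕ) (θ : Γ →* G) (J : Set ℕ) : Subgroup Γ :=
  Subgroup.closure {a | (θ a ∈ XJ D x J ∨ θ a ∈ YJ D x J) ∧ PE p a}

variable (D x) in
/-- Representatives of the longest element in the lift of a rank one subgroup. -/
def NJ (p : ℕ) (θ : Γ →* G) (J : Set ℕ) (n : Γ) : Prop := n ∈ RJ D x p θ J ∧ NRep D x (θ n) (wJ D J)

theorem conj_RJ (hx : IsSt D x) (hm : NRep D x (θ m) w)
    (hw : ∀ r, D.IsPosRoot r → D.InRootSub J r → D.IsPosRoot (w r) ∧ D.InRootSub J' (w r)) (ha : a ∈ RJ D x p θ J) :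
    m * a * m⁻¹ ∈ RJ D x p θ J' := by
  refine (Subgroup.closure_le ((RJ D x p θ J').comap (MulAut.conj m).toMonoidHom)).2 ?_ ha
  rintro a ⟨h1, h2⟩
  refine Subgroup.subset_closure ⟨h1.imp (fun h1 => ?_) fun h1 => ?_, h2.conj m⟩
  · simpa [XJ] using hm.conj_XS hx (fun s hs => hw s hs.1 hs.2) h1
  · simpa [YJ] using hm.conj_XS hx (T := {r | D.IsNegRoot r ∧ D.InRootSub J' r}) (fun s hs => by
      have h3 := hw _ ((neg_pos_iff hs.1.1).2 hs.1) (H8.inRootSub_neg hs.2)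
      have h4 := W_lt hm.mem_W hs.1.1
      rw [W_neg hm.mem_W hs.1.1, neg_pos_iff h4, H7.inRootSub_neg h4] at h3
      exact h3) h1

omit hN in
theorem map_RJ (ha : a ∈ RJ D x p θ J) : θ a ∈ LJ D x J :=
  (Subgroup.closure_le ((LJ D x J).comap θ)).2 (fun _ h => h.1.elim
    (fun h => (XS_le (H := LJ D x J)).2 (fun _ hr t => x_mem_LJ hr.2 t) h)
    fun h => (XS_le (H := LJ D x J)).2 (fun _ hr t => x_mem_LJ hr.2 t) h) ha

theorem NJ.inv (hx : IsSt D x) (hn : NJ D x p θ J n) : NJ D x p θ J n⁻¹ :=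
  ⟨inv_mem hn.1, by rw [map_inv]; exact NRep_wJ_inv hx hn.2⟩

/-- Words in the representatives. -/
inductive Wd {ι : Type*} (T : Subgroup Γ) (N : ι → Γ → Prop) : ℕ → Γ → Prop
  | base {m : Γ} : m ∈ T → Wd T N 0 m
  | step {k : ℕ} {i : ι} {n m : Γ} : N i n → Wd T N k m → Wd T N (k + 1) (n * m)

variable {σ : G →* G} {ρ : Equiv.Perm ℕ} {π : Fin D.rank → Fin D.rank} {f : ℕ → K → K} {S : Subgroup G}
  {O : Fin D.rank → Set ℕ} {e : Fin D.rank → ℕ} {z : Fin D.rank → S} {T : Subgroup Γ}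

variable (D x) in
/-- The hypotheses on the extension and on a subgroup over the torus. -/
structure QD (p : ℕ) (θ : Γ →* G) (S : Subgroup G) (O : Fin D.rank → Set ℕ) (T : Subgroup Γ) : Prop where
  pk : PK p θ
  range : θ.range = S
  le : ∀ a ∈ T, θ a ∈ HH D x
  tj : ∀ i, ∀ a ∈ RJ D x p θ (O i), θ a ∈ HH D x → a ∈ T

namespace QD

variable (h : TwD D x σ ρ π f S O e z) (Q : QD D x p θ S O T)
include Q

omit hD hN in
theorem mem (a : Γ) : θ a ∈ S := Q.range ▸ ⟨a, rfl⟩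

include h

theorem mul_mem_T (hn : NJ D x p θ (O i) n) (hm : NJ D x p θ (O i) m) : n * m ∈ T :=
  Q.tj i _ (mul_mem hn.1 hm.1) (NRep.mem_HH h.st (by rw [map_mul, ← wJ_mul_self (D := D) (O i)]; exact hn.2.mul h.st hm.2))

theorem conj_T (hn : NJ D x p θ (O i) n) (ha : a ∈ T) : n * a * n⁻¹ ∈ T := by
  have h1 := NRep.of_mem_HH (Q.le _ (inv_mem ha))
  have h2 : NJ D x p θ (O i) (a⁻¹ * n * a⁻¹⁻¹) := ⟨conj_RJ h.st h1 (fun r h1 h2 => ⟨h1, h2⟩) hn.1, by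
    simpa using (hn.2.HH_mul h.st (inv_mem (Q.le _ ha))).mul_HH h.st (Q.le _ ha)⟩
  simpa [mul_assoc] using mul_mem ha (Q.mul_mem_T h h2 (hn.inv h.st))

theorem nrep (hm : Wd T (fun i => NJ D x p θ (O i)) k m) : ∃ w, NRep D x (θ m) w := by
  induction hm with
  | base h1 => exact ⟨_, .of_mem_HH (Q.le _ h1)⟩
  | step h1 _ ih => exact ih.elim fun w hw => ⟨_, map_mul θ _ _ ▸ h1.2.mul h.st hw⟩

theorem T_mul (hm : Wd T (fun i => NJ D x p θ (O i)) k m) (ha : a ∈ T) : Wd T (fun i => NJ D x p θ (O i)) k (a * m) := by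
  induction hm generalizing a with
  | base h1 => exact .base (mul_mem ha h1)
  | step h1 _ ih => simpa [mul_assoc] using Wd.step (N := fun i => NJ D x p θ (O i)) h1 (ih (Q.conj_T h (h1.inv h.st) ha))

theorem comm (hm : NRep D x (θ m) w) : Commute ρ w := h.tw.commute_of_cell h.faith hm.mem_cell (h.sub.fix _ (Q.mem m))

variable [hp : Fact p.Prime] [Finite Γ] [CharP K p] [Finite K]

theorem lift {g : G} (hg : g ∈ S) (hU : g ∈ UU D x ∨ g ∈ VV D x) : ∃ a, θ a = g ∧ PE p a := by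
  refine Q.pk.lift (Q.range ▸ hg) (hU.elim (PE.of_isPGroup (h.faith.isPGroup_UU p)) fun hV => ?_)
  obtain ⟨n, hn⟩ := h.exists_n0
  simpa [mul_assoc] using (PE.of_isPGroup (h.faith.isPGroup_UU p) (IsFaith.conj_VV_mem_UU h.st hn hV)).conj' n

theorem pe_mul {b : Γ} (h1 : θ a ∈ UU D x) (h2 : θ b ∈ UU D x) (ha : PE p a) (hb : PE p b) : PE p (a * b) :=
  have := h.chev.finite_G h.top
  Q.pk.mul (h.faith.isPGroup_UU p) h1 h2 ha hb

theorem exV (hv : θ v ∈ YJ D x (O i)) (hv' : PE p v) (h1 : v ≠ 1) : ∃ u n u', (θ u ∈ XJ D x (O i) ∧ PE p u) ∧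
    NJ D x p θ (O i) n ∧ (θ u' ∈ XJ D x (O i) ∧ PE p u') ∧ v = u * n * u' := by
  have h2 : v ∈ RJ D x p θ (O i) := Subgroup.subset_closure ⟨Or.inr hv, hv'⟩
  obtain ⟨u, hu, w, -, n, hn, u', hu', e⟩ := h.faith.mem_LJ_iff.1 (map_RJ h2)
  obtain rfl := h.faith.cell_unique (h.cell_of_YJ (Q.mem v) hv fun e => h1 (Q.pk.eq_one e hv'))
    ⟨u, UU_le_BB x (XJ_le _ hu), n, hn, u', UU_le_BB x (Um_le_UU x _ hu'), e⟩
  obtain ⟨h3, h4⟩ := (h.sub.orbSub h.tw h.faith).sharp _ (Q.mem v) u (XJ_le _ hu) _ n hn u' hu' e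
  rw [Um_wJ] at hu'
  obtain ⟨a, rfl, ha⟩ := Q.lift h h3 (Or.inl (XJ_le _ hu))
  obtain ⟨b, rfl, hb⟩ := Q.lift h h4 (Or.inl (XJ_le _ hu'))
  exact ⟨a, a⁻¹ * v * b⁻¹, b, ⟨hu, ha⟩, ⟨mul_mem (mul_mem (inv_mem (Subgroup.subset_closure ⟨Or.inl hu, ha⟩)) h2)
    (inv_mem (Subgroup.subset_closure ⟨Or.inl hu', hb⟩)), by simpa [e, mul_assoc] using hn⟩, ⟨hu', hb⟩, by group⟩

theorem exN (i : Fin D.rank) : ∃ n, NJ D x p θ (O i) n := by
  obtain ⟨n, hn⟩ := h.exists_nJ i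
  have h1 := conj_XJ h.st hn (h.zmem i)
  obtain ⟨v, hv, hv'⟩ := Q.lift h (n * z i * n⁻¹).2 (Or.inr (YJ_le _ h1))
  obtain ⟨-, m, -, -, hm, -⟩ := Q.exV h (i := i) (hv ▸ h1) hv' fun e => h.z_ne i (by simpa [e] using hv.symm)
  exact ⟨m, hm⟩

theorem exch (hm : Wd T (fun i => NJ D x p θ (O i)) k m) (hw : NRep D x (θ m) w) (hi : D.IsNegRoot (w (D.simple i))) :
    ∃ k' m' n, k = k' + 1 ∧ Wd T (fun i => NJ D x p θ (O i)) k' m' ∧ NJ D x p θ (O i) n ∧ m = m' * n := by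
  induction hm generalizing w with
  | base h1 =>
    rw [h.faith.nrep_unique hw (.of_mem_HH (Q.le _ h1))] at hi
    exact absurd hi (not_neg_of_pos (simple_pos i))
  | @step k j n m h1 h2 ih =>
    obtain ⟨w', hw'⟩ := Q.nrep h h2
    obtain rfl := h.faith.nrep_unique (map_mul θ _ _ ▸ h1.2.mul h.st hw') hw
    obtain h3 | h3 := pos_or_neg (W_lt hw'.mem_W (simple_lt i))
    · obtain ⟨n', hn'⟩ := Q.exN h i
      have h4 := conj_RJ h.st hw' (J' := O j) (fun r hr hJ => by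
        have h5 := W_pos_of_J hw'.mem_W (fun _ => h.pos_orb (Q.comm h hw') h3) hr hJ
        exact ⟨h5, inRootSub_of_wJ h5 (W_neg_of_J hw.mem_W (fun _ => h.neg_orb hw.mem_W (Q.comm h hw) hi) hr hJ)⟩) hn'.1
      have h5 : NRep D x (θ (m * n' * m⁻¹)) (w' * wJ D (O i) * w'⁻¹) := by
        simpa using (hw'.mul h.st hn'.2).mul h.st (hw'.inv h.st)
      obtain h6 | h6 := h.cell_cases (Q.mem _) (LJ_le_PJ h.st (map_RJ h4))
      · exact absurd (by simpa using h.faith.cell_unique h5.mem_cell (Cell.of_mem_BB h6)) (h.wJ_ne_one i)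
      rw [h.faith.cell_unique h5.mem_cell h6] at h5
      exact ⟨k, _, _, rfl, Q.T_mul h h2 (Q.mul_mem_T h h1 ⟨h4, h5⟩), hn'.inv h.st, by group⟩
    · obtain ⟨k', m', n', rfl, h4, h5, rfl⟩ := ih hw' h3
      exact ⟨_, _, _, rfl, .step h1 h4, h5, by group⟩

theorem mem_T (hm : Wd T (fun i => NJ D x p θ (O i)) k m) (hH : θ m ∈ HH D x) : m ∈ T := by
  induction k using Nat.strong_induction_on generalizing m with
  | _ k ih =>
    cases hm with
    | base h1 => exact h1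
    | @step k j n m h1 h2 =>
      have h3 : NRep D x (θ m) (wJ D (O j)) := by simpa using (h1.inv h.st).2.mul_HH h.st hH
      obtain ⟨k', m', n', rfl, h4, h5, rfl⟩ := Q.exch h h2 h3 (wJ_simple (h.sub.self j))
      have h6 := ih _ (by omega) h4 (by simpa using h3.mul_inv_mem h.st h5.2)
      simpa [mul_assoc] using mul_mem (Q.conj_T h h1 h6) (Q.mul_mem_T h h1 h5)

theorem ker_le (hst : θ.ker ≤ commutator Γ) : θ.ker ≤ T := by
  let E : Γ → Prop := fun g => ∃ u m u' k, (θ u ∈ UU D x ∧ PE p u) ∧ Wd T (fun i => NJ D x p θ (O i)) k m ∧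
    (θ u' ∈ UU D x ∧ PE p u') ∧ g = u * m * u'
  have hU : ∀ u g, θ u ∈ UU D x → PE p u → E g → E (u * g) := by
    rintro u _ h1 h2 ⟨a, m, b, k, ha, hm, hb, rfl⟩
    exact ⟨u * a, m, b, k, ⟨by simpa using mul_mem h1 ha.1, Q.pe_mul h h1 ha.1 h2 ha.2⟩, hm, hb, by group⟩
  have hN : ∀ i n g, NJ D x p θ (O i) n → E g → E (n * g) := by
    rintro i n _ hn ⟨u, m, u', k, hu, hm, hu', rfl⟩
    obtain ⟨a, ha, b, hb, e⟩ := h.st.UU_eq_Um_Up (wJ_mem_W (O i)) (inv_mem hu.1)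
    obtain ⟨h1, h2⟩ := h.tw.fix_Um_Up h.faith (wJ_mem_W _) (Q.comm h hn.2) ha hb (e ▸ h.sub.fix _ (inv_mem (Q.mem u)))
    have ha1 := Um_le_UU x _ ha
    have hb1 := Up_le_UU x _ hb
    obtain ⟨a, rfl, ha'⟩ := Q.lift h (h.sub.mem_of_UU h.tw h.faith ha1 h1) (Or.inl ha1)
    obtain ⟨b, rfl, hb'⟩ := Q.lift h (h.sub.mem_of_UU h.tw h.faith hb1 h2) (Or.inl hb1)
    obtain rfl : u = (a * b)⁻¹ := Q.pk.unique (by rw [map_inv, map_mul, ← e, inv_inv]) hu.2 (Q.pe_mul h ha1 hb1 ha' hb').inv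
    rw [show n * ((a * b)⁻¹ * m * u') = n * b⁻¹ * n⁻¹ * (n * a⁻¹ * m * u') by group]
    refine hU _ _ (by simpa [UU] using hn.2.conj_XS h.st (fun s hs => hs.2) (inv_mem hb)) (hb'.inv.conj n) ?_
    rw [Um_wJ] at ha
    have key : ∀ n m k w a, NJ D x p θ (O i) n → Wd T (fun i => NJ D x p θ (O i)) k m → NRep D x (θ m) w →
        (∀ r, D.IsPosRoot r → D.InRootSub (O i) r → D.IsPosRoot (w⁻¹ r)) → θ a ∈ XJ D x (O i) → PE p a →
        E (n * a * m * u') := fun n m k w a hn hm hw h3 ha ha' => by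
      have h4 : θ (m⁻¹ * a * m) ∈ UU D x := by simpa [UU] using hw.conj_XS' h.st (fun s hs => h3 s hs.1 hs.2) ha
      exact ⟨1, n * m, m⁻¹ * a * m * u', _, ⟨by simp, .one⟩, .step hn hm,
        ⟨map_mul θ _ u' ▸ mul_mem h4 hu'.1, Q.pe_mul h h4 hu'.1 (ha'.conj' m) hu'.2⟩, by group⟩
    obtain ⟨w, hw⟩ := Q.nrep h hm
    have h3 := inv_mem hw.mem_W
    have h4 := (Q.comm h hw).inv_right
    obtain h5 | h5 := pos_or_neg (W_lt h3 (simple_lt i))
    · exact key _ _ _ _ _ hn hm hw (fun r => W_pos_of_J h3 fun _ => h.pos_orb h4 h5) (by simpa using ha) ha'.inv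
    by_cases h6 : n * a⁻¹ * n⁻¹ = 1
    · exact ⟨1, n * m, u', _, ⟨by simp, .one⟩, .step hn hm, hu', by rw [mul_inv_eq_one.1 h6, one_mul]⟩
    obtain ⟨u₁, n', u₂, h7, h8, h9, e'⟩ := Q.exV h (i := i) (by simpa using conj_XJ h.st hn.2 (inv_mem ha)) (ha'.inv.conj n) h6
    rw [show n * a⁻¹ * m * u' = u₁ * (n' * u₂ * (n * m) * u') by rw [mul_inv_eq_iff_eq_mul.1 e']; group]
    refine hU _ _ (XJ_le _ h7.1) h7.2 (key _ _ _ _ _ h8 (.step hn hm) (map_mul θ _ _ ▸ hn.2.mul h.st hw) (fun r hr hJ => ?_) h9.1 h9.2)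
    have h10 := wJ_neg hr hJ
    rw [_root_.mul_inv_rev, wJ_inv]
    exact W_neg_pos h3 h10 (W_neg_of_J h3 (fun _ => h.neg_orb h3 h4 h5) ((neg_pos_iff h10.1).2 h10)
      (H8.inRootSub_neg ((inRootSub_WJ (wJ_mem _)).2 hJ)))
  have hE : ∀ a g, (∃ i, (θ a ∈ XJ D x (O i) ∨ θ a ∈ YJ D x (O i)) ∧ PE p a) → E g → E (a * g) := by
    rintro a g ⟨i, h1 | h1, h2⟩ hg
    · exact hU _ _ (XJ_le _ h1) h2 hg
    by_cases h3 : a = 1
    · rwa [h3, one_mul]
    obtain ⟨u, n, u', h4, h5, h6, rfl⟩ := Q.exV h h1 h2 h3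
    simpa only [mul_assoc] using hU _ _ (XJ_le _ h4.1) h4.2 (hN _ _ _ h5 (hU _ _ (XJ_le _ h6.1) h6.2 hg))
  let M := Subgroup.closure {a | ∃ i, (θ a ∈ XJ D x (O i) ∨ θ a ∈ YJ D x (O i)) ∧ PE p a}
  have hM : S ≤ M.map θ := h.gen _ (fun i g hg => let ⟨a, h1, h2⟩ := Q.lift h hg.1 (Or.inl (XJ_le _ hg.2))
      ⟨a, Subgroup.subset_closure ⟨i, Or.inl (h1 ▸ hg.2), h2⟩, h1⟩)
    fun i g hg => let ⟨a, h1, h2⟩ := Q.lift h hg.1 (Or.inr (YJ_le _ hg.2))
      ⟨a, Subgroup.subset_closure ⟨i, Or.inr (h1 ▸ hg.2), h2⟩, h1⟩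
  have hM' : commutator Γ ≤ M := Subgroup.commutator_le.2 fun a _ b _ => by
    obtain ⟨a', h1, h2⟩ := hM (Q.mem a)
    obtain ⟨b', h3, h4⟩ := hM (Q.mem b)
    rw [← comm_congr Q.pk.cen h2 h4]
    exact mul_mem (mul_mem (mul_mem h1 h3) (inv_mem h1)) (inv_mem h3)
  intro g hg
  obtain ⟨u, m, u', k, hu, hm, hu', rfl⟩ : E g := Subgroup.closure_induction_left (p := fun g _ => E g)
    ⟨1, 1, 1, 0, ⟨by simp, .one⟩, .base (one_mem _), ⟨by simp, .one⟩, by simp⟩ (fun a ha g _ => hE a g ha)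
    (fun a ⟨i, h1, h2⟩ g _ => hE _ g ⟨i, by simpa using h1, h2.inv⟩) (hM' (hst hg))
  obtain ⟨w, hw⟩ := Q.nrep h hm
  rw [MonoidHom.mem_ker, map_mul, map_mul] at hg
  obtain rfl := h.faith.cell_unique (Cell.of_mem_BB (one_mem _)) ⟨_, UU_le_BB x hu.1, _, hw, _, UU_le_BB x hu'.1, hg.symm⟩
  have h1 := hw.mem_HH h.st
  have h2 := h.faith.eq_one_of_UU_HH (g := θ m) (by
    rw [eq_inv_of_mul_eq_one_left hg |> eq_inv_mul_of_mul_eq]; exact mul_mem (inv_mem hu.1) (inv_mem hu'.1)) h1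
  rw [mul_assoc, ← Subgroup.mem_center_iff.1 (Q.pk.cen h2), ← mul_assoc, Q.pk.eq_one (a := u * u') (by simpa [h2] using hg)
    (Q.pe_mul h hu.1 hu'.1 hu.2 hu'.2), one_mul]
  exact Q.mem_T h hm h1

end QD

end Cfsg.Agent.H8
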