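import Cfsg.Agent.H8.TwQ

/-! Rank one subgroups of type `A1` in central extensions of twisted groups. -/

set_option autoImplicit false
set_option linter.unusedSectionVars false

namespace Cfsg.Agent.H8

open Cfsg.Lie Matrix Cfsg.Agent.H7 Cfsg.Agent.H6
open scoped commutatorElement

theorem r1_form {G K : Type*} [Group G] [Field K] [Finite K] {x y : K → G} (H : IsR1 x y) {g : G}
    (hg : g ∈ Subgroup.closure (Set.range x ∪ Set.range y)) : ∃ m ν, IsR1.IsRep x y m ∧ g = m * x ν := by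
  have key : ∀ s ∈ Set.range x ∪ Set.range y, ∀ g, (∃ m ν, IsR1.IsRep x y m ∧ g = m * x ν) →
      ∃ m ν, IsR1.IsRep x y m ∧ s * g = m * x ν := by
    rintro s (⟨l, rfl⟩ | ⟨l, rfl⟩) g ⟨m, ν, hm, rfl⟩
    · obtain ⟨m', ν', h1, h2⟩ := H.x_mul_rep l hm
      exact ⟨m', ν' + ν, h1, by rw [← mul_assoc, h2, H.addx, mul_assoc]⟩
    · obtain ⟨t, ht, ⟨μ, rfl⟩ | rfl⟩ := hm
      · exact ⟨_, ν, ⟨t, ht, Or.inl ⟨l + μ, rfl⟩⟩, by rw [H.addy]; group⟩
      · refine ⟨_, -(t ^ 2 * l) + ν, ⟨t, ht, Or.inr rfl⟩, ?_⟩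
        have := H.wx t ht (-(t ^ 2 * l))
        rw [show -(t⁻¹ ^ 2 * -(t ^ 2 * l)) = l by field_simp] at this
        rw [H.addx, ← this]; group
  induction hg using Subgroup.closure_induction_left with
  | one => exact ⟨_, 0, ⟨1, one_ne_zero, Or.inl ⟨0, rfl⟩⟩, by simp [H.x_zero, H.y_zero, H.h_one]⟩
  | mul_left s hs g _ ih => exact key s hs g ih
  | inv_mul_cancel s hs g _ ih =>
    refine key _ ?_ g ih
    rcases hs with ⟨l, rfl⟩ | ⟨l, rfl⟩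
    · exact Or.inl ⟨-l, H.x_neg l⟩
    · exact Or.inr ⟨-l, H.y_neg l⟩

theorem exists_prod_of_foldr {Γ ι : Type*} [Group Γ] {C : Subgroup Γ} {T : ι → Subgroup Γ}
    (hT : ∀ i, T i ≤ C ∧ C ≤ Subgroup.normalizer (T i : Set Γ)) (l : List ι) : l.foldr (fun i A => T i ⊔ A) ⊥ ≤ C ∧
      (∀ i ∈ l, T i ≤ l.foldr (fun i A => T i ⊔ A) ⊥) ∧
      ∀ z ∈ l.foldr (fun i A => T i ⊔ A) ⊥, ∃ L, List.Forall₂ (fun i a => a ∈ T i) l L ∧ z = L.prod := by
  induction l with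
  | nil => simp
  | cons i l ih =>
    refine ⟨sup_le (hT i).1 ih.1, List.forall_mem_cons.2 ⟨le_sup_left, fun j hj => (ih.2.1 j hj).trans le_sup_right⟩,
      fun z hz => ?_⟩
    obtain ⟨a, ha, b, hb, rfl⟩ := (Subgroup.coe_mul_of_right_le_normalizer_left _ _ (ih.1.trans (hT i).2)).le hz
    obtain ⟨L, h1, rfl⟩ := ih.2.2 b hb
    exact ⟨a :: L, .cons ha h1, rfl⟩

theorem pk_of_pmult.{u} {Γ G : Type u} [Group Γ] [Group G] [Finite Γ] {S : Subgroup G} {τ : Γ →* S} {p : ℕ}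
    (h : L0.PMult S p 0 0) (hτ : IsStemExtension τ) : PK p (S.subtype.comp τ) ∧ (S.subtype.comp τ).range = S ∧
      (S.subtype.comp τ).ker = τ.ker := by
  have h1 : (S.subtype.comp τ).ker = τ.ker := by ext; simp
  refine ⟨⟨h1 ▸ hτ.2.1, fun z hz h2 => ?_⟩, by
    rw [MonoidHom.range_comp, MonoidHom.range_eq_top.2 hτ.1, ← MonoidHom.range_eq_map, S.range_subtype], h1⟩
  obtain ⟨L, -, h3⟩ := h.general hτ
  have h4 : Function.Surjective fun a : τ.ker => a ^ p := fun a => by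
    obtain ⟨c, hc, b, e⟩ := h3 a
    exact ⟨b, by simp_all⟩
  exact congrArg Subtype.val (Finite.injective_iff_surjective.2 h4 (a₁ := ⟨z, h1 ▸ hz⟩) (a₂ := 1) (Subtype.ext (by simpa)))

variable {D : ChevalleyDatum} {K : Type*} [Field K] {G : Type*} [Group G] {x : ℕ → K → G}
  [hD : RootFacts D] [hN : NFacts D] {Γ : Type*} [Group Γ] {θ : Γ →* G} {p : ℕ} {i : Fin D.rank}
  {σ : G →* G} {ρ : Equiv.Perm ℕ} {π : Fin D.rank → Fin D.rank} {f : ℕ → K → K} {S : Subgroup G}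
  {O : Fin D.rank → Set ℕ} {e : Fin D.rank → ℕ} {z : Fin D.rank → S} {L : Type*} [Field L]

theorem isR1_prod (hx : IsSt D x) {R : List (ℕ × (L →+* K))} (h9 : ∀ p ∈ R, p.1 < D.nroots)
    (hR : (R.map Prod.fst).Pairwise fun r s => ∀ a ∈ [r, D.neg r], ∀ b ∈ [s, D.neg s], b ≠ D.neg a ∧ D.commTerms a b = []) :
    IsR1 (fun t => (R.map fun p => x p.1 (p.2 t)).prod) (fun t => (R.map fun p => x (D.neg p.1) (p.2 t)).prod) ∧ ∀ t,
      stW (fun t => (R.map fun p => x p.1 (p.2 t)).prod) (fun t => (R.map fun p => x (D.neg p.1) (p.2 t)).prod) t =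
        (R.map fun p => nE D x p.1 (p.2 t)).prod ∧
      stH (fun t => (R.map fun p => x p.1 (p.2 t)).prod) (fun t => (R.map fun p => x (D.neg p.1) (p.2 t)).prod) t =
        (R.map fun p => hE D x p.1 (p.2 t)).prod := by
  rw [List.pairwise_map] at hR
  have hR' : R.Pairwise fun p q => ∀ a ∈ XS x {p.1, D.neg p.1}, ∀ b ∈ XS x {q.1, D.neg q.1}, Commute a b :=
    hR.imp fun hpq a ha b hb => commute_XS (fun r hr s hs => let h := hpq r (by simpa using hr) s (by simpa using hs)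
      hx.commute h.1 h.2) ha hb
  have h1 : ∀ (p : ℕ × (L →+* K)) t, x p.1 t ∈ XS x {p.1, D.neg p.1} := fun _ _ => x_mem_XS (by simp) _
  have h2 : ∀ (p : ℕ × (L →+* K)) t, x (D.neg p.1) t ∈ XS x {p.1, D.neg p.1} := fun _ _ => x_mem_XS (by simp) _
  have h7 : ∀ t, stW (fun t => (R.map fun p => x p.1 (p.2 t)).prod) (fun t => (R.map fun p => x (D.neg p.1) (p.2 t)).prod) t =
      (R.map fun p => nE D x p.1 (p.2 t)).prod := fun t => by
    rw [stW, prod_mul_of_pairwise hR' (fun _ => h1 _ _) fun _ => h2 _ _,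
      prod_mul_of_pairwise hR' (fun _ => mul_mem (h1 _ _) (h2 _ _)) fun _ => h1 _ _]
    simp [nE]
  refine ⟨⟨fun t u => ?_, fun t u => ?_, fun t ht u => ?_⟩, fun t => ⟨h7 t, ?_⟩⟩
  · simp [prod_mul_of_pairwise hR' (fun _ => h1 _ _) fun _ => h1 _ _, hx.add]
  · simp [prod_mul_of_pairwise hR' (fun _ => h2 _ _) fun _ => h2 _ _, hx.add]
  · rw [h7, mul_inv_eq_iff_eq_mul, prod_mul_of_pairwise hR' (fun _ => nE_mem_XS x _ _) fun _ => h1 _ _,
      prod_mul_of_pairwise hR' (fun _ => h2 _ _) fun _ => nE_mem_XS x _ _]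
    exact congrArg _ (List.map_congr_left fun p hp => by
      rw [← mul_inv_eq_iff_eq_mul, hx.nE_conj_self (h9 p hp) (by simpa using ht)]; simp)
  · rw [stH, h7, h7, prod_mul_of_pairwise hR' (fun _ => nE_mem_XS x _ _) fun _ => nE_mem_XS x _ _]
    simp [hE]

theorem QD.triv (hθ : PK p θ) (hr : θ.range = S) : QD D x p θ S O ((HH D x).comap θ) :=
  ⟨hθ, hr, fun _ h => h, fun _ _ _ h => h⟩

variable (h : TwD D x σ ρ π f S O e z) (hθ : PK p θ) (hr : θ.range = S) [hp : Fact p.Prime] [Finite Γ] [CharP K p] [Finite K]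
include h hθ hr

theorem exists_prod (hst : θ.ker ≤ commutator Γ) (l : List (Fin D.rank)) (hl : ∀ i, ∃ j ∈ l, O i = O j) {a : Γ}
    (ha : θ a = 1) : ∃ L, List.Forall₂ (fun i a => a ∈ RJ D x p θ (O i) ⊓ (HH D x).comap θ) l L ∧ a = L.prod := by
  obtain ⟨h1, h2, h3⟩ := exists_prod_of_foldr (C := (HH D x).comap θ) (T := fun i => RJ D x p θ (O i) ⊓ (HH D x).comap θ)
    (fun i => ⟨inf_le_right, fun g hg => by
      have key : ∀ g, θ g ∈ HH D x → ∀ y ∈ RJ D x p θ (O i) ⊓ (HH D x).comap θ,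
          g * y * g⁻¹ ∈ RJ D x p θ (O i) ⊓ (HH D x).comap θ := fun g hg y hy =>
        ⟨conj_RJ h.st (.of_mem_HH hg) (fun _ h1 h2 => ⟨h1, h2⟩) hy.1, by simpa using mul_mem (mul_mem hg hy.2) (inv_mem hg)⟩
      exact Subgroup.mem_normalizer_iff.2 fun y => ⟨key g hg y, fun hy => by
        simpa [mul_assoc] using key _ (inv_mem hg) _ hy⟩⟩) l
  exact h3 a (QD.ker_le h ⟨hθ, hr, h1, fun i a h4 h5 => let ⟨j, hj, e⟩ := hl i; h2 j hj ⟨e ▸ h4, h5⟩⟩ hst ha)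

theorem exists_r1 [Finite L] {ξ η : L → G} (h1 : IsR1 ξ η) (h2 : ∀ t, ξ t ∈ S ∧ η t ∈ S) (h3 : ∀ t, ξ t ∈ XJ D x (O i))
    (h4 : ∀ g ∈ S, g ∈ XJ D x (O i) → ∃ t, g = ξ t) (h5 : ∀ t ≠ 0, NRep D x (stW ξ η t) (wJ D (O i))) :
    ∃ ξ' η' : L → Γ, IsR1 ξ' η' ∧ (∀ t, θ (ξ' t) = ξ t ∧ PE p (ξ' t)) ∧ (∀ t, θ (η' t) = η t ∧ PE p (η' t)) ∧
      ∀ a ∈ RJ D x p θ (O i) ⊓ (HH D x).comap θ, ∃ t ≠ 0, a = stH ξ' η' t := by
  have Q := QD.triv (D := D) (x := x) (O := O) hθ hr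
  have h6 : ∀ t, η t ∈ YJ D x (O i) := fun t => by
    simpa [h1.wx 1 one_ne_zero] using conj_XJ h.st (h5 1 one_ne_zero) (h3 (-t))
  choose ξ' a1 a2 using fun t => Q.lift h (h2 t).1 (Or.inl (XJ_le _ (h3 t)))
  choose η' b1 b2 using fun t => Q.lift h (h2 t).2 (Or.inr (YJ_le _ (h6 t)))
  have h7 : ∀ t, θ (stW ξ' η' t) = stW ξ η t := fun t => by simp [stW, a1, b1]
  have h8 : ∀ t, t ≠ 0 → ∀ u, stW ξ' η' t * ξ' u * (stW ξ' η' t)⁻¹ = η' (-(t⁻¹ ^ 2 * u)) := fun t ht u =>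
    hθ.unique (by simp [h7, a1, b1, h1.wx t ht]) ((a2 u).conj _) (b2 _)
  have h9 : ∀ t u, ξ' (t + u) = ξ' t * ξ' u := fun t u => hθ.unique (by simp [a1, h1.addx]) (a2 _)
    (Q.pe_mul h (a1 t ▸ XJ_le _ (h3 t)) (a1 u ▸ XJ_le _ (h3 u)) (a2 t) (a2 u))
  have H : IsR1 ξ' η' := ⟨h9, fun t u => by
    have := fun t => h8 1 one_ne_zero (-t)
    simp only [inv_one, one_pow, one_mul, neg_neg] at this
    rw [← this, ← this, ← this, neg_add, h9]; group, h8⟩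
  refine ⟨ξ', η', H, fun t => ⟨a1 t, a2 t⟩, fun t => ⟨b1 t, b2 t⟩, fun a ha => ?_⟩
  obtain ⟨m, ν, ⟨t, ht, hm⟩, rfl⟩ := r1_form H (Subgroup.closure_mono (by
    rintro a ⟨h10 | h10, h11⟩
    · obtain ⟨t, ht⟩ := h4 _ (Q.mem a) h10
      exact Or.inl ⟨t, hθ.unique (by rw [a1, ht]) (a2 t) h11⟩
    · obtain ⟨t, ht⟩ := h4 _ (Q.mem (stW ξ' η' 1 * a * (stW ξ' η' 1)⁻¹))
        (by simpa [h7] using conj_YJ h.st (h5 1 one_ne_zero) h10)
      have h12 := hθ.unique (ht.trans (a1 t).symm) (h11.conj _) (a2 t)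
      exact Or.inr ⟨-t, by simpa [H.w_neg, ← h12, mul_assoc] using (h8 (-1) (by simp) t).symm⟩) ha.1)
  have h10 := UU_le_BB x (XJ_le _ (h3 ν))
  have h11 : θ m * ξ ν ∈ HH D x := by simpa [a1] using ha.2
  obtain ⟨μ, rfl⟩ | rfl := hm
  · have h12 : θ (stH ξ' η' t) ∈ HH D x := NRep.mem_HH h.st (by
      rw [stH, map_mul, h7, h7, ← wJ_mul_self (D := D) (O i)]; exact (h5 t ht).mul h.st (h5 _ (by simp)))
    have h13 := h.faith.eq_one_of_VV_BB (YJ_le _ (h6 μ)) (by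
      simpa [b1] using mul_mem (mul_mem (HH_le_BB x h11) (inv_mem h10)) (inv_mem (HH_le_BB x h12)))
    have h14 := h.faith.eq_one_of_UU_HH (XJ_le _ (h3 ν)) (by simpa [b1, h13] using mul_mem (inv_mem h12) h11)
    exact ⟨t, ht, by rw [hθ.eq_one ((b1 μ).trans h13) (b2 μ), hθ.eq_one ((a1 ν).trans h14) (a2 ν), one_mul, mul_one]⟩
  · exact absurd (h.faith.cell_unique (Cell.mul_right (h5 t ht).mem_cell h10) (h7 t ▸ Cell.of_mem_BB (HH_le_BB x h11)))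
      (h.wJ_ne_one i)

theorem exists_tor [Finite L] (ι : L →+* K) (R : List (ℕ × (L →+* K)))
    (hR : (R.map Prod.fst).Pairwise fun r s => ∀ a ∈ [r, D.neg r], ∀ b ∈ [s, D.neg s], b ≠ D.neg a ∧ D.commTerms a b = [])
    (hJ : ∀ r < D.nroots, D.IsPosRoot r → D.InRootSub (O i) r → ∃ k, r = D.simple k.1 ∧ (k : Fin D.rank).1 ∈ O i)
    (hp : ∀ r ∈ R.map Prod.fst, D.IsPosRoot r ∧ D.InRootSub (O i) r)
    (h1 : ∀ t, (R.map fun p => x p.1 (p.2 t)).prod ∈ S) (h2 : ∀ t, (R.map fun p => x (D.neg p.1) (p.2 t)).prod ∈ S)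
    (h3 : ∀ t, Co D x i (R.map fun p => x p.1 (p.2 t)).prod (ι t)) (h4 : ∀ g ∈ S, ∀ t, Co D x i g t → ∃ s, t = ι s)
    (h0 : NRep D x (R.map fun p => nE D x p.1 1).prod (wJ D (O i))) :
    ∃ H : L → Γ, (∀ t ≠ 0, ∀ u ≠ 0, H (t * u) = H t * H u) ∧ (∀ t, θ (H t) = (R.map fun p => hE D x p.1 (p.2 t)).prod) ∧
      ∀ a ∈ RJ D x p θ (O i) ⊓ (HH D x).comap θ, ∃ t ≠ 0, a = H t := by
  have h9 : ∀ p ∈ R, p.1 < D.nroots := fun p hp' => (hp _ (List.mem_map_of_mem hp')).1.1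
  obtain ⟨a1, a2⟩ := isR1_prod h.st h9 hR
  have h8 : ∀ t ≠ 0, ∀ R' : List (ℕ × (L →+* K)), (∀ p ∈ R', p.1 < D.nroots) →
      NRep D x (R'.map fun p => nE D x p.1 (p.2 t)).prod (R'.map fun p => refl D p.1).prod := fun t ht R' hR' => by
    induction R' with
    | nil => exact NRep.one
    | cons p R' ih => exact (NRep.nE h.st (hR' p (by simp)) (by simpa using ht)).mul h.st (ih fun q hq => hR' q (by simp [hq]))
  obtain ⟨ξ, η, a⟩ := h.exists_abO ι R hR hJ hp h1 h2 h3 h4 h0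
  have h5 := h.faith.nrep_unique (by simpa using h8 1 one_ne_zero R h9) h0
  have h6 : ∀ t, (R.map fun p => x p.1 (p.2 t)).prod ∈ XJ D x (O i) := fun t =>
    list_prod_mem (List.forall_mem_map.2 fun p hr => x_mem_XJ (hp _ (List.mem_map_of_mem hr)) _)
  obtain ⟨ξ', η', b1, b2, b3, b4⟩ := exists_r1 h hθ hr a1 (fun t => ⟨h1 t, h2 t⟩) h6 (fun g hg hX => by
    obtain ⟨t, ht⟩ := a.surj ⟨g, hg⟩ hX
    exact ⟨t, congrArg Subtype.val (ht.trans (a.eq_of_co h.faith (g := ⟨_, h1 t⟩) (h6 t) (h3 t)).symm)⟩)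
    fun t ht => by rw [(a2 t).1, ← h5]; exact h8 t ht R h9
  exact ⟨_, fun t ht u hu => b1.h_mul ht hu, fun t => by simp [← (a2 t).2, stH, stW, b2, b3], b4⟩

theorem exists_tor_one {φ : K →+* K} (hφ : ∀ t, φ t = t ^ e i) (hi : π i = i) :
    ∃ H : φ.eqLocusField (RingHom.id K) → Γ, (∀ t ≠ 0, ∀ u ≠ 0, H (t * u) = H t * H u) ∧
      (∀ t, θ (H t) = hE D x (D.simple i) t) ∧ ∀ a ∈ RJ D x p θ (O i) ⊓ (HH D x).comap θ, ∃ t ≠ 0, a = H t := by
  have h1 : ∀ j : Fin D.rank, j.1 ∈ O i ↔ j = i := fun j => ⟨fun hj => by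
    obtain ⟨k, rfl⟩ := h.sub.orb i j hj; exact Function.iterate_fixed hi k, fun e => e ▸ h.sub.self _⟩
  have h2 : wJ D (O i) = sref D i := (eq_wJ (sref_mem_WJ (h.sub.self i)) fun j hj => by
    rw [(h1 j).1 hj, sref_simple]; exact neg_simple_neg i).symm
  simpa using exists_tor h hθ hr (i := i) (φ.eqLocusField (RingHom.id K)).subtype
    [(D.simple i, (φ.eqLocusField (RingHom.id K)).subtype)] (by simp) (fun r _ hr hr' => ⟨i, by
      by_contra h3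
      exact not_neg_of_pos (sref_pos hr h3) (h2 ▸ wJ_neg hr hr'), h.sub.self i⟩)
    (by simpa using ⟨simple_pos i, simple_inRootSub.2 (h.sub.self i)⟩)
    (fun t => h.sub.mem_of_UU h.tw h.faith (by simpa using x_mem_UU x (simple_pos i) _) (by
      simp [h.tw.map, h.tw.simple, hi, (h.exp i _).1, ← hφ, show φ t = t from t.2]))
    (fun t => h.sub.mem_of_VV h.tw h.faith (by simpa using x_mem_VV x (neg_simple_neg i) _) (by
      simp [h.tw.map, h.tw.neg _ (simple_lt i), h.tw.simple, hi, (h.exp i _).2, ← hφ, show φ t = t from t.2]))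
    (fun t => by simpa using Co.self i t.1)
    (fun g hg t ht => ⟨⟨t, by rw [RingHom.mem_eqLocusField, hφ]; exact (hi ▸ h.co_pi hg ht).unique h.faith ht⟩, rfl⟩)
    (by simpa [h2] using NRep.simple x i)

omit hθ hr in
theorem mem_zker_of {a : Fin D.rank → Kˣ} (ha : hProd D x a = 1) : a ∈ zker D K := fun j => Units.ext (by
  have := h.st.acts_hProd a (D.simple j) 1
  exact (h.faith.x_inj (simple_lt j) (by simpa [ha] using this)).symm)

omit h hθ hr hD hN in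
theorem mem_comm_of {ξ : L → G} (h1 : ∀ t u, ξ (t + u) = ξ t * ξ u) (h2 : ∀ t, ξ t ∈ S) {g : G} (hg : g ∈ S) {c : L}
    (hc : c ≠ 1) (h3 : ∀ t, g * ξ t * g⁻¹ = ξ (c * t)) (t : L) : ξ t ∈ ⁅S, S⁆ := by
  have := Subgroup.commutator_mem_commutator hg (h2 (t / (c - 1)))
  rwa [commutatorElement_def, h3, ← add_fam_neg h1, ← h1, show c * (t / (c - 1)) + -(t / (c - 1)) = t by
    field_simp [sub_ne_zero.2 hc]; ring] at this

end Cfsg.Agent.H8
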