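import Cfsg.Agent.H8.TwR

/-! Further steps for filtered central extensions. -/

set_option autoImplicit false
set_option linter.unusedSectionVars false

namespace Cfsg.Agent.H8

open scoped commutatorElement

variable {E K : Type*} [Group E] [Field K] {Z T N : Subgroup E} {P : ℕ → Subgroup E} {n j k : ℕ} {co ch : ℕ → E → K}
  {a b c h : E}

theorem commute_of_coprime (hz : ⁅h, a⁆ ∈ Subgroup.center E) {m l : ℕ} (h1 : Commute h (a ^ m)) (h2 : Commute (h ^ l) a)
    (hc : m.Coprime l) : Commute h a := by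
  have key : ∀ {h a : E}, ⁅h, a⁆ ∈ Subgroup.center E → ∀ m : ℕ, ⁅h, a ^ m⁆ = ⁅h, a⁆ ^ m := fun {h a} hz m => by
    induction m with
    | zero => simp
    | succ m ih =>
      rw [pow_succ', pow_succ', ← ih, show ⁅h, a * a ^ m⁆ = ⁅h, a⁆ * (a * ⁅h, a ^ m⁆ * a⁻¹) by
        simp [commutatorElement_def, mul_assoc], ih, Subgroup.mem_center_iff.1 (pow_mem hz m) a, mul_inv_cancel_right]
  have h3 := key hz m
  have h4 := key (h := a) (a := h) (by simpa using inv_mem hz) l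
  rw [commutatorElement_eq_one_iff_commute.2 h1] at h3
  rw [commutatorElement_eq_one_iff_commute.2 h2.symm, ← commutatorElement_inv, inv_pow, eq_comm, inv_eq_one] at h4
  rw [← commutatorElement_eq_one_iff_commute, ← pow_one ⁅h, a⁆, ← hc, pow_gcd_eq_one]
  exact ⟨h3.symm, h4⟩

theorem comm_congr' {u v u' v' : E} (h1 : Commute (u⁻¹ * u') v) (h2 : Commute u' (v⁻¹ * v')) : ⁅u, v⁆ = ⁅u', v'⁆ :=
  calc ⁅u, v⁆ = u * (v * (u⁻¹ * u')) * u'⁻¹ * v⁻¹ := by group
    _ = u' * v * (u'⁻¹ * (v⁻¹ * v')) * v'⁻¹ := by rw [← h1.eq]; group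
    _ = _ := by rw [h2.inv_left.eq]; group

theorem PairC.symm (h : PairC T P co ch j k N) : PairC T P co ch k j N :=
  h.imp (fun ⟨g, hg, h⟩ => ⟨g, hg, by tauto⟩) (Or.imp (And.imp_right fun h v hv => (h v hv).imp fun _ h => ⟨h.1, h.2.symm⟩)
    fun h a ha b hb => let ⟨a', h1, b', h2, h3, h4, h5⟩ := h b hb a ha; ⟨b', h2, a', h1, h4, h3, by simpa using inv_mem h5⟩)

namespace Filt

variable (F : Filt Z T P n co ch)
include F

theorem abel [Finite K] {m m' : ℕ} (hm : m ≤ n) (hm' : m' ≤ n) (hA : ∀ a ∈ P m, ∀ b ∈ P m', ⁅a, b⁆ ∈ Z)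
    (hp : ∀ j < n, ∀ k < n, m ≤ j → m' ≤ k → PairC T P co ch j k ⊥) : ∀ a ∈ P m, ∀ b ∈ P m', Commute a b := by
  let _ := L0.centerCG E
  classical
  have key : ∀ l j k, m ≤ j → j ≤ n → m' ≤ k → k ≤ n → 2 * n = j + k + l → ∀ a ∈ P j, ∀ b ∈ P k, Commute a b := by
    intro l
    induction l with
    | zero => intro j k _ h2 _ h4 h5 a ha b _; exact F.commute (F.last ((show j = n by omega) ▸ ha)) b
    | succ l ih =>
      intro j k h1 h2 h3 h4 h5
      obtain rfl | h2 := h2.eq_or_lt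
      · exact fun a ha b _ => F.commute (F.last ha) b
      obtain rfl | h4 := h4.eq_or_lt
      · exact fun a _ b hb => (F.commute (F.last hb) a).symm
      have hz : ∀ a ∈ P j, ∀ b ∈ P k, ⁅a, b⁆ ∈ Subgroup.center E := fun a ha b hb =>
        F.cen (hA a (F.anti h2.le h1 ha) b (F.anti h4.le h3 hb))
      have c := F.crd j h2
      have d := F.crd k h4
      let f : E → E → Subgroup.center E := fun a b => if h : ⁅a, b⁆ ∈ Subgroup.center E then ⟨_, h⟩ else 1
      have hf : ∀ a ∈ P j, ∀ b ∈ P k, f a b = ⁅a, b⁆ := fun a ha b hb => by simp only [f, dif_pos (hz a ha b hb)]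
      have p : PairD f (P j) (P (j + 1)) (P k) (P (k + 1)) T := by
        refine ⟨fun a ha a' ha' b hb => Subtype.ext ?_, fun a ha b hb b' hb' => Subtype.ext ?_, fun a ha b hb => Subtype.ext ?_,
          fun a ha b hb => Subtype.ext ?_, fun h hh a ha b hb => Subtype.ext ?_⟩
        · rw [Subgroup.coe_mul, hf _ (mul_mem ha ha') b hb, hf a ha b hb, hf a' ha' b hb,
            show ⁅a * a', b⁆ = a * ⁅a', b⁆ * a⁻¹ * ⁅a, b⁆ by simp [commutatorElement_def, mul_assoc],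
            Subgroup.mem_center_iff.1 (hz a' ha' b hb), mul_inv_cancel_right, Subgroup.mem_center_iff.1 (hz a' ha' b hb)]
        · rw [Subgroup.coe_mul, hf a ha _ (mul_mem hb hb'), hf a ha b hb, hf a ha b' hb',
            show ⁅a, b * b'⁆ = ⁅a, b⁆ * (b * ⁅a, b'⁆ * b⁻¹) by simp [commutatorElement_def, mul_assoc],
            Subgroup.mem_center_iff.1 (hz a ha b' hb') b, mul_inv_cancel_right]
        · rw [hf a (c.le ha) b hb]
          exact commutatorElement_eq_one_iff_commute.2 (ih (j + 1) k (by omega) h2 h3 h4.le (by omega) a ha b hb)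
        · rw [hf a ha b (d.le hb)]
          exact commutatorElement_eq_one_iff_commute.2 (ih j (k + 1) h1 h2.le (by omega) h4 (by omega) a ha b hb)
        · rw [hf _ (c.mem h hh a ha) _ (d.mem h hh b hb), hf a ha b hb, ← conj_comm,
            Subgroup.mem_center_iff.1 (hz a ha b hb), mul_inv_cancel_right]
      intro a ha b hb
      rw [← commutatorElement_eq_one_iff_commute, ← hf a ha b hb, OneMemClass.coe_eq_one]
      obtain ⟨h, hh, ⟨h1, h2⟩ | ⟨h1, h2⟩⟩ | ⟨h1, h2⟩ | h1 := hp j h2 k h4 h1 h3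
      · exact p.sep c d hh h1 h2 ha hb
      · exact p.symm.sep d c hh h2 h1 hb ha
      · exact p.scal c d h1 h2 ha hb
      · obtain ⟨a', ha', b', hb', e1, e2, e3⟩ := h1 a ha b hb
        rw [← p.congr c ha' ha e1 hb, ← show f a' b' = f a' b from p.symm.congr d hb' hb e2 ha']
        exact Subtype.ext ((hf a' ha' b' hb').trans e3)
  exact key (2 * n - (m + m')) m m' le_rfl hm le_rfl hm' (by omega)

theorem step3 (hk : k < n) (I : FInv Z T P (k + 1) N) (hc : ∀ a ∈ P 0, ∀ b ∈ P k, ⁅a, b⁆ ∈ N) (h1 : c ∈ P k)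
    (h2 : co k c = 1) (h3 : c * c ∈ N) (h4 : ∀ h ∈ T, ⁅h, c⁆ ∈ N) (h5 : ∀ a ∈ P k, co k a = 0 ∨ co k a = 1) :
    ∃ N', N ≤ N' ∧ c ∈ N' ∧ FInv Z T P k N' := by
  have d := F.crd k hk
  have h0 := F.anti hk.le (Nat.zero_le k) h1
  let N' : Subgroup E :=
    { carrier := {g | g ∈ N ∨ c⁻¹ * g ∈ N}
      one_mem' := Or.inl (one_mem _)
      mul_mem' := by
        rintro g g' (e | e) (e' | e')
        · exact Or.inl (mul_mem e e')
        · exact Or.inr (by simpa [mul_assoc] using mul_mem (I.conj (inv_mem h0) e) e')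
        · exact Or.inr (by simpa [mul_assoc] using mul_mem e e')
        · exact Or.inl (by simpa [mul_assoc] using mul_mem (mul_mem (I.conj h0 e) h3) e')
      inv_mem' := by
        rintro g (e | e)
        · exact Or.inl (inv_mem e)
        · exact Or.inr (by simpa [mul_assoc] using mul_mem (I.conj (inv_mem h0) (inv_mem e)) (inv_mem h3)) }
  have h6 : N ≤ N' := fun g hg => Or.inl hg
  refine ⟨N', h6, Or.inr (by simp), fun g hg => hg.elim (fun e => d.le (I.le e)) fun e => by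
    simpa using mul_mem h1 (d.le (I.le e)), fun z hz hz' => hz.elim (fun e => I.disj z e hz') fun e => ?_, fun a ha => ?_,
    fun g hg a ha => ha.imp (I.norm g hg a) fun e => ?_, fun a ha b hb => h6 (hc a ha b hb)⟩
  · have := (d.zero c h1).2 (by simpa using mul_mem (F.le _ hz') (inv_mem (I.le e)))
    exact absurd (h2.symm.trans this) one_ne_zero
  · obtain h7 | h7 := h5 a ha
    · exact (I.sup a ((d.zero a ha).1 h7)).imp fun z hz => ⟨hz.1, h6 hz.2⟩
    · exact (I.sup _ (d.eq h1 ha (h2.trans h7.symm))).imp fun z hz => ⟨hz.1, Or.inr (mul_assoc c⁻¹ a _ ▸ hz.2)⟩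
  · simpa [commutatorElement_def, mul_assoc] using mul_mem (I.conj (inv_mem h0) (h4 g hg)) (I.norm g hg _ e)

theorem chi_one (hk : k < n) (h1 : c ∈ P k) (h2 : co k c = 1) (h5 : ∀ a ∈ P k, co k a = 0 ∨ co k a = 1) (hh : h ∈ T) :
    ch k h = 1 := by
  have d := F.crd k hk
  have h3 := d.conj h hh c h1
  rw [h2, mul_one] at h3
  refine h3 ▸ (h5 _ (d.mem h hh c h1)).resolve_left fun e => ?_
  have h4 := d.conj h⁻¹ (inv_mem hh) _ (d.mem h hh c h1)
  simp [mul_assoc, h2] at h4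
  simp [← mul_assoc, e] at h4

theorem pairC_two (hj : j < n) (hk : k < n) (h1 : ∀ a ∈ P j, co j a = 0 ∨ co j a = 1) (h2 : ∀ a ∈ P k, co k a = 0 ∨ co k a = 1)
    (h3 : a ∈ P j ∧ co j a = 1) (h4 : b ∈ P k ∧ co k b = 1) (h5 : ⁅a, b⁆ ∈ N) : PairC T P co ch j k N :=
  Or.inr (Or.inr fun g hg g' hg' => (h1 g hg).elim
    (fun e => ⟨1, one_mem _, g', hg', e ▸ ((F.crd j hj).zero 1 (one_mem _)).2 (one_mem _), rfl, by simp⟩) fun e =>
    (h2 g' hg').elim (fun e' => ⟨g, hg, 1, one_mem _, rfl, e' ▸ ((F.crd k hk).zero 1 (one_mem _)).2 (one_mem _), by simp⟩)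
      fun e' => ⟨a, h3.1, b, h4.1, h3.2.trans e.symm, h4.2.trans e'.symm, h5⟩)

end Filt

open Cfsg.Lie Cfsg.Agent.H7

variable {D : ChevalleyDatum} {G : Type*} [Group G] {x : ℕ → K → G} [hD : RootFacts D] [hN : NFacts D] {lay bs : ℕ → ℕ} {ρ : Equiv.Perm ℕ}
  {g g' : G}

omit hN in
theorem LayOK.comm_mem' (L : LayOK D K ρ lay bs n) (hx : IsSt D x) {m : ℕ} (H : ∀ r < D.nroots, ∀ s < D.nroots,
    D.IsPosRoot r ∧ j ≤ lay r → D.IsPosRoot s ∧ k ≤ lay s → ∀ c ∈ D.commTerms r s, m ≤ lay c.1)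
    (hg : g ∈ XS x (FL D lay j)) (hy : g' ∈ XS x (FL D lay k)) : ⁅g, g'⁆ ∈ XS x (FL D lay m) := by
  refine comm_mem_closure (fun g hg _ => L.conj hx upL_FL (XS_FL_le j hg)) ?_ hg
  rintro _ ⟨r, hr, t, rfl⟩
  rw [← inv_mem_iff]
  simp only [_root_.mul_inv_rev, inv_inv, ← mul_assoc]
  refine comm_mem_closure (fun g hg _ => L.conj hx upL_FL (XS_FL_le k hg)) ?_ hy
  rintro _ ⟨s, hs, u, rfl⟩
  by_cases h : s = r
  · rw [h, (hx.commute_self r u t).eq]; simp
  have := hx.comm' h (ne_neg_of_pos (one_mem _) hr.1 hs.1) (-t) (-u)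
  rw [hx.neg, hx.neg, inv_inv, inv_inv] at this
  rw [this]
  refine ev_mem fun p hp => ?_
  obtain ⟨c, hc, rfl⟩ := mem_commWord hp
  obtain ⟨-, -, -, h1, h2, h3⟩ := commTerms_spec hc
  exact x_mem_XS (And.intro (pos_comb hr.1 hs.1 h1 h2 h3).1 (H r hr.1.1 s hs.1.1 hr hs c hc)) _

theorem IsSt.nE_conj_two (hx : IsSt D x) (h2 : (2 : K) = 0) {r s k : ℕ}
    (h : r < D.nroots ∧ s < D.nroots ∧ k < D.nroots ∧ wt D k = wt D s - A D r s • wt D r) (u : K) :
    nE D x r 1 * x s u * (nE D x r 1)⁻¹ = x k u := by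
  rw [hx.nE_conj h.1 one_ne_zero, wt_inj (W_lt (refl_mem r) h.2.1) h.2.2.1 (by rw [wt_refl, h.2.2.2])]
  rcases eta_cases (D := D) r s with e | e <;> simp [e, show (-1 : K) = 1 by linear_combination -h2]

theorem IsSt.pow_HH [Fintype K] (hx : IsSt D x) (hg : g ∈ HH D x) : g ^ (Fintype.card K - 1) = 1 := by
  obtain ⟨a, rfl⟩ := hx.exists_hProd hx.R3_of_finite hg
  rw [← hx.hProdHom_eq hx.R3_of_finite, ← map_pow, show a ^ (Fintype.card K - 1) = 1 from
    funext fun i => Units.ext (FiniteField.pow_card_sub_one_eq_one _ (a i).ne_zero), map_one]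

end Cfsg.Agent.H8
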